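/-
Finite group lemmas: a subgroup whose involution-fixed points and root-fixed points are small.
-/
import Mathlib.GroupTheory.Transfer
import Mathlib.GroupTheory.Perm.Cycle.Type
import Mathlib.GroupTheory.FixedPointFree
import Mathlib.GroupTheory.SpecificGroups.Cyclic
import Mathlib.GroupTheory.Nilpotent

set_option autoImplicit false

namespace CfsgLib.Classical22.OPow.Three

variable {G : Type*} [Group G]

/-- Orbit count for a normalised subgroup. -/
theorem card_coprime_of_fix [Finite G] {p : ℕ} [Fact p.Prime] {K R : Subgroup G} {x : G} (hx : x ^ p = 1)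
    (hRK : R ≤ K) (hn : ∀ k ∈ K, x * k * x⁻¹ ∈ K) (hR : ∀ r ∈ R, x * r = r * x)
    (hfix : ∀ k ∈ K, x * k = k * x → k ∈ R) (hp : ¬ p ∣ Nat.card R) : ¬ p ∣ Nat.card K := by
  classical
  haveI : Fintype K := Fintype.ofFinite K
  obtain ⟨σ, hσ⟩ : ∃ σ : Equiv.Perm K, ∀ k, (σ k).1 = x * k.1 * x⁻¹ :=
    ⟨Equiv.ofBijective (fun k : K => (⟨x * k.1 * x⁻¹, hn _ k.2⟩ : K)) (Finite.injective_iff_bijective.mp
      fun a b h => Subtype.ext (mul_left_cancel (mul_right_cancel (congrArg Subtype.val h)))), fun k => rfl⟩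
  have hpow : ∀ (i : ℕ) k, ((σ ^ i) k).1 = x ^ i * k.1 * (x ^ i)⁻¹ := fun i => by
    induction i with
    | zero => intro k; simp
    | succ i ih => intro k; rw [pow_succ' σ, Equiv.Perm.mul_apply, hσ, ih, pow_succ']; group
  have hp1 : σ ^ p ^ 1 = 1 := Equiv.ext fun k => Subtype.ext (by rw [hpow, pow_one, hx]; simp)
  have h := Equiv.Perm.card_compl_support_modEq (p := p) hp1
  have hc : σ.supportᶜ.card = Nat.card R := by
    rw [← Nat.card_eq_finsetCard]
    refine Nat.card_congr ⟨fun k => ⟨k.1.1, hfix _ k.1.2 ?_⟩, fun r => ⟨⟨r.1, hRK r.2⟩, ?_⟩, fun k => rfl, fun r => rfl⟩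
    · have h1 := k.2
      rw [Finset.mem_compl, Equiv.Perm.notMem_support] at h1
      exact mul_inv_eq_iff_eq_mul.mp ((hσ k.1).symm.trans (congrArg Subtype.val h1))
    · rw [Finset.mem_compl, Equiv.Perm.notMem_support]
      exact Subtype.ext (by rw [hσ, hR r.1 r.2, mul_inv_cancel_right])
  intro hd
  rw [hc, ← Nat.card_eq_fintype_card] at h
  exact hp ((Nat.ModEq.dvd_iff h dvd_rfl).mpr hd)

/-- An element of odd order fixing a pair of elements fixes each. -/
lemma commute_of_sq {x k : G} {n : ℕ} (hn : Odd n) (hx : x ^ n = 1) (h : Commute (x * x) k) : Commute x k := by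
  obtain ⟨j, rfl⟩ := hn
  have e : x = (x * x) ^ (j + 1) := by
    rw [← pow_two, ← pow_mul, show 2 * (j + 1) = (2 * j + 1) + 1 by ring, pow_succ, hx, one_mul]
  rw [e]
  exact h.pow_left _

/-- A finite abelian two-group with at most one involution is cyclic. -/
theorem isCyclic_of_one_involution {A : Type*} [Group A] [Finite A] (hA : IsPGroup 2 A)
    (hc : ∀ x y : A, x * y = y * x) {a : A} (ha : ∀ x : A, x * x = 1 → x = 1 ∨ x = a) : IsCyclic A := by
  classical
  haveI : Fintype A := Fintype.ofFinite A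
  have hle : ∀ j : ℕ, (Finset.univ.filter fun x : A => x ^ 2 ^ j = 1).card ≤ 2 ^ j := by
    intro j
    induction j with
    | zero =>
      refine Finset.card_le_one.mpr fun x hx y hy => ?_
      simp only [Finset.mem_filter, pow_zero, pow_one] at hx hy
      rw [hx.2, hy.2]
    | succ j ih =>
      have h1 := Finset.card_le_mul_card_image (f := fun x : A => x * x)
        (Finset.univ.filter fun x : A => x ^ 2 ^ (j + 1) = 1) 2 fun z hz => by
          obtain ⟨x₀, -, rfl⟩ := Finset.mem_image.mp hz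
          refine (Finset.card_le_card (t := {x₀, x₀ * a}) fun x hx => ?_).trans Finset.card_le_two
          simp only [Finset.mem_filter] at hx
          have h0 : (x₀⁻¹ * x) * (x₀⁻¹ * x) = 1 := by
            rw [show (x₀⁻¹ * x) * (x₀⁻¹ * x) = x₀⁻¹ * (x * x₀⁻¹) * x by group, hc x x₀⁻¹,
              show x₀⁻¹ * (x₀⁻¹ * x) * x = x₀⁻¹ * x₀⁻¹ * (x * x) by group, hx.2]
            group
          rcases ha _ h0 with h | h
          · simp [(inv_mul_eq_one.mp h).symm]
          · simp [(inv_mul_eq_iff_eq_mul.mp h)]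
      refine h1.trans ?_
      rw [pow_succ' 2 j]
      refine Nat.mul_le_mul_left 2 ((Finset.card_le_card fun z hz => ?_).trans ih)
      obtain ⟨x, hx, rfl⟩ := Finset.mem_image.mp hz
      simp only [Finset.mem_filter, Finset.mem_univ, true_and] at hx ⊢
      rw [← pow_two, ← pow_mul, hx]
  obtain ⟨e, he⟩ := hA.exists_card_eq
  refine isCyclic_of_card_pow_eq_one_le fun n hn => ?_
  obtain ⟨j, -, hj⟩ := (Nat.dvd_prime_pow Nat.prime_two).mp (Nat.gcd_dvd_right n (2 ^ e))
  refine ((Finset.card_le_card fun x hx => ?_).trans (hle j)).trans ?_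
  · simp only [Finset.mem_filter, Finset.mem_univ, true_and] at hx ⊢
    rw [← hj]
    exact pow_gcd_eq_one.mpr ⟨hx, he ▸ pow_card_eq_one'⟩
  · rw [← hj]
    exact Nat.le_of_dvd hn (Nat.gcd_dvd_left n _)

/-- The structure forced by small fixed points of an involution and of a root. -/
theorem exists_odd_part [Finite G] {K R : Subgroup G} {a b x : G} {p : ℕ} (hp : Odd p) (hx : x ^ p = 1)
    (hRK : R ≤ K) (haR : a ∈ R) (haa : a * a = 1) (ha1 : a ≠ 1) (hbb : b * b = 1)
    (haK : ∀ k ∈ K, a * k = k * a) (hRc : ∀ r ∈ R, ∀ r' ∈ R, r * r' = r' * r)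
    (hR2 : ∀ r ∈ R, r * r = 1 → r = 1 ∨ r = a) (hbR : ∀ r ∈ R, b * r * b = r⁻¹)
    (hbK : ∀ k ∈ K, b * k * b ∈ K) (hCb : ∀ k ∈ K, b * k = k * b → k = 1 ∨ k = a)
    (hxK : ∀ k ∈ K, x * k * x⁻¹ ∈ K) (hxb : x * b = b * x) (hxR : ∀ r ∈ R, x * r = r * x)
    (hfix : ∀ k ∈ K, x * k = k * x → k ∈ R) :
    ∃ O : Subgroup G, O ≤ K ∧ Odd (Nat.card O) ∧ (∀ u ∈ O, ∀ v ∈ O, u * v = v * u) ∧ (∀ u ∈ O, b * u * b = u⁻¹) ∧
      (∀ g : G, (∀ k ∈ K, g * k * g⁻¹ ∈ K) → ∀ u ∈ O, g * u * g⁻¹ ∈ O) ∧ (O ≤ R → K ≤ R) := by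
  classical
  -- conjugates of `b` in `bR`
  have hfibre : ∀ k ∈ K, k * b * k⁻¹ * b ∈ R → k ∈ R := by
    intro k hk hkb
    have hbinv : b⁻¹ = b := inv_eq_of_mul_eq_one_right hbb
    have hxy : Commute x (k * b * k⁻¹) := by
      have h1 : Commute x (k * b * k⁻¹ * b * b) := Commute.mul_right (hxR _ hkb) hxb
      rwa [mul_assoc, hbb, mul_one] at h1
    obtain ⟨k', hk'⟩ : ∃ k', k' = x * k * x⁻¹ := ⟨_, rfl⟩
    have hk'K : k' ∈ K := hk' ▸ hxK k hk
    have h3 : k' * b * k'⁻¹ = k * b * k⁻¹ := by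
      rw [hk', show x * k * x⁻¹ * b * (x * k * x⁻¹)⁻¹ = x * (k * (x⁻¹ * b * x) * k⁻¹) * x⁻¹ by group,
        show x⁻¹ * b * x = b by rw [mul_assoc, ← hxb, inv_mul_cancel_left], hxy.eq, mul_inv_cancel_right]
    have h4 : b * (k⁻¹ * k') = (k⁻¹ * k') * b := by
      have := congrArg (fun z => k⁻¹ * z * k') h3
      simpa [mul_assoc] using this.symm
    rcases hCb _ (K.mul_mem (K.inv_mem hk) hk'K) h4 with h | h
    · exact hfix k hk (mul_inv_eq_iff_eq_mul.mp (hk'.symm.trans (inv_mul_eq_one.mp h).symm))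
    · have hka : x * k * x⁻¹ = k * a := hk'.symm.trans (inv_mul_eq_iff_eq_mul.mp h)
      have hxa : x * a * x⁻¹ = a := by rw [hxR a haR, mul_inv_cancel_right]
      have h2 : Commute (x * x) k := by
        have e : x * x * k * (x * x)⁻¹ = k := by
          rw [show x * x * k * (x * x)⁻¹ = x * (x * k * x⁻¹) * x⁻¹ by group, hka,
            show x * (k * a) * x⁻¹ = (x * k * x⁻¹) * (x * a * x⁻¹) by group, hka, hxa, mul_assoc, haa, mul_one]
        exact mul_inv_eq_iff_eq_mul.mp e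
      exact hfix k hk (commute_of_sq hp hx h2).eq
  -- an invariant Sylow subgroup
  obtain ⟨σ, hσ⟩ : ∃ σ : MulAut K, ∀ k, (σ k).1 = b * k.1 * b :=
    ⟨{ toFun := fun k => ⟨b * k.1 * b, hbK _ k.2⟩
       invFun := fun k => ⟨b * k.1 * b, hbK _ k.2⟩
       left_inv := fun k => Subtype.ext (by
        change b * (b * k.1 * b) * b = k.1
        rw [show b * (b * k.1 * b) * b = (b * b) * k.1 * (b * b) by group, hbb, one_mul, mul_one])
       right_inv := fun k => Subtype.ext (by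
        change b * (b * k.1 * b) * b = k.1
        rw [show b * (b * k.1 * b) * b = (b * b) * k.1 * (b * b) by group, hbb, one_mul, mul_one])
       map_mul' := fun k l => Subtype.ext (by
        change b * (k.1 * l.1) * b = (b * k.1 * b) * (b * l.1 * b)
        rw [show (b * k.1 * b) * (b * l.1 * b) = b * k.1 * (b * b) * l.1 * b by group, hbb]; group) }, fun k => rfl⟩
  have hσ2 : σ * σ = 1 := MulEquiv.ext fun k => Subtype.ext (by
    rw [MulAut.mul_apply, hσ, hσ, show b * (b * k.1 * b) * b = (b * b) * k.1 * (b * b) by group, hbb, one_mul, mul_one]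
    rfl)
  haveI : Fintype (Sylow 2 K) := Fintype.ofFinite _
  obtain ⟨P, hP⟩ : ∃ P : Sylow 2 K, σ • P = P := by
    have h := Equiv.Perm.exists_fixed_point_of_prime (p := 2) (n := 1)
      (σ := MulAction.toPermHom (MulAut K) (Sylow 2 K) σ)
      (by rw [← Nat.card_eq_fintype_card]; exact not_dvd_card_sylow 2 K) (by rw [pow_one, pow_two, ← map_mul, hσ2, map_one])
    exact h
  have hPb : ∀ k : K, k ∈ (P : Subgroup K) → σ k ∈ (P : Subgroup K) := fun k hk => by
    have h1 : σ k ∈ ((σ • P : Sylow 2 K) : Subgroup K) := Subgroup.smul_mem_pointwise_smul k σ _ hk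
    rwa [hP] at h1
  have hPR : ∀ k : K, k ∈ (P : Subgroup K) → k.1 ∈ R := by
    obtain ⟨P1, hP1⟩ : ∃ P1 : Subgroup P, P1 = (R.subgroupOf K).subgroupOf P := ⟨_, rfl⟩
    suffices h : P1 = ⊤ by
      intro k hk
      have : (⟨k, hk⟩ : P) ∈ P1 := h ▸ Subgroup.mem_top _
      rw [hP1] at this
      exact this
    by_contra hne
    haveI : Fact (Nat.Prime 2) := ⟨Nat.prime_two⟩
    haveI := IsPGroup.isNilpotent (p := 2) (G := P) P.2
    obtain ⟨n, hn, hnR⟩ := SetLike.exists_of_lt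
      (Group.normalizerCondition_of_isNilpotent P1 (lt_of_le_of_ne le_top hne))
    -- the involution acts on the cosets in the normaliser
    obtain ⟨N, hN⟩ : ∃ N : Subgroup P, N = Subgroup.normalizer (P1 : Set P) := ⟨_, rfl⟩
    obtain ⟨τ, hτ⟩ : ∃ τ : P ≃* P, ∀ q, (τ q).1 = σ q.1 :=
      ⟨{ toFun := fun q => ⟨σ q.1, hPb _ q.2⟩
         invFun := fun q => ⟨σ q.1, hPb _ q.2⟩
         left_inv := fun q => Subtype.ext (by
          change (σ * σ) q.1 = q.1; rw [hσ2]; rfl)
         right_inv := fun q => Subtype.ext (by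
          change (σ * σ) q.1 = q.1; rw [hσ2]; rfl)
         map_mul' := fun q r => Subtype.ext (map_mul σ _ _) }, fun q => rfl⟩
    have hmem : ∀ q : P, q ∈ P1 ↔ q.1.1 ∈ R := fun q => by rw [hP1]; rfl
    have hbR' : ∀ g, g ∈ R → b * g * b ∈ R := fun g hg => by rw [hbR g hg]; exact R.inv_mem hg
    have hτ1 : ∀ q, q ∈ P1 → τ q ∈ P1 := fun q hq => (hmem _).mpr (by
      rw [hτ, hσ]; exact hbR' _ ((hmem q).mp hq))
    have hττ : ∀ q, τ (τ q) = q := fun q => Subtype.ext (by
      rw [hτ, hτ]; exact DFunLike.congr_fun hσ2 q.1)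
    have hτN : ∀ q, q ∈ N → τ q ∈ N := fun q hq => by
      rw [hN, Subgroup.mem_normalizer_iff] at hq ⊢
      intro r
      constructor
      · intro hr
        have h := hτ1 _ ((hq (τ r)).mp (hτ1 r hr))
        rwa [map_mul, map_mul, map_inv, hττ] at h
      · intro hr
        have h := hτ1 _ ((hq (τ r)).mpr (by
          have := hτ1 _ hr
          rwa [map_mul, map_mul, map_inv, hττ] at this))
        rwa [hττ] at h
    obtain ⟨P1N, hP1N⟩ : ∃ P1N : Subgroup N, P1N = P1.subgroupOf N := ⟨_, rfl⟩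
    haveI : Fintype (N ⧸ P1N) := Fintype.ofFinite _
    obtain ⟨μ, hμ⟩ : ∃ μ : Equiv.Perm (N ⧸ P1N), ∀ q : N, μ q = ((⟨τ q.1, hτN _ q.2⟩ : N) : N ⧸ P1N) := by
      obtain ⟨f, hf⟩ : ∃ f : N ⧸ P1N → N ⧸ P1N, ∀ q : N, f q = ((⟨τ q.1, hτN _ q.2⟩ : N) : N ⧸ P1N) := by
        refine ⟨Quotient.map' (fun q => ⟨τ q.1, hτN _ q.2⟩) fun q r h => ?_, fun q => rfl⟩
        rw [QuotientGroup.leftRel_apply, hP1N] at h ⊢
        change (τ q.1)⁻¹ * τ r.1 ∈ P1
        rw [← map_inv, ← map_mul]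
        exact hτ1 _ h
      have hinv : ∀ z, f (f z) = z := by
        intro z
        induction z using QuotientGroup.induction_on with
        | _ q => rw [hf, hf]; congr 1; exact Subtype.ext (hττ q.1)
      exact ⟨Function.Involutive.toPerm f hinv, hf⟩
    have h2 : 2 ∣ Fintype.card (N ⧸ P1N) := by
      rw [← Nat.card_eq_fintype_card]
      obtain ⟨j, hj⟩ := (P.2.to_subgroup N).index P1N
      change 2 ∣ P1N.index
      rw [hj]
      rcases j.eq_zero_or_pos with rfl | hj0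
      · exfalso
        rw [pow_zero, Subgroup.index_eq_one, hP1N] at hj
        have : (⟨n, hN ▸ hn⟩ : N) ∈ P1.subgroupOf N := hj ▸ Subgroup.mem_top _
        exact hnR this
      · exact dvd_pow_self 2 hj0.ne'
    have hμ2 : μ ^ 2 ^ 1 = 1 := Equiv.ext fun z => by
      induction z using QuotientGroup.induction_on with
      | _ q => rw [pow_one, pow_two, Equiv.Perm.mul_apply, hμ, hμ]; congr 1; exact Subtype.ext (hττ q.1)
    obtain ⟨z, hz, hz1⟩ := Equiv.Perm.exists_fixed_point_of_prime' h2 hμ2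
      (a := ((1 : N) : N ⧸ P1N)) (by rw [hμ]; congr 1; exact Subtype.ext (map_one τ))
    induction z using QuotientGroup.induction_on with
    | _ q =>
      rw [hμ, QuotientGroup.eq, hP1N] at hz
      have hq : (τ q.1)⁻¹ * q.1 ∈ P1 := hz
      have h := (hmem _).mp hq
      simp only [Subgroup.coe_mul, Subgroup.coe_inv, hτ, hσ] at h
      have hkb : q.1.1.1⁻¹ * b * q.1.1.1⁻¹⁻¹ * b ∈ R := by
        rw [inv_inv]
        have e : q.1.1.1⁻¹ * b * q.1.1.1 * b = ((b * q.1.1.1 * b)⁻¹ * q.1.1.1)⁻¹ := by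
          rw [mul_inv_rev, inv_inv, mul_assoc, mul_assoc, ← mul_assoc b]
        rw [e]
        exact R.inv_mem h
      have hqR := hfibre _ (K.inv_mem q.1.1.2) hkb
      exact hz1 ((QuotientGroup.eq).mpr (by rw [hP1N]; exact (hmem _).mpr (by simpa using hqR))).symm
  -- the normal complement
  haveI : Fact (Nat.Prime 2) := ⟨Nat.prime_two⟩
  have haK' : (⟨a, hRK haR⟩ : K) ∈ (P : Subgroup K) := by
    obtain ⟨Z, hZ⟩ : ∃ Z, Z = Subgroup.zpowers (⟨a, hRK haR⟩ : K) := ⟨_, rfl⟩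
    have hn : (Subgroup.zpowers (⟨a, hRK haR⟩ : K)).Normal := ⟨fun z hz g => by
      obtain ⟨i, rfl⟩ := Subgroup.mem_zpowers_iff.mp hz
      have hga : Commute g ⟨a, hRK haR⟩ := Subtype.ext (haK g.1 g.2).symm
      rw [(hga.zpow_right i).eq, mul_inv_cancel_right]
      exact Subgroup.zpow_mem _ (Subgroup.mem_zpowers _) i⟩
    have hp2 : IsPGroup 2 (Subgroup.zpowers (⟨a, hRK haR⟩ : K)) := by
      refine IsPGroup.of_card (n := 1) ?_
      rw [Nat.card_zpowers, pow_one]
      refine orderOf_eq_prime ?_ fun h => ha1 (congrArg Subtype.val h)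
      exact Subtype.ext (by rw [SubmonoidClass.coe_pow, pow_two, haa]; rfl)
    obtain ⟨Q, hQ⟩ := hp2.exists_le_sylow
    obtain ⟨g, hg⟩ := MulAction.exists_smul_eq K Q P
    have h1 : MulAut.conj g (⟨a, hRK haR⟩ : K) ∈ ((g • Q : Sylow 2 K) : Subgroup K) :=
      Subgroup.smul_mem_pointwise_smul _ (MulAut.conj g) _ (hQ (Subgroup.mem_zpowers _))
    rw [hg, MulAut.conj_apply,
      show g * (⟨a, hRK haR⟩ : K) = (⟨a, hRK haR⟩ : K) * g from Subtype.ext (haK g.1 g.2).symm,
      mul_inv_cancel_right] at h1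
    exact h1
  have hcyc : IsCyclic P := isCyclic_of_one_involution P.2 (a := ⟨⟨a, hRK haR⟩, haK'⟩)
    (fun u v => Subtype.ext (Subtype.ext (hRc _ (hPR _ u.2) _ (hPR _ v.2)))) fun u hu => by
      rcases hR2 _ (hPR _ u.2) (congrArg (fun z : P => z.1.1) hu) with h | h
      · exact Or.inl (Subtype.ext (Subtype.ext h))
      · exact Or.inr (Subtype.ext (Subtype.ext h))
  have hmin : (Nat.card K).minFac = 2 := by
    rw [Nat.minFac_eq_two_iff]
    have : orderOf (⟨a, hRK haR⟩ : K) = 2 := orderOf_eq_prime (Subtype.ext (by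
      rw [SubmonoidClass.coe_pow, pow_two, haa]; rfl)) fun h => ha1 (congrArg Subtype.val h)
    exact this ▸ orderOf_dvd_natCard _
  obtain ⟨O', hO'⟩ : ∃ O', O' = (MonoidHom.transferSylow P (hcyc.normalizer_le_centralizer hmin)).ker := ⟨_, rfl⟩
  haveI hOn : O'.Normal := hO' ▸ MonoidHom.normal_ker _
  have hcompl : O'.IsComplement' P := hO' ▸ hcyc.isComplement' hmin
  have hodd : Odd (Nat.card O') := by
    rw [Nat.odd_iff, ← Nat.two_dvd_ne_zero, hO']
    exact MonoidHom.not_dvd_card_ker_transferSylow P _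
  have hmem' : ∀ k : K, k ∈ O' ↔ Odd (orderOf k) := by
    refine fun k => ⟨fun hk => hodd.of_dvd_nat ?_, fun hk => ?_⟩
    · rw [show orderOf k = orderOf (⟨k, hk⟩ : O') from orderOf_injective O'.subtype O'.subtype_injective ⟨k, hk⟩]
      exact orderOf_dvd_natCard _
    · have h1 : orderOf (k : K ⧸ O') ∣ orderOf k := orderOf_map_dvd (QuotientGroup.mk' O') k
      have h2 : orderOf (k : K ⧸ O') ∣ Nat.card P := by
        rw [← hcompl.symm.index_eq_card]
        exact orderOf_dvd_natCard (k : K ⧸ O')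
      obtain ⟨j, hj⟩ := P.2.exists_card_eq
      rw [hj] at h2
      have := Nat.eq_one_of_dvd_coprimes ((Nat.coprime_two_left.mpr hk).pow_left j) h2 h1
      rw [orderOf_eq_one_iff] at this
      exact (QuotientGroup.eq_one_iff k).mp this
  obtain ⟨O, hO⟩ : ∃ O, O = O'.map K.subtype := ⟨_, rfl⟩
  have hOK : O ≤ K := hO ▸ Subgroup.map_subtype_le _
  have hOcard : Nat.card O = Nat.card O' := by
    rw [hO]; exact (Nat.card_congr (O'.equivMapOfInjective K.subtype K.subtype_injective).toEquiv).symm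
  have hOmem : ∀ g, g ∈ O ↔ g ∈ K ∧ Odd (orderOf g) := by
    intro g
    rw [hO, Subgroup.mem_map]
    constructor
    · rintro ⟨k, hk, rfl⟩
      exact ⟨k.2, by rw [Subgroup.coe_subtype, Subgroup.orderOf_coe]; exact (hmem' k).mp hk⟩
    · rintro ⟨hg, hgo⟩
      exact ⟨⟨g, hg⟩, (hmem' _).mpr (by rwa [← Subgroup.orderOf_coe]), rfl⟩
  have hOb : ∀ g ∈ O, b * g * b ∈ O := fun g hg => by
    refine (hOmem _).mpr ⟨hbK _ ((hOmem g).mp hg).1, ?_⟩
    have e : b * g * b = MulAut.conj b g := by rw [MulAut.conj_apply, inv_eq_of_mul_eq_one_right hbb]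
    rw [e, MulEquiv.orderOf_eq]
    exact ((hOmem g).mp hg).2
  obtain ⟨φ, hφ⟩ : ∃ φ : O →* O, ∀ g, (φ g).1 = b * g.1 * b :=
    ⟨{ toFun := fun g => ⟨b * g.1 * b, hOb _ g.2⟩
       map_one' := Subtype.ext (by change b * 1 * b = 1; rw [mul_one, hbb])
       map_mul' := fun g h => Subtype.ext (by
        change b * (g.1 * h.1) * b = (b * g.1 * b) * (b * h.1 * b)
        rw [show (b * g.1 * b) * (b * h.1 * b) = b * g.1 * (b * b) * h.1 * b by group, hbb]; group) }, fun g => rfl⟩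
  have hinvol : Function.Involutive φ := fun g => Subtype.ext (by
    rw [hφ, hφ, show b * (b * g.1 * b) * b = (b * b) * g.1 * (b * b) by group, hbb, one_mul, mul_one])
  have hfpf : MonoidHom.FixedPointFree φ := fun g hg => by
    have h1 : b * g.1 * b = g.1 := (hφ g).symm.trans (congrArg Subtype.val hg)
    rcases hCb g.1 (hOK g.2) (by
      conv_rhs => rw [← h1, mul_assoc, hbb, mul_one]) with h | h
    · exact Subtype.ext h
    · exfalso
      have h2 := ((hOmem _).mp g.2).2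
      rw [h, orderOf_eq_prime (p := 2) (by rw [pow_two, haa]) ha1] at h2
      exact absurd h2 (by decide)
  refine ⟨O, hOK, hOcard ▸ hodd, fun u hu v hv => congrArg Subtype.val
    (hfpf.commute_all_of_involutive hinvol ⟨u, hu⟩ ⟨v, hv⟩), fun u hu => ?_, fun g hg u hu => ?_, fun hOR k hk => ?_⟩
  · rw [← hφ ⟨u, hu⟩, hfpf.coe_eq_inv_of_involutive hinvol]
    rfl
  · refine (hOmem _).mpr ⟨hg _ (hOK hu), ?_⟩
    rw [show g * u * g⁻¹ = MulAut.conj g u from rfl, MulEquiv.orderOf_eq]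
    exact ((hOmem u).mp hu).2
  · obtain ⟨⟨⟨o, ho⟩, ⟨q, hq⟩⟩, he⟩ := hcompl.surjective ⟨k, hk⟩
    have e : k = o.1 * q.1 := (congrArg Subtype.val he).symm
    rw [e]
    exact R.mul_mem (hOR (hO ▸ ⟨o, ho, rfl⟩)) (hPR q hq)

/-- Averaging over a Frobenius group of automorphisms. -/
theorem pow_mem_of_frobenius {A : Type*} [CommGroup A] {V : Type*} [Fintype V] [AddGroup V]
    (u : V → A →* A) (hu : ∀ c d θ, u c (u d θ) = u (c + d) θ) (h : A →* A) {n : ℕ} (hn : 0 < n) (hhn : ∀ θ, h^[n] θ = θ)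
    (φ : ℕ → V →+ V) (hcom : ∀ j c θ, h^[j] (u c θ) = u (φ j c) (h^[j] θ))
    (hfree : ∀ j, 0 < j → j < n → ∀ c, φ j c = c → c = 0) (h0 : ∀ θ, u 0 θ = θ) {R : Subgroup A}
    (hRu : ∀ θ, (∀ c, u c θ = θ) → θ ∈ R) (hRh : ∀ c θ, u c (h (u (-c) θ)) = θ → θ ∈ R) (θ : A) :
    θ ^ Fintype.card V ∈ R := by
  obtain ⟨T, hT⟩ : ∃ T, T = fun j => ∏ c, u c (h^[j] θ) := ⟨_, rfl⟩
  have hTu : ∀ j, T j ∈ R := fun j => hRu _ fun d => by
    rw [hT, map_prod]
    simp only [hu]
    exact Fintype.prod_equiv (Equiv.addLeft d) _ _ fun c => rfl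
  obtain ⟨B, hB⟩ : ∃ B, B = fun c => ∏ j ∈ Finset.range n, u c (h^[j] (u (-c) θ)) := ⟨_, rfl⟩
  have hBR : ∀ c, B c ∈ R := fun c => hRh c _ (by
    rw [hB, map_prod, map_prod, map_prod]
    simp only [hu, neg_add_cancel, h0, ← Function.iterate_succ_apply' h]
    obtain ⟨m, rfl⟩ : ∃ m, n = m + 1 := ⟨n - 1, by omega⟩
    rw [Finset.prod_range_succ (fun j => u c (h^[j.succ] (u (-c) θ))),
      Finset.prod_range_succ' (fun j => u c (h^[j] (u (-c) θ))), hhn]
    simp)
  have hprod : ∏ c, B c = θ ^ Fintype.card V * ∏ j ∈ Finset.Ico 1 n, T j := by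
    rw [hB, Finset.prod_comm, Finset.range_eq_Ico, Finset.prod_eq_prod_Ico_succ_bot hn]
    congr 1
    · rw [← Finset.card_univ, ← Finset.prod_const]
      refine Finset.prod_congr rfl fun c _ => ?_
      rw [Function.iterate_zero_apply, hu, add_neg_cancel, h0]
    · refine Finset.prod_congr rfl fun j hj => ?_
      rw [Finset.mem_Ico] at hj
      rw [hT]
      simp only [hcom, hu]
      refine Fintype.prod_equiv (Equiv.ofBijective (fun c => c + φ j (-c))
        (Finite.injective_iff_bijective.mp fun c d hcd => ?_)) _ _ fun c => rfl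
      simp only [map_neg] at hcd
      have h1 : -d + c = φ j (-d + c) := by
        rw [map_add, map_neg]
        have e1 := congrArg (fun z => -d + z + φ j c) hcd
        simpa [add_assoc] using e1
      have h2 := hfree j hj.1 hj.2 _ h1.symm
      exact (neg_add_eq_zero.mp h2).symm
  have h1 : ∏ c, B c ∈ R := Subgroup.prod_mem _ fun c _ => hBR c
  rw [hprod] at h1
  exact (Subgroup.mul_mem_cancel_right _ (Subgroup.prod_mem _ fun j _ => hTu j)).mp h1

end CfsgLib.Classical22.OPow.Three
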