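/-
Orthogonal triples of one square class in a three-dimensional space and the stabiliser of an anisotropic vector.
-/
import Cfsg.Agent.Lib.Classical22.OrthPower.Ms

set_option autoImplicit false
set_option linter.unusedSectionVars false
set_option linter.unusedSimpArgs false

namespace CfsgLib.Classical22.OPow.Three

open Matrix CfsgLib.Transvec CfsgLib.Classical22.TensorMax CfsgLib.Classical22.TensorMax.SympO
open CfsgLib.Classical22.TensorMax.SpO (perpIn sym_outer sym_eq sym_dot sym_zero_left sym_zero_right sym_sub_left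
  sym_sub_right sym_neg_left sym_quad_add sym_quad_smul sym_gram_mul_inv nd_perpIn finrank_perpIn mem_perpIn
  exists_value exists_aniso nd_top)
open CfsgLib.Classical22.TensorMax.OO (eA eA_mulVec eA_iso sym_neg_right)
open scoped MatrixGroups

variable {F : Type*} [Field F] {f : (Fin 3 → F) → (Fin 3 → F) → F}

/-- Anisotropic vectors whose value is in the class of the discriminant. -/
def Good (f : (Fin 3 → F) → (Fin 3 → F) → F) (v : Fin 3 → F) : Prop :=
  f v v ≠ 0 ∧ IsSquare ((gram f).det * f v v)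

/-- An orthogonal triple of good vectors. -/
structure Tri (f : (Fin 3 → F) → (Fin 3 → F) → F) (v w u : Fin 3 → F) : Prop where
  hv : Good f v
  hw : Good f w
  hu : Good f u
  vw : f v w = 0
  vu : f v u = 0
  wu : f w u = 0

/-- An orthogonal triple of anisotropic vectors. -/
structure Tri0 (f : (Fin 3 → F) → (Fin 3 → F) → F) (v w u : Fin 3 → F) : Prop where
  hv : f v v ≠ 0
  hw : f w w ≠ 0
  hu : f u u ≠ 0
  vw : f v w = 0
  vu : f v u = 0
  wu : f w u = 0

lemma Tri.zero {v w u : Fin 3 → F} (T : Tri f v w u) : Tri0 f v w u :=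
  ⟨T.hv.1, T.hw.1, T.hu.1, T.vw, T.vu, T.wu⟩

variable (hf : Cfsg.Geo.IsSymmetricForm f)
include hf

/-- The value matrix of three vectors. -/
lemma gram_cols (P : Matrix (Fin 3) (Fin 3) F) (i j : Fin 3) :
    (Pᵀ * gram f * P) i j = f (fun a => P a i) (fun a => P a j) := by
  rw [sym_dot hf, mul_assoc]
  simp only [Matrix.mul_apply, Matrix.transpose_apply, Matrix.mulVec, dotProduct]
  exact Finset.sum_congr rfl fun a _ => mul_comm _ _

lemma det_gram_ne : (gram f).det ≠ 0 :=
  (Matrix.isUnit_det_of_right_inverse (sym_gram_mul_inv hf)).ne_zero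

lemma good_smul {c : F} (hc : c ≠ 0) {v : Fin 3 → F} (h : Good f v) : Good f (c • v) := by
  refine ⟨by rw [sym_quad_smul hf]; exact mul_ne_zero (mul_ne_zero hc hc) h.1, ?_⟩
  obtain ⟨r, hr⟩ := h.2
  exact ⟨c * r, by rw [sym_quad_smul hf]; linear_combination (c * c) * hr⟩

/-- Values of an orthogonal triple. -/
lemma prod_orth {v w u : Fin 3 → F} (hvw : f v w = 0) (hvu : f v u = 0) (hwu : f w u = 0) :
    (Matrix.of ![v, w, u]).det * (Matrix.of ![v, w, u]).det * (gram f).det = f v v * f w w * f u u := by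
  obtain ⟨P, hP⟩ : ∃ P, P = (Matrix.of ![v, w, u])ᵀ := ⟨_, rfl⟩
  have h1 : (Pᵀ * gram f * P).det = f v v * f w w * f u u := by
    rw [det_fin_three]
    simp only [gram_cols hf, hP, transpose_apply, of_apply, cons_val_zero, cons_val_one, cons_val_two]
    simp [hvw, hvu, hwu, hf.symm w v, hf.symm u v, hf.symm u w]
  rw [← h1, det_mul, det_mul, det_transpose, hP, det_transpose]
  ring

lemma good_third {v w u : Fin 3 → F} (hv : Good f v) (hw : Good f w) (hvw : f v w = 0) (hvu : f v u = 0)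
    (hwu : f w u = 0) (hu : f u u ≠ 0) : Good f u := by
  refine ⟨hu, ?_⟩
  obtain ⟨r, hr⟩ := hv.2
  obtain ⟨s, hs⟩ := hw.2
  obtain ⟨d, hd⟩ : ∃ d, d = (Matrix.of ![v, w, u]).det := ⟨_, rfl⟩
  have h := prod_orth hf hvw hvu hwu
  rw [← hd] at h
  have hrs : r * s ≠ 0 := by
    refine mul_ne_zero (fun h0 => ?_) fun h0 => ?_
    · rw [h0, mul_zero] at hr; exact mul_ne_zero (det_gram_ne hf) hv.1 hr
    · rw [h0, mul_zero] at hs; exact mul_ne_zero (det_gram_ne hf) hw.1 hs
  refine ⟨d * (gram f).det * (gram f).det / (r * s), ?_⟩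
  rw [div_mul_div_comm, eq_div_iff (mul_ne_zero hrs hrs)]
  have e : (r * s) * (r * s) = ((gram f).det * f v v) * ((gram f).det * f w w) := by rw [hr, hs]; ring
  rw [e]
  linear_combination -((gram f).det * (gram f).det * (gram f).det) * h

variable [Fintype F] (h2 : (2 : F) ≠ 0)
include h2

lemma exists_third {v w : Fin 3 → F} (hv : f v v ≠ 0) (hw : f w w ≠ 0) (hvw : f v w = 0) :
    ∃ u, f v u = 0 ∧ f w u = 0 ∧ f u u ≠ 0 := by
  have hnd := nd_perpIn hf (nd_top hf) Submodule.mem_top hv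
  have hwm : w ∈ perpIn f ⊤ v := (mem_perpIn hf).mpr ⟨Submodule.mem_top, by rw [hf.symm, hvw]⟩
  have h1 := finrank_perpIn hf ⊤ v
  have h3 := finrank_perpIn hf (perpIn f ⊤ v) w
  rw [finrank_top, Module.finrank_fin_fun] at h1
  obtain ⟨u, hu, hq⟩ := exists_aniso hf h2 (nd_perpIn hf hnd hwm hw) (by omega)
  obtain ⟨hu1, hu2⟩ := (mem_perpIn hf).mp hu
  exact ⟨u, by rw [hf.symm]; exact ((mem_perpIn hf).mp hu1).2, by rw [hf.symm]; exact hu2, hq⟩

/-- A good vector extends to a good triple. -/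
lemma exists_tri {v : Fin 3 → F} (hv : Good f v) : ∃ w u, Tri f v w u := by
  have h1 := finrank_perpIn hf ⊤ v
  rw [finrank_top, Module.finrank_fin_fun] at h1
  obtain ⟨w, hw, hwq⟩ := exists_value hf h2 (nd_perpIn hf (nd_top hf) Submodule.mem_top hv.1) (by omega) (f v v)
  have hvw : f v w = 0 := by rw [hf.symm]; exact ((mem_perpIn hf).mp hw).2
  have hwg : Good f w := by rw [Good, hwq]; exact hv
  obtain ⟨u, hvu, hwu, hu⟩ := exists_third hf h2 hv.1 hwg.1 hvw
  exact ⟨w, u, hv, hwg, good_third hf hv hwg hvw hvu hwu hu, hvw, hvu, hwu⟩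

lemma exists_good : ∃ v, Good f v := by
  obtain ⟨v, -, hv⟩ := exists_value hf h2 (nd_top hf) (by rw [finrank_top, Module.finrank_fin_fun]; norm_num)
    (gram f).det
  exact ⟨v, by rw [hv]; exact det_gram_ne hf, _, by rw [hv]⟩

variable {v w u : Fin 3 → F}

omit [Fintype F] h2 in
lemma Tri.swap (T : Tri f v w u) : Tri f w u v :=
  ⟨T.hw, T.hu, T.hv, T.wu, by rw [hf.symm, T.vw], by rw [hf.symm, T.vu]⟩

omit [Fintype F] h2 in
/-- Coordinates in an orthogonal triple. -/
lemma Tri0.dec (T : Tri0 f v w u) (x : Fin 3 → F) :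
    x = (f x v / f v v) • v + (f x w / f w w) • w + (f x u / f u u) • u := by
  obtain ⟨y, hy⟩ : ∃ y, y = x - ((f x v / f v v) • v + (f x w / f w w) • w + (f x u / f u u) • u) := ⟨_, rfl⟩
  have h0 : ∀ z ∈ ({v, w, u} : Set (Fin 3 → F)), f z y = 0 := by
    have a := T.hv
    have b := T.hw
    have c := T.hu
    intro z hz
    rcases hz with hz | hz | hz <;> rw [hz] <;>
      simp only [hy, sym_sub_right hf, hf.bilinear.add_right, hf.bilinear.smul_right, T.vw, T.vu, T.wu, hf.symm w v,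
        hf.symm u v, hf.symm u w, hf.symm x v, hf.symm x w, hf.symm x u, mul_zero, add_zero, zero_add] <;> field_simp <;> ring
  have hP : IsUnit (Matrix.of ![v, w, u]) := by
    rw [Matrix.isUnit_iff_isUnit_det, isUnit_iff_ne_zero]
    intro h
    have := prod_orth hf T.vw T.vu T.wu
    rw [h, mul_zero, zero_mul] at this
    exact mul_ne_zero (mul_ne_zero T.hv T.hw) T.hu this.symm
  have hy0 : Matrix.of ![v, w, u] *ᵥ (gram f *ᵥ y) = 0 := by
    funext i
    rw [Matrix.mulVec, Pi.zero_apply, dotProduct_comm]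
    fin_cases i <;> simp only [Matrix.of_apply] <;> rw [← sym_dot hf] <;> exact h0 _ (by simp)
  have h1 := Matrix.mulVec_injective_iff_isUnit.mpr hP (hy0.trans (mulVec_zero _).symm)
  have h3 := Matrix.mulVec_injective_iff_isUnit.mpr
    ((Matrix.isUnit_iff_isUnit_det _).mpr (Matrix.isUnit_det_of_right_inverse (sym_gram_mul_inv hf)))
    (h1.trans (mulVec_zero _).symm)
  rw [hy, sub_eq_zero] at h3
  exact h3

omit [Fintype F] h2 in
lemma Tri0.ext (T : Tri0 f v w u) {A B : Matrix (Fin 3) (Fin 3) F} (h1 : A *ᵥ v = B *ᵥ v) (h1' : A *ᵥ w = B *ᵥ w)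
    (h1'' : A *ᵥ u = B *ᵥ u) : A = B :=
  Matrix.ext_iff_mulVec.mpr fun x => by
    rw [T.dec hf x]
    simp only [mulVec_add, mulVec_smul, h1, h1', h1'']

omit [Fintype F] h2 in
/-- An isometry of determinant one fixing a vector of a triple is a rotation of the plane. -/
lemma Tri0.rot (T : Tri0 f v w u) {B : GL (Fin 3) F} (hB : B ∈ isoF f) (hd : B.val.det = 1) (hBv : B.val *ᵥ v = v) :
    ∃ x y : F, B.val *ᵥ w = x • w + y • u ∧ B.val *ᵥ u = (-(y * f u u) / f w w) • w + x • u ∧
      x * x * f w w + y * y * f u u = f w w := by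
  have hqv := T.hv
  have hqw := T.hw
  have hqu := T.hu
  have hwv : f (B.val *ᵥ w) v = 0 := by
    rw [← hBv, hB, hf.symm, T.vw]
  have huv : f (B.val *ᵥ u) v = 0 := by
    rw [← hBv, hB, hf.symm, T.vu]
  obtain ⟨x, y, hxy⟩ : ∃ x y : F, B.val *ᵥ w = x • w + y • u :=
    ⟨_, _, by conv_lhs => rw [T.dec hf (B.val *ᵥ w), hwv, zero_div, zero_smul, zero_add]⟩
  obtain ⟨z, s, hzs⟩ : ∃ z s : F, B.val *ᵥ u = z • w + s • u :=
    ⟨_, _, by conv_lhs => rw [T.dec hf (B.val *ᵥ u), huv, zero_div, zero_smul, zero_add]⟩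
  have e1 : x * x * f w w + y * y * f u u = f w w := by
    have h := hB w w
    simp only [hxy, hf.bilinear.add_left, hf.bilinear.add_right, hf.bilinear.smul_left, hf.bilinear.smul_right,
      T.wu, hf.symm u w] at h
    linear_combination h
  have e2 : x * z * f w w + y * s * f u u = 0 := by
    have h := hB w u
    simp only [hxy, hzs, hf.bilinear.add_left, hf.bilinear.add_right, hf.bilinear.smul_left, hf.bilinear.smul_right,
      T.wu, hf.symm u w] at h
    linear_combination h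
  have e3 : x * s - y * z = 1 := by
    obtain ⟨P, hP⟩ : ∃ P, P = (Matrix.of ![v, w, u])ᵀ := ⟨_, rfl⟩
    have hm : B.val * P = P * !![1, 0, 0; 0, x, z; 0, y, s] := by
      ext i j
      fin_cases j
      · have := congrFun hBv i
        simpa [hP, Matrix.mul_apply, Matrix.mulVec, dotProduct, Fin.sum_univ_three] using this
      · have := congrFun hxy i
        simpa [hP, Matrix.mul_apply, Matrix.mulVec, dotProduct, Fin.sum_univ_three, mul_comm] using this
      · have := congrFun hzs i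
        simpa [hP, Matrix.mul_apply, Matrix.mulVec, dotProduct, Fin.sum_univ_three, mul_comm] using this
    have hP0 : P.det ≠ 0 := fun h => by
      have := prod_orth hf T.vw T.vu T.wu
      rw [hP, det_transpose] at h
      rw [h, mul_zero, zero_mul] at this
      exact mul_ne_zero (mul_ne_zero hqv hqw) hqu this.symm
    have h := congrArg Matrix.det hm
    rw [det_mul, det_mul, hd, one_mul, det_fin_three !![1, 0, 0; 0, x, z; 0, y, s]] at h
    simp at h
    exact mul_left_cancel₀ hP0 (by linear_combination -h)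
  have hsx : s = x := by
    refine mul_right_cancel₀ hqw ?_
    linear_combination (-s) * e1 + (y : F) * e2 + x * f w w * e3
  have hz : z = -(y * f u u) / f w w := by
    rw [eq_div_iff hqw]
    linear_combination (-z) * e1 + x * e2 - y * f u u * e3
  exact ⟨x, y, hxy, hz ▸ hsx ▸ hzs, e1⟩

omit [Fintype F] h2 in
/-- Rotations about a vector commute. -/
lemma Tri0.rot_comm (T : Tri0 f v w u) {A B : GL (Fin 3) F} (hA : A ∈ isoF f) (hAd : A.val.det = 1)
    (hAv : A.val *ᵥ v = v) (hB : B ∈ isoF f) (hBd : B.val.det = 1) (hBv : B.val *ᵥ v = v) : A * B = B * A := by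
  obtain ⟨x, y, a1, a2, -⟩ := T.rot hf hA hAd hAv
  obtain ⟨x', y', b1, b2, -⟩ := T.rot hf hB hBd hBv
  refine Units.ext (T.ext hf ?_ ?_ ?_) <;>
    simp only [Units.val_mul, ← mulVec_mulVec, hAv, hBv, a1, a2, b1, b2, mulVec_add, mulVec_smul] <;> module

omit [Fintype F] h2 in
/-- A signed reflection in the plane inverts the rotations. -/
lemma Tri0.rot_inv (T : Tri0 f v w u) {B : GL (Fin 3) F} (hB : B ∈ isoF f) (hd : B.val.det = 1)
    (hBv : B.val *ᵥ v = v) : eG hf w * B * eG hf w = B⁻¹ := by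
  obtain ⟨x, y, b1, b2, e1⟩ := T.rot hf hB hd hBv
  have hev : (eG hf w).val *ᵥ v = -v := eG_perp hf T.hw T.vw
  have heu : (eG hf w).val *ᵥ u = -u := eG_perp hf T.hw (by rw [hf.symm, T.wu])
  have hew := eG_self hf T.hw
  have hq := T.hw
  refine eq_inv_of_mul_eq_one_left (Units.ext (T.ext hf ?_ ?_ ?_)) <;>
    simp only [Units.val_mul, Units.val_one, one_mulVec, ← mulVec_mulVec, hBv, b1, b2, hev, heu, hew, mulVec_add,
      mulVec_smul, mulVec_neg, smul_neg]
  · simp
  · match_scalars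
    · field_simp
      linear_combination e1
    · ring
  · match_scalars
    · ring
    · field_simp
      linear_combination e1

omit [Fintype F] in
/-- The only rotation of order two. -/
lemma Tri0.rot_two (T : Tri0 f v w u) {B : GL (Fin 3) F} (hB : B ∈ isoF f) (hd : B.val.det = 1)
    (hBv : B.val *ᵥ v = v) (h : B * B = 1) : B = 1 ∨ B = eG hf v := by
  obtain ⟨x, y, b1, b2, e1⟩ := T.rot hf hB hd hBv
  have hinv : eG hf w * B * eG hf w = B := by
    rw [T.rot_inv hf hB hd hBv]; exact inv_eq_of_mul_eq_one_right h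
  have hew := eG_self hf T.hw
  have heu : (eG hf w).val *ᵥ u = -u := eG_perp hf T.hw (by rw [hf.symm, T.wu])
  have hy : y = 0 := by
    have h1 := congrArg (fun X : GL (Fin 3) F => f (X.val *ᵥ w) u) hinv
    simp only [Units.val_mul, ← mulVec_mulVec, hew, b1, mulVec_add, mulVec_smul, heu, hf.bilinear.add_left,
      hf.bilinear.smul_left, SpO.sym_neg_left hf, T.wu] at h1
    have h3 : (2 * y) * f u u = 0 := by linear_combination -h1
    exact (mul_eq_zero.mp ((mul_eq_zero.mp h3).resolve_right T.hu)).resolve_left h2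
  rw [hy, zero_smul, add_zero] at b1
  rw [hy, zero_mul, neg_zero, zero_div, zero_smul, zero_add] at b2
  have hx : x * x = 1 := mul_right_cancel₀ T.hw (by rw [hy] at e1; linear_combination e1)
  rcases mul_self_eq_one_iff.mp hx with hx | hx <;> rw [hx] at b1 b2
  · left
    refine Units.ext (T.ext hf ?_ ?_ ?_) <;> simp [hBv, b1, b2]
  · right
    refine Units.ext (T.ext hf ?_ ?_ ?_)
    · rw [hBv, eG_self hf T.hv]
    · rw [b1, eG_perp hf T.hv (by rw [hf.symm, T.vw]), neg_one_smul]
    · rw [b2, eG_perp hf T.hv (by rw [hf.symm, T.vu]), neg_one_smul]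

omit [Fintype F] h2 in
lemma Tri.dec (T : Tri f v w u) (x : Fin 3 → F) :
    x = (f x v / f v v) • v + (f x w / f w w) • w + (f x u / f u u) • u := T.zero.dec hf x

omit [Fintype F] h2 in
lemma Tri.ext (T : Tri f v w u) {A B : Matrix (Fin 3) (Fin 3) F} (h1 : A *ᵥ v = B *ᵥ v) (h1' : A *ᵥ w = B *ᵥ w)
    (h1'' : A *ᵥ u = B *ᵥ u) : A = B := T.zero.ext hf h1 h1' h1''

omit [Fintype F] h2 in
lemma Tri.rot (T : Tri f v w u) {B : GL (Fin 3) F} (hB : B ∈ isoF f) (hd : B.val.det = 1) (hBv : B.val *ᵥ v = v) :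
    ∃ x y : F, B.val *ᵥ w = x • w + y • u ∧ B.val *ᵥ u = (-(y * f u u) / f w w) • w + x • u ∧
      x * x * f w w + y * y * f u u = f w w := T.zero.rot hf hB hd hBv

omit [Fintype F] h2 in
lemma Tri.rot_comm (T : Tri f v w u) {A B : GL (Fin 3) F} (hA : A ∈ isoF f) (hAd : A.val.det = 1)
    (hAv : A.val *ᵥ v = v) (hB : B ∈ isoF f) (hBd : B.val.det = 1) (hBv : B.val *ᵥ v = v) : A * B = B * A :=
  T.zero.rot_comm hf hA hAd hAv hB hBd hBv

omit [Fintype F] h2 in
lemma Tri.rot_inv (T : Tri f v w u) {B : GL (Fin 3) F} (hB : B ∈ isoF f) (hd : B.val.det = 1)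
    (hBv : B.val *ᵥ v = v) : eG hf w * B * eG hf w = B⁻¹ := T.zero.rot_inv hf hB hd hBv

omit [Fintype F] in
lemma Tri.rot_two (T : Tri f v w u) {B : GL (Fin 3) F} (hB : B ∈ isoF f) (hd : B.val.det = 1)
    (hBv : B.val *ᵥ v = v) (h : B * B = 1) : B = 1 ∨ B = eG hf v := T.zero.rot_two hf h2 hB hd hBv h

omit [Fintype F] h2 in
lemma exists_tri0 [Fintype F] (h2 : (2 : F) ≠ 0) {z : Fin 3 → F} (hz : f z z ≠ 0) : ∃ w u, Tri0 f z w u := by
  have h1 := finrank_perpIn hf ⊤ z
  rw [finrank_top, Module.finrank_fin_fun] at h1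
  obtain ⟨w, hw, hwq⟩ := exists_aniso hf h2 (nd_perpIn hf (nd_top hf) Submodule.mem_top hz) (by omega)
  have hzw : f z w = 0 := by rw [hf.symm]; exact ((mem_perpIn hf).mp hw).2
  obtain ⟨u, hzu, hwu, hu⟩ := exists_third hf h2 hz hwq hzw
  exact ⟨w, u, hz, hwq, hu, hzw, hzu, hwu⟩

/-- Good vectors are conjugate up to scalars under products of squares. -/
lemma exists_sq_move {a b : Fin 3 → F} (ha : Good f a) (hb : Good f b) :
    ∃ B ∈ isoSq f, ∃ c : F, c ≠ 0 ∧ B.val *ᵥ a = c • b := by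
  obtain ⟨r, hr⟩ : IsSquare (f a a * f b b) := by
    obtain ⟨r, hr⟩ := ha.2
    obtain ⟨s, hs⟩ := hb.2
    have hγ := det_gram_ne hf
    refine ⟨r * s / (gram f).det, ?_⟩
    field_simp
    linear_combination ((gram f).det * f b b) * hr + (r * r) * hs
  obtain ⟨b', hb'⟩ : ∃ b', b' = (r / f b b) • b := ⟨_, rfl⟩
  have hr0 : r ≠ 0 := fun h => mul_ne_zero ha.1 hb.1 (by rw [hr, h, mul_zero])
  have hq : f b' b' = f a a := by
    have := hb.1
    rw [hb', sym_quad_smul hf]; field_simp; linear_combination -hr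
  -- a reflection moving one to the other
  obtain ⟨x, c, hx, hc, hxa⟩ : ∃ (x : Fin 3 → F) (c : F), f x x ≠ 0 ∧ c ≠ 0 ∧ (rG hf x).val *ᵥ a = c • b := by
    have hc : r / f b b ≠ 0 := div_ne_zero hr0 hb.1
    by_cases hd : f (a - b') (a - b') = 0
    · have hd' : f (a + b') (a + b') ≠ 0 := by
        intro h0
        rw [sym_quad_add hf] at h0
        simp only [sym_sub_left hf, sym_sub_right hf, hf.symm b' a] at hd
        have h4 : 2 * (2 * f a a) = 0 := by linear_combination h0 + hd - 2 * hq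
        exact ha.1 ((mul_eq_zero.mp ((mul_eq_zero.mp h4).resolve_left h2)).resolve_left h2)
      refine ⟨a + b', _, hd', neg_ne_zero.mpr hc, ?_⟩
      rw [rG_apply hf hd']
      have e : 2 / f (a + b') (a + b') * f a (a + b') = 1 := by
        rw [div_mul_eq_mul_div, div_eq_one_iff_eq hd', sym_quad_add hf, hf.bilinear.add_right]
        linear_combination -hq
      rw [e, one_smul, neg_smul, ← hb']; abel
    · refine ⟨a - b', _, hd, hc, ?_⟩
      rw [rG_apply hf hd]
      have e : 2 / f (a - b') (a - b') * f a (a - b') = 1 := by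
        rw [div_mul_eq_mul_div, div_eq_one_iff_eq hd]
        simp only [sym_sub_left hf, sym_sub_right hf, hf.symm b' a]
        linear_combination -hq
      rw [e, one_smul, ← hb']; abel
  -- a reflection of the same class fixing the first
  have h1 := finrank_perpIn hf ⊤ a
  rw [finrank_top, Module.finrank_fin_fun] at h1
  obtain ⟨y, hy, hyq⟩ := exists_value hf h2 (nd_perpIn hf (nd_top hf) Submodule.mem_top ha.1) (by omega) (f x x)
  have hay : f a y = 0 := by rw [hf.symm]; exact ((mem_perpIn hf).mp hy).2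
  refine ⟨rG hf x * rG hf y, rG_mul_mem hf h2 hx (by rw [hyq]; exact hx) (by rw [hyq]; exact ⟨_, rfl⟩), c, hc, ?_⟩
  rw [Transvec.mul_mulVec, rG_apply hf (by rw [hyq]; exact hx) a, hay]
  simpa using hxa

end CfsgLib.Classical22.OPow.Three
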