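/-
Root elements of one slot in the three-dimensional case: centralisers and invariant groups of order prime to `p`.
-/
import Cfsg.Agent.Lib.Classical22.OrthPower.Three.Plane
import Cfsg.Agent.Lib.Classical22.OrthPower.Flag
import Cfsg.Agent.Lib.Classical22.OrthPower.RootTW

set_option autoImplicit false
set_option linter.unusedSectionVars false
set_option linter.unusedSimpArgs false

namespace CfsgLib.Classical22.OPow.Three

open Matrix CfsgLib.Transvec CfsgLib.Classical22.TensorMax CfsgLib.Classical22.TensorMax.SympO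
open CfsgLib.Classical22.TensorMax.SpO (sym_outer sym_eq sym_zero_left sym_zero_right sym_sub_left sym_sub_right
  sym_neg_left sym_quad_add sym_quad_smul exists_singular_sym)
open CfsgLib.Classical22.TensorMax.OO (eA eA_mulVec eA_iso eA_self eA_fix eA_mul eA_zero eA_sub_one eA_sub_one_sq
  eA_sub_one_cube sym_neg_right exists_partner_sym exists_aniso_pairW mem_of_nonorth)
open CfsgLib.Classical22.TWMax (Idx pv emb emb_mul emb_one emb_comm slotEl slotEl_val slotEl_mul slotEl_data TWData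
  IsTW)
open scoped MatrixGroups

variable {F : Type*} [Field F] {f : (Fin 3 → F) → (Fin 3 → F) → F}

/-- A frame of a singular vector: the partner and an anisotropic vector orthogonal to both. -/
structure Hyp (f : (Fin 3 → F) → (Fin 3 → F) → F) (e e' r : Fin 3 → F) : Prop where
  ee : f e e = 0
  ee' : f e' e' = 0
  pair : f e e' = 1
  er : f e r = 0
  e'r : f e' r = 0
  rr : f r r ≠ 0

variable (hf : Cfsg.Geo.IsSymmetricForm f) (h2 : (2 : F) ≠ 0)
include hf h2

lemma exists_hyp [Fintype F] {e : Fin 3 → F} (he : e ≠ 0) (hee : f e e = 0) : ∃ e' r, Hyp f e e' r := by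
  obtain ⟨e', h1, h3, -⟩ := exists_partner_sym hf h2 he hee
  obtain ⟨r, hr, hr', hrr⟩ := exists_aniso_pairW hf h2 le_rfl hee h1 h3
  exact ⟨e', r, hee, h1, h3, by rw [hf.symm, hr], by rw [hf.symm, hr'], hrr⟩

variable {e e' r : Fin 3 → F}

lemma Hyp.dec (H : Hyp f e e' r) (x : Fin 3 → F) :
    x = f x e' • e + f x e • e' + (f x r / f r r) • r := by
  obtain ⟨y, hy⟩ : ∃ y, y = x - (f x e' • e + f x e • e' + (f x r / f r r) • r) := ⟨_, rfl⟩
  have hrr := H.rr
  have h0 : f e y = 0 ∧ f e' y = 0 ∧ f r y = 0 := by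
    refine ⟨?_, ?_, ?_⟩ <;>
      simp only [hy, sym_sub_right hf, hf.bilinear.add_right, hf.bilinear.smul_right, H.ee, H.ee', H.pair, H.er,
        H.e'r, hf.symm e' e, hf.symm r e, hf.symm r e', hf.symm x e, hf.symm x e', hf.symm x r] <;> field_simp <;> ring
  suffices hy0 : y = 0 by rw [hy, sub_eq_zero] at hy0; exact hy0
  obtain ⟨P, hP⟩ : ∃ P, P = Matrix.of ![e + e', e - e', r] := ⟨_, rfl⟩
  have h4 : f (e + e') (e - e') = 0 := by
    simp [hf.bilinear.add_left, sym_sub_right hf, H.ee, H.ee', H.pair, hf.symm e' e]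
  have hd := prod_orth hf h4 (by simp [hf.bilinear.add_left, H.er, H.e'r] : f (e + e') r = 0)
    (by simp [sym_sub_left hf, H.er, H.e'r] : f (e - e') r = 0)
  have hPu : IsUnit P := by
    rw [Matrix.isUnit_iff_isUnit_det, isUnit_iff_ne_zero]
    intro hdet
    rw [← hP, hdet, mul_zero, zero_mul] at hd
    simp only [sym_quad_add hf, sym_sub_left hf, sym_sub_right hf, H.ee, H.ee', H.pair, hf.symm e' e] at hd
    refine mul_ne_zero (mul_ne_zero (mul_ne_zero h2 h2) hrr) (neg_ne_zero.mpr one_ne_zero) ?_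
    linear_combination -hd
  have hy1 : P *ᵥ (gram f *ᵥ y) = 0 := by
    funext i
    rw [Matrix.mulVec, Pi.zero_apply, dotProduct_comm]
    fin_cases i <;> simp only [hP, Matrix.of_apply] <;> rw [← SpO.sym_dot hf] <;>
      first
      | exact (hf.bilinear.add_left _ _ _).trans (by rw [h0.1, h0.2.1, add_zero])
      | exact (sym_sub_left hf _ _ _).trans (by rw [h0.1, h0.2.1, sub_zero])
      | exact h0.2.2
  have h1 := Matrix.mulVec_injective_iff_isUnit.mpr hPu (hy1.trans (mulVec_zero _).symm)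
  exact Matrix.mulVec_injective_iff_isUnit.mpr ((Matrix.isUnit_iff_isUnit_det _).mpr
    (Matrix.isUnit_det_of_right_inverse (SpO.sym_gram_mul_inv hf))) (h1.trans (mulVec_zero _).symm)

/-- Adding a multiple of the centre to the translation vector changes nothing. -/
lemma eA_add_self {u w : Fin 3 → F} (huu : f u u = 0) (huw : f u w = 0) (μ : F) :
    eA f u (w + μ • u) = eA f u w :=
  Matrix.ext_iff_mulVec.mpr fun x => by
    simp only [eA_mulVec hf, hf.bilinear.add_left, hf.bilinear.add_right, hf.bilinear.smul_left,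
      hf.bilinear.smul_right, huu, huw, hf.symm w u]
    match_scalars <;> field_simp <;> ring

omit h2 in
lemma eA_smul_left (c : F) (u w : Fin 3 → F) : eA f (c • u) w = eA f u (c • w) :=
  Matrix.ext_iff_mulVec.mpr fun x => by
    simp only [eA_mulVec hf, hf.bilinear.smul_left, hf.bilinear.smul_right]
    match_scalars <;> ring

omit h2 in
/-- Conjugation of an Eichler matrix. -/
lemma conj_eA {A : GL (Fin 3) F} (hA : A ∈ isoF f) (u w : Fin 3 → F) :
    A.val * eA f u w * A⁻¹.val = eA f (A.val *ᵥ u) (A.val *ᵥ w) :=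
  Matrix.ext_iff_mulVec.mpr fun x => by
    have e : ∀ z, f (A⁻¹.val *ᵥ x) z = f x (A.val *ᵥ z) := fun z => by
      rw [← hA (A⁻¹.val *ᵥ x) z, Transvec.mulVec_inv_cancel]
    rw [← mulVec_mulVec, ← mulVec_mulVec, eA_mulVec hf, eA_mulVec hf, e, e]
    simp only [mulVec_sub, mulVec_add, mulVec_smul, Transvec.mulVec_inv_cancel, hA w w]

lemma conj_eU {A : GL (Fin 3) F} (hA : A ∈ isoF f) {u w : Fin 3 → F} (huu : f u u = 0) (huw : f u w = 0) :
    A * eU hf h2 u w * A⁻¹ = eU hf h2 (A.val *ᵥ u) (A.val *ᵥ w) := by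
  refine Units.ext ?_
  rw [Units.val_mul, Units.val_mul, eU_val hf h2 huu huw, eU_val hf h2 (by rw [hA, huu]) (by rw [hA, huw]),
    conj_eA hf hA]

lemma eU_mul {u w w' : Fin 3 → F} (huu : f u u = 0) (huw : f u w = 0) (huw' : f u w' = 0) :
    eU hf h2 u w * eU hf h2 u w' = eU hf h2 u (w + w') :=
  Units.ext (by
    rw [Units.val_mul, eU_val hf h2 huu huw, eU_val hf h2 huu huw', eA_mul hf h2 huu huw huw',
      eU_val hf h2 huu (by rw [hf.bilinear.add_right, huw, huw', add_zero])])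

lemma eU_zero {u : Fin 3 → F} (huu : f u u = 0) : eU hf h2 u 0 = 1 :=
  Units.ext (by rw [eU_val hf h2 huu (sym_zero_right hf u), eA_zero hf, Units.val_one])

lemma eU_inv {u w : Fin 3 → F} (huu : f u u = 0) (huw : f u w = 0) :
    (eU hf h2 u w)⁻¹ = eU hf h2 u (-w) :=
  inv_eq_of_mul_eq_one_right (by
    rw [eU_mul hf h2 huu huw (by rw [sym_neg_right hf, huw, neg_zero]), add_neg_cancel, eU_zero hf h2 huu])

lemma eU_pow {u w : Fin 3 → F} (huu : f u u = 0) (huw : f u w = 0) (n : ℕ) :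
    eU hf h2 u w ^ n = eU hf h2 u ((n : F) • w) := by
  induction n with
  | zero => rw [pow_zero, Nat.cast_zero, zero_smul, eU_zero hf h2 huu]
  | succ n ih =>
    rw [pow_succ, ih, eU_mul hf h2 huu (by rw [hf.bilinear.smul_right, huw, mul_zero]) huw, Nat.cast_succ,
      add_smul, one_smul]

lemma eU_pow_char (p : ℕ) [CharP F p] {u w : Fin 3 → F} (huu : f u u = 0) (huw : f u w = 0) :
    eU hf h2 u w ^ p = 1 := by
  rw [eU_pow hf h2 huu huw, CharP.cast_eq_zero, zero_smul, eU_zero hf h2 huu]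

variable [Fintype F]

lemma Hyp.smul_r (H : Hyp f e e' r) (b : F) : f e (b • r) = 0 ∧ f e' (b • r) = 0 :=
  ⟨by rw [hf.bilinear.smul_right, H.er, mul_zero], by rw [hf.bilinear.smul_right, H.e'r, mul_zero]⟩

/-- The centraliser of a root element among the isometries of determinant one contains no element of order prime
to the characteristic. -/
theorem eq_one_of_cent (p : ℕ) [Fact p.Prime] [CharP F p] (H : Hyp f e e' r) {C : GL (Fin 3) F} (hC : C ∈ isoF f)
    (hd : C.val.det = 1) {n : ℕ} (hn : ¬ p ∣ n) (hCn : C ^ n = 1)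
    (hc : C.val * eA f e r = eA f e r * C.val) : C = 1 := by
  have hrr := H.rr
  obtain ⟨N, hN⟩ : ∃ N, N = eA f e r - 1 := ⟨_, rfl⟩
  have hNx : ∀ x, N *ᵥ x = f x e • r - f x r • e - (f r r / 2 * f x e) • e := fun x => by rw [hN, eA_sub_one hf]
  have hCN : ∀ x, C.val *ᵥ (N *ᵥ x) = N *ᵥ (C.val *ᵥ x) := fun x => by
    rw [hN, mulVec_mulVec, mulVec_mulVec, mul_sub, sub_mul, hc, mul_one, one_mul]
  obtain ⟨X, hX⟩ : ∃ X, X = f (C.val *ᵥ e') e := ⟨_, rfl⟩
  obtain ⟨Z, hZ⟩ : ∃ Z, Z = f (C.val *ᵥ e') e' := ⟨_, rfl⟩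
  obtain ⟨Y, hY⟩ : ∃ Y, Y = f (C.val *ᵥ e') r / f r r := ⟨_, rfl⟩
  have hCe' : C.val *ᵥ e' = Z • e + X • e' + Y • r := by rw [hX, hY, hZ]; exact H.dec hf h2 _
  have hNe' : N *ᵥ e' = r - (f r r / 2) • e := by
    rw [hNx, hf.symm e' e, H.pair, H.e'r]; simp
  have hNe : N *ᵥ e = 0 := by rw [hNx, H.ee, H.er]; simp
  have hNr : N *ᵥ r = -(f r r) • e := by rw [hNx, hf.symm r e, H.er]; simp
  have hCr : C.val *ᵥ (r - (f r r / 2) • e) = X • (r - (f r r / 2) • e) + (Y * -(f r r)) • e := by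
    rw [← hNe', hCN, hCe']
    simp only [mulVec_add, mulVec_smul, hNe, hNr, hNe', smul_zero, zero_add, smul_smul]
  have hCe : C.val *ᵥ e = X • e := by
    have h1 := hCN (r - (f r r / 2) • e)
    rw [hCr] at h1
    simp only [mulVec_sub, mulVec_add, mulVec_smul, hNe, hNr, smul_zero, sub_zero, add_zero] at h1
    rw [smul_comm X (-(f r r))] at h1
    exact (smul_right_injective _ (neg_ne_zero.mpr hrr)) h1
  have hCr' : C.val *ᵥ r = X • r + (Y * -(f r r)) • e := by
    rw [mulVec_sub, mulVec_smul, hCe] at hCr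
    linear_combination (norm := module) hCr
  have hX2 : X * X = 1 := by
    have h := hC e e'
    rw [hCe, hCe', H.pair] at h
    simp only [hf.bilinear.smul_left, hf.bilinear.add_right, hf.bilinear.smul_right, H.ee, H.pair, H.er] at h
    linear_combination h
  have hX1 : X = 1 := by
    obtain ⟨P, hP⟩ : ∃ P, P = (Matrix.of ![e, r, e'])ᵀ := ⟨_, rfl⟩
    have hm : C.val * P = P * !![X, Y * -(f r r), Z; 0, X, Y; 0, 0, X] := by
      ext i j
      fin_cases j
      · have := congrFun hCe i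
        simpa [hP, Matrix.mul_apply, Matrix.mulVec, dotProduct, Fin.sum_univ_three, mul_comm] using this
      · have := congrFun hCr' i
        simp [hP, Matrix.mul_apply, Matrix.mulVec, dotProduct, Fin.sum_univ_three] at this ⊢
        linear_combination this
      · have := congrFun hCe' i
        simp [hP, Matrix.mul_apply, Matrix.mulVec, dotProduct, Fin.sum_univ_three] at this ⊢
        linear_combination this
    have hP0 : P.det ≠ 0 := by
      intro h
      have h1 : (Pᵀ * gram f * P).det = 0 := by rw [det_mul, h, mul_zero]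
      rw [det_fin_three] at h1
      simp only [gram_cols hf, hP, transpose_apply, of_apply] at h1
      simp [H.ee, H.ee', H.pair, H.er, H.e'r, hf.symm r e, hf.symm r e', hf.symm e' e] at h1
      exact hrr h1
    have h := congrArg Matrix.det hm
    rw [det_mul, det_mul, hd, one_mul, det_fin_three !![X, Y * -(f r r), Z; 0, X, Y; 0, 0, X]] at h
    simp at h
    have h3 : X * X * X = 1 := mul_left_cancel₀ hP0 (by linear_combination -h)
    rw [hX2, one_mul] at h3
    exact h3
  rw [hX1] at hCe hCe' hCr'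
  rw [one_smul] at hCe hCe' hCr'
  have hnil : (C.val - 1) * ((C.val - 1) * (C.val - 1)) = 0 := Matrix.ext_iff_mulVec.mpr fun x => by
    rw [H.dec hf h2 x]
    simp only [← mulVec_mulVec, zero_mulVec, mulVec_add, mulVec_smul, sub_mulVec, one_mulVec, mulVec_sub, hCe, hCe',
      hCr']
    module
  have hp3 : 3 ≤ p := by
    rcases (Fact.out : p.Prime).eq_two_or_odd' with h | ⟨i, hi⟩
    · exact absurd (by subst h; exact_mod_cast CharP.cast_eq_zero F 2) h2
    · have := (Fact.out : p.Prime).two_le; omega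
  have hCp : C ^ p = 1 := by
    refine Units.ext ?_
    rw [Units.val_pow_eq_pow_val, Units.val_one, ← sub_eq_zero,
      show C.val ^ p - 1 = C.val ^ p - (1 : Matrix (Fin 3) (Fin 3) F) ^ p by rw [one_pow],
      ← sub_pow_char_of_commute p (Commute.one_right C.val)]
    obtain ⟨i, hi⟩ := Nat.exists_eq_add_of_le hp3
    rw [hi, pow_add, show (C.val - 1) ^ 3 = (C.val - 1) * ((C.val - 1) * (C.val - 1)) by noncomm_ring, hnil, zero_mul]
  have h1 := pow_gcd_eq_one.mpr ⟨hCp, hCn⟩
  rwa [((Fact.out : p.Prime).coprime_iff_not_dvd.mpr hn).gcd_eq_one, pow_one] at h1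

section Slot

variable {t : ℕ}

lemma not_scalar_eU (H : Hyp f e e' r) : ¬ ∃ c : F, (eU hf h2 e r).val = c • 1 := by
  rintro ⟨c, hc⟩
  rw [eU_val hf h2 H.ee H.er] at hc
  have h := congrArg (fun A => f (A *ᵥ e') r) hc
  simp only [smul_mulVec, one_mulVec, eA_mulVec hf, sym_sub_left hf, hf.bilinear.add_left, hf.bilinear.smul_left,
    hf.symm e' e, H.pair, H.e'r, H.er] at h
  exact H.rr (by linear_combination h)

omit hf h2 [Fintype F] in
lemma slotEl_pow (l : Fin (t + 1)) (A : GL (Fin 3) F) (n : ℕ) : slotEl l A ^ n = slotEl l (A ^ n) := by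
  induction n with
  | zero => rw [pow_zero, pow_zero]; exact Units.ext (by rw [Units.val_one, slotEl_val, Units.val_one, emb_one])
  | succ n ih => rw [pow_succ, ih, slotEl_mul, pow_succ]

omit hf h2 [Fintype F] in
lemma slotEl_inj (l : Fin (t + 1)) {A B : GL (Fin 3) F} (h : slotEl l A = slotEl l B) : A = B := by
  refine Units.ext (Matrix.ext fun i j => ?_)
  have hv : (slotEl l A).val = (slotEl l B).val := by rw [h]
  have h1 := congrFun (congrFun hv (Function.update (fun _ => i) l i))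
    (Function.update (fun _ => i) l j)
  rw [slotEl_val, slotEl_val] at h1
  simpa [emb] using h1

omit hf h2 [Fintype F] in
lemma slotEl_one (l : Fin (t + 1)) : slotEl l (1 : GL (Fin 3) F) = 1 :=
  Units.ext (by rw [slotEl_val, Units.val_one, emb_one, Units.val_one])

/-- Root-invariant groups of tensor wreath isometries of order prime to the characteristic are scalar. -/
theorem scalar_of_invariant (p : ℕ) [Fact p.Prime] [CharP F p] (hq : 4 ≤ Fintype.card F)
    {L : Subgroup (GL (Idx (t + 1) 3) F)} (hLp : ¬ p ∣ Nat.card L)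
    (hL : ∀ G ∈ L, ∃ σ gs, (∀ i, gs i ∈ isoF f) ∧ TWData G σ gs)
    (hinv : ∀ l u w, f u u = 0 → f u w = 0 → ∀ G ∈ L, slotEl l (eU hf h2 u w) * G * (slotEl l (eU hf h2 u w))⁻¹ ∈ L)
    {G : GL (Idx (t + 1) 3) F} (hG : G ∈ L) : G = 1 ∨ G = -1 := by
  classical
  haveI : Finite (Matrix (Idx (t + 1) 3) (Idx (t + 1) 3) F) :=
    inferInstanceAs (Finite ((Idx (t + 1) 3) → (Idx (t + 1) 3) → F))
  haveI : Finite (GL (Idx (t + 1) 3) F) := Finite.of_injective _ Units.val_injective
  have hpow : ∀ c ∈ L, c ^ p = 1 → c = 1 := fun c hc hcp => by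
    have hn : c ^ Nat.card L = 1 := by
      have h := pow_card_eq_one' (x := (⟨c, hc⟩ : L))
      exact congrArg Subtype.val h
    have h1 := pow_gcd_eq_one.mpr ⟨hcp, hn⟩
    rwa [((Fact.out : p.Prime).coprime_iff_not_dvd.mpr hLp).gcd_eq_one, pow_one] at h1
  obtain ⟨σ, gs, hgs, hd⟩ := hL G hG
  have hcomm : ∀ i u w, f u u = 0 → f u w = 0 →
      G * slotEl (σ i) (eU hf h2 u w) * G⁻¹ * (slotEl (σ i) (eU hf h2 u w))⁻¹ =
        slotEl i (gs i * eU hf h2 u w * (gs i)⁻¹) * slotEl (σ i) (eU hf h2 u (-w)) ∧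
      slotEl i (gs i * eU hf h2 u w * (gs i)⁻¹) * slotEl (σ i) (eU hf h2 u (-w)) ∈ L := by
    intro i u w hu hw
    have e1 : G * slotEl (σ i) (eU hf h2 u w) * G⁻¹ = slotEl i (gs i * eU hf h2 u w * (gs i)⁻¹) := Units.ext (by
      rw [Units.val_mul, Units.val_mul, slotEl_val, slotEl_val, hd.conj_emb i, Units.val_mul, Units.val_mul])
    have e2 : (slotEl (σ i) (eU hf h2 u w))⁻¹ = slotEl (σ i) (eU hf h2 u (-w)) :=
      inv_eq_of_mul_eq_one_right (by
        rw [slotEl_mul, ← eU_inv hf h2 hu hw, mul_inv_cancel, slotEl_one])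
    refine ⟨by rw [e1, e2], ?_⟩
    rw [← e1, ← e2, show G * slotEl (σ i) (eU hf h2 u w) * G⁻¹ * (slotEl (σ i) (eU hf h2 u w))⁻¹ =
      G * (slotEl (σ i) (eU hf h2 u w) * G⁻¹ * (slotEl (σ i) (eU hf h2 u w))⁻¹) by group]
    exact L.mul_mem hG (hinv _ u w hu hw _ (L.inv_mem hG))
  obtain ⟨z₀, hz₀, hzz₀⟩ := exists_singular_sym hf h2 le_rfl
  have hσ : ∀ i, σ i = i := by
    intro i
    by_contra hi
    obtain ⟨z', s, H⟩ := exists_hyp hf h2 hz₀ hzz₀
    obtain ⟨e1, hmem⟩ := hcomm i z₀ s H.ee H.er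
    have hc : Commute (slotEl i (gs i * eU hf h2 z₀ s * (gs i)⁻¹)) (slotEl (σ i) (eU hf h2 z₀ (-s))) :=
      slotEl_commute (Ne.symm hi) _ _
    have h1 := hpow _ hmem (by
      rw [hc.mul_pow, slotEl_pow, slotEl_pow, conj_pow, eU_pow_char hf h2 p H.ee H.er,
        eU_pow_char hf h2 p H.ee (by rw [sym_neg_right hf, H.er, neg_zero]), mul_one, mul_inv_cancel, slotEl_one,
        slotEl_one, mul_one])
    rw [← e1, mul_inv_eq_one, mul_inv_eq_iff_eq_mul] at h1
    have h3 := congrArg Units.val h1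
    rw [Units.val_mul, Units.val_mul, slotEl_val] at h3
    exact hi (σ.injective (fix_of_comm (by norm_num) hd (not_scalar_eU hf h2 H) h3))
  -- each component fixes every singular line
  have hline : ∀ i, ∀ z, z ≠ 0 → f z z = 0 → ∃ c : F, (gs i).val *ᵥ z = c • z := by
    intro i z hz hzz
    obtain ⟨A, hA⟩ : ∃ A, A = gs i := ⟨_, rfl⟩
    rw [← hA]
    have hAi : A ∈ isoF f := hA ▸ hgs i
    by_contra hne
    push Not at hne
    obtain ⟨g₀, hg₀⟩ : ∃ g₀, g₀ = f z (A.val *ᵥ z) := ⟨_, rfl⟩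
    have hg₀0 : g₀ ≠ 0 := by
      intro h0
      obtain ⟨z', s, H⟩ := exists_hyp hf h2 hz hzz
      refine hne (f (A.val *ᵥ z) z') ?_
      obtain ⟨w, hw⟩ : ∃ w, w = A.val *ᵥ z := ⟨_, rfl⟩
      rw [← hw] at hg₀ ⊢
      have hq : f w w = 0 := by rw [hw, hAi, hzz]
      have hd' := H.dec hf h2 w
      rw [hf.symm w z, ← hg₀, h0, zero_smul, add_zero] at hd'
      have h3 : f w s = 0 := by
        have h := hq
        rw [hd'] at h
        simp only [hf.bilinear.add_left, hf.bilinear.add_right, hf.bilinear.smul_left, hf.bilinear.smul_right, H.ee,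
          hf.symm s z, H.er] at h
        have h4 : (f w s / f s s) * (f w s / f s s) * f s s = 0 := by linear_combination h
        rcases mul_eq_zero.mp h4 with h5 | h5
        · rcases div_eq_zero_iff.mp (mul_self_eq_zero.mp h5) with h6 | h6
          · exact h6
          · exact absurd h6 H.rr
        · exact absurd h5 H.rr
      rw [h3, zero_div, zero_smul, add_zero] at hd'
      exact hd'
    obtain ⟨z'', hz''⟩ : ∃ z'', z'' = g₀⁻¹ • (A.val *ᵥ z) := ⟨_, rfl⟩
    have hz''q : f z'' z'' = 0 := by rw [hz'', sym_quad_smul hf, hAi, hzz, mul_zero]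
    have hzz'' : f z z'' = 1 := by rw [hz'', hf.bilinear.smul_right, ← hg₀, inv_mul_cancel₀ hg₀0]
    obtain ⟨s, hs, hs', hss⟩ := exists_aniso_pairW hf h2 le_rfl hzz hz''q hzz''
    obtain ⟨ρ, hρ⟩ : ∃ ρ, ρ = f s s := ⟨_, rfl⟩
    have H : Hyp f z z'' s := ⟨hzz, hz''q, hzz'', by rw [hf.symm, hs], by rw [hf.symm, hs'], hss⟩
    have hAz : A.val *ᵥ z = g₀ • z'' := by rw [hz'', smul_inv_smul₀ hg₀0]
    obtain ⟨μ, ν, hAs⟩ : ∃ μ ν : F, A.val *ᵥ s = μ • z'' + ν • s := by
      refine ⟨f (A.val *ᵥ s) z, f (A.val *ᵥ s) s / f s s, ?_⟩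
      have h0 : f (A.val *ᵥ s) z'' = 0 := by rw [hz'', hf.bilinear.smul_right, hAi, hf.symm, H.er, mul_zero]
      conv_lhs => rw [H.dec hf h2 (A.val *ᵥ s), h0, zero_smul, zero_add]
    have hν : ν ≠ 0 := by
      intro h0
      have h := hAi s s
      rw [hAs, h0, zero_smul, add_zero, sym_quad_smul hf, hz''q, mul_zero] at h
      exact hss h.symm
    obtain ⟨κ, hκ⟩ : ∃ κ, κ = g₀ * ν := ⟨_, rfl⟩
    have hκ0 : κ ≠ 0 := hκ ▸ mul_ne_zero hg₀0 hν
    have hρ0 : ρ ≠ 0 := hρ ▸ hss
    obtain ⟨x, hx0, hx⟩ : ∃ x : F, x ≠ 0 ∧ x * x ≠ 2 / (ρ * κ) := by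
      by_contra hno
      push Not at hno
      have hsub : (Finset.univ : Finset F) ⊆ {0, 1, -1} := fun x _ => by
        by_cases hx : x = 0
        · simp [hx]
        · rcases mul_self_eq_one_iff.mp (show x * x = 1 from (hno x hx).trans
            ((hno 1 one_ne_zero).symm.trans (one_mul 1))) with h | h <;> simp [h]
      have h5 := Finset.card_le_card hsub
      rw [Finset.card_univ] at h5
      have h3 : ({0, 1, -1} : Finset F).card ≤ 3 := Finset.card_le_three
      omega
    obtain ⟨β, hβ⟩ : ∃ β, β = x - 2 / (ρ * κ * x) := ⟨_, rfl⟩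
    have hρκx : ρ * κ * x ≠ 0 := mul_ne_zero (mul_ne_zero hρ0 hκ0) hx0
    have hβ0 : β ≠ 0 := by
      intro h0
      rw [hβ, sub_eq_zero, eq_div_iff hρκx] at h0
      exact hx (by rw [eq_div_iff (mul_ne_zero hρ0 hκ0)]; linear_combination h0)
    have hsm := H.smul_r hf h2
    obtain ⟨C, hCdef⟩ : ∃ C, C = A * eU hf h2 z (β • s) * A⁻¹ * eU hf h2 z (-(β • s)) := ⟨_, rfl⟩
    have hAU : A * eU hf h2 z (β • s) * A⁻¹ = eU hf h2 z'' ((κ * β) • s) := by
      rw [conj_eU hf h2 hAi hzz (hsm β).1]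
      refine Units.ext ?_
      rw [eU_val hf h2 (by rw [hAi, hzz]) (by rw [hAi, (hsm β).1]), eU_val hf h2 hz''q (hsm _).2, hAz,
        eA_smul_left hf, mulVec_smul, hAs, ← eA_add_self hf h2 hz''q (hsm (κ * β)).2 (g₀ * β * μ)]
      congr 1
      rw [hκ]; module
    have hCval : C.val = eA f z'' ((κ * β) • s) * eA f z (-(β • s)) := by
      rw [hCdef, hAU, Units.val_mul, eU_val hf h2 hz''q (hsm _).2,
        eU_val hf h2 hzz (by rw [sym_neg_right hf, (hsm β).1, neg_zero])]
    obtain ⟨Z, hZ⟩ : ∃ Z : F → Fin 3 → F, ∀ y, Z y = z'' + y • s - (y * y * ρ / 2) • z := ⟨_, fun y => rfl⟩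
    obtain ⟨Zy, hZy⟩ : ∃ Zy, Zy = Z x := ⟨_, rfl⟩
    have hZs : f Zy Zy = 0 := by
      rw [hZy, hZ]
      simp only [sym_sub_left hf, sym_sub_right hf, hf.bilinear.add_left, hf.bilinear.add_right,
        hf.bilinear.smul_left, hf.bilinear.smul_right, hzz, hz''q, H.pair, H.er, H.e'r, hf.symm z'' z, hf.symm s z,
        hf.symm s z'', ← hρ]
      field_simp
      ring
    have hZ0 : Zy ≠ 0 := fun h => by
      have h1 : f z Zy = 1 := by
        rw [hZy, hZ, sym_sub_right hf, hf.bilinear.add_right, hf.bilinear.smul_right, hf.bilinear.smul_right, hzz'',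
          H.er, hzz]
        ring
      rw [h, sym_zero_right hf] at h1
      exact zero_ne_one h1
    obtain ⟨cz, hcz⟩ : ∃ cz : F, C.val *ᵥ Zy = cz • Zy := by
      refine ⟨(x - β) * (x - β) / (x * x), ?_⟩
      rw [hCval, ← mulVec_mulVec]
      have e1 : eA f z (-(β • s)) *ᵥ Zy = Z (x - β) := by
        rw [hZy, hZ, hZ, eA_mulVec hf]
        simp only [sym_sub_left hf, sym_sub_right hf, hf.bilinear.add_left, hf.bilinear.smul_left,
          hf.bilinear.smul_right, sym_neg_left hf, sym_neg_right hf, hzz, hz''q, H.pair, H.er, H.e'r,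
          hf.symm z'' z, hf.symm s z, hf.symm s z'', ← hρ]
        match_scalars <;> field_simp <;> ring
      rw [e1, hZy, hZ, hZ, eA_mulVec hf]
      simp only [sym_sub_left hf, hf.bilinear.add_left, hf.bilinear.smul_left, hf.bilinear.smul_right, hzz, hz''q,
        H.pair, H.er, H.e'r, hf.symm z'' z, hf.symm s z, hf.symm s z'', ← hρ]
      have hxb : x - β = 2 / (ρ * κ * x) := by rw [hβ]; ring
      match_scalars <;> simp only [hxb] <;> (try simp only [hβ]) <;> field_simp <;> ring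
    have hCm : slotEl i C ∈ L := by
      obtain ⟨-, hm⟩ := hcomm i z (β • s) hzz (hsm β).1
      rw [hσ, slotEl_mul, ← hA, ← hCdef] at hm
      exact hm
    have hCiso : C ∈ isoF f := by
      rw [hCdef]
      exact (isoF f).mul_mem ((isoF f).mul_mem ((isoF f).mul_mem hAi (eU_iso hf h2 _ _)) ((isoF f).inv_mem hAi))
        (eU_iso hf h2 _ _)
    have hCdet : C.val.det = 1 := by
      rw [hCdef, hAU, Units.val_mul, det_mul, det_isoSq hf (eU_mem hf h2 _ _), det_isoSq hf (eU_mem hf h2 _ _),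
        mul_one]
    -- a root element at the fixed line
    obtain ⟨Z', S, HZ⟩ := exists_hyp hf h2 hZ0 hZs
    obtain ⟨-, hmem⟩ := hcomm i z (β • s) hzz (hsm β).1
    have hY : slotEl i C * slotEl i (eU hf h2 Zy S) * (slotEl i C)⁻¹ * (slotEl i (eU hf h2 Zy S))⁻¹ = 1 := by
      refine hpow _ ?_ ?_
      · rw [show slotEl i C * slotEl i (eU hf h2 Zy S) * (slotEl i C)⁻¹ * (slotEl i (eU hf h2 Zy S))⁻¹ =
          slotEl i C * (slotEl i (eU hf h2 Zy S) * (slotEl i C)⁻¹ * (slotEl i (eU hf h2 Zy S))⁻¹) by group]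
        exact L.mul_mem hCm (hinv i Zy S HZ.ee HZ.er _ (L.inv_mem hCm))
      · have e2 : ∀ B : GL (Fin 3) F, (slotEl i B)⁻¹ = slotEl i B⁻¹ := fun B =>
          inv_eq_of_mul_eq_one_right (by rw [slotEl_mul, mul_inv_cancel, slotEl_one])
        have hw : f Zy (cz • C.val *ᵥ S) = 0 := by
          have h := hCiso Zy S
          rw [hcz, hf.bilinear.smul_left, HZ.er] at h
          rw [hf.bilinear.smul_right]
          exact h
        have hnS : f Zy (-S) = 0 := by rw [sym_neg_right hf, HZ.er, neg_zero]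
        rw [e2, e2, slotEl_mul, slotEl_mul, slotEl_mul, slotEl_pow, conj_eU hf h2 hCiso HZ.ee HZ.er,
          eU_inv hf h2 HZ.ee HZ.er]
        have e3 : eU hf h2 (C.val *ᵥ Zy) (C.val *ᵥ S) = eU hf h2 Zy (cz • C.val *ᵥ S) := Units.ext (by
          rw [eU_val hf h2 (by rw [hCiso, HZ.ee]) (by rw [hCiso, HZ.er]), eU_val hf h2 HZ.ee hw, hcz,
            eA_smul_left hf])
        rw [e3, eU_mul hf h2 HZ.ee hw hnS, eU_pow_char hf h2 p HZ.ee
          (by rw [hf.bilinear.add_right, hw, hnS, add_zero]), slotEl_one]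
    rw [mul_inv_eq_one, mul_inv_eq_iff_eq_mul, slotEl_mul, slotEl_mul] at hY
    have hY1 := congrArg Units.val (slotEl_inj i hY)
    rw [Units.val_mul, Units.val_mul, eU_val hf h2 HZ.ee HZ.er] at hY1
    have hC1 : C = 1 := by
      refine eq_one_of_cent hf h2 p HZ hCiso hCdet hLp ?_ hY1
      have h := pow_card_eq_one' (x := (⟨_, hCm⟩ : L))
      have h' : slotEl i C ^ Nat.card L = 1 := congrArg Subtype.val h
      rw [slotEl_pow] at h'
      exact slotEl_inj i (h'.trans (slotEl_one i).symm)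
    have h0 : eA f z'' ((κ * β) • s) *ᵥ z = z := by
      have h := congrArg (fun X : GL (Fin 3) F => X.val *ᵥ z) hC1
      simp only [hCval, Units.val_one, one_mulVec, ← mulVec_mulVec] at h
      rwa [eA_self hf hzz (by rw [sym_neg_right hf, (hsm β).1, neg_zero])] at h
    have h1 := congrArg (fun v => f v s) h0
    simp only [eA_mulVec hf, sym_sub_left hf, hf.bilinear.add_left, hf.bilinear.smul_left, hf.bilinear.smul_right,
      hzz'', H.er, H.e'r] at h1
    exact mul_ne_zero (mul_ne_zero hκ0 hβ0) hss (by linear_combination h1)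
  have hsc : ∀ i, gs i = 1 ∨ gs i = -1 := by
    intro i
    obtain ⟨e', s, H⟩ := exists_hyp hf h2 hz₀ hzz₀
    obtain ⟨a, ha⟩ := hline i z₀ hz₀ hzz₀
    have key : ∀ x, f x x = 0 → f z₀ x ≠ 0 → ∃ c : F, (gs i).val *ᵥ x = c • x ∧ c * a = 1 := by
      intro x hx hzx
      obtain ⟨c, hc⟩ := hline i x (fun h => hzx (by rw [h, sym_zero_right hf])) hx
      refine ⟨c, hc, mul_right_cancel₀ hzx ?_⟩
      have h := hgs i z₀ x
      rw [ha, hc, hf.bilinear.smul_left, hf.bilinear.smul_right] at h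
      linear_combination h
    obtain ⟨c, hc1, hca⟩ := key e' H.ee' (by rw [H.pair]; exact one_ne_zero)
    have hall : ∀ x, f x x = 0 → f z₀ x ≠ 0 → (gs i).val *ᵥ x = c • x := fun x hx hzx => by
      obtain ⟨c', hc', hca'⟩ := key x hx hzx
      rw [hc', show c' = c from mul_right_cancel₀ (right_ne_zero_of_mul_eq_one hca) (hca'.trans hca.symm)]
    have hev : ∀ y, (gs i).val *ᵥ y = c • y := fun y => by
      obtain ⟨S, hS⟩ : ∃ S : Submodule F (Fin 3 → F), ∀ v, v ∈ S ↔ (gs i).val *ᵥ v = c • v :=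
        ⟨LinearMap.ker (Matrix.mulVecLin (gs i).val - c • LinearMap.id), fun v => by simp [sub_eq_zero]⟩
      exact (hS y).mp (mem_of_nonorth hf h2 le_rfl hz₀ hzz₀ (fun x hx hzx => (hS x).mpr (hall x hx hzx)) y)
    have hcc : c * c = 1 := by
      have h := hgs i s s
      rw [hev, sym_quad_smul hf] at h
      exact mul_right_cancel₀ H.rr (by rw [one_mul]; exact h)
    rcases mul_self_eq_one_iff.mp hcc with hc | hc
    · exact Or.inl (Transvec.gl_ext fun y => by rw [hev, hc, one_smul, Units.val_one, one_mulVec])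
    · exact Or.inr (Transvec.gl_ext fun y => by
        rw [hev, hc, Units.val_neg, Units.val_one, neg_mulVec, one_mulVec, neg_one_smul])
  obtain ⟨ε, hε⟩ : ∃ ε : Fin (t + 1) → F, ∀ i, (gs i).val = ε i • 1 ∧ (ε i = 1 ∨ ε i = -1) := by
    refine ⟨fun i => if gs i = 1 then 1 else -1, fun i => ?_⟩
    by_cases h : gs i = 1
    · simp [h]
    · simp only [if_neg h]
      exact ⟨by rw [(hsc i).resolve_left h, Units.val_neg, Units.val_one, neg_one_smul], Or.inr trivial⟩
  have hval : ∀ xs : Fin (t + 1) → Fin 3 → F, G.val *ᵥ pv xs = (∏ i, ε i) • pv xs := fun xs => by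
    rw [hd]
    funext j
    simp only [pv, Pi.smul_apply, smul_eq_mul, ← Finset.prod_mul_distrib, hσ, (hε _).1, smul_mulVec, one_mulVec]
  have hprod : ∀ S : Finset (Fin (t + 1)), ∏ i ∈ S, ε i = 1 ∨ ∏ i ∈ S, ε i = -1 := by
    intro S
    induction S using Finset.induction_on with
    | empty => simp
    | insert a S ha ih => rw [Finset.prod_insert ha]; rcases (hε a).2 with h | h <;> rcases ih with h' | h' <;> simp [h, h']
  rcases hprod Finset.univ with h | h
  · exact Or.inl (TWMax.ext_pv fun xs => by rw [hval, h, one_smul, Units.val_one, one_mulVec])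
  · exact Or.inr (TWMax.ext_pv fun xs => by
      rw [hval, h, Units.val_neg, Units.val_one, neg_mulVec, one_mulVec, neg_one_smul])

end Slot

end CfsgLib.Classical22.OPow.Three
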