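/-
The subspace of a good vector in one slot, and the group induced on it by its stabiliser.
-/
import Cfsg.Agent.Lib.Classical22.OrthPower.Three.Root

set_option autoImplicit false
set_option linter.unusedSectionVars false
set_option linter.unusedSimpArgs false

namespace CfsgLib.Classical22.OPow.Three

open Matrix Kronecker CfsgLib.Transvec CfsgLib.Classical22.TensorMax CfsgLib.Classical22.TensorMax.SympO
open CfsgLib.Classical22.TensorMax.SpO (sym_outer sym_zero_left sym_zero_right sym_sub_left sym_sub_right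
  sym_neg_left sym_quad_smul kr)
open CfsgLib.Classical22.TensorMax.OO (eA sym_neg_right)
open CfsgLib.Classical22.TWMax (Idx pv emb embL emb_mul emb_one emb_comm slotEl slotEl_val slotEl_mul slotEl_data TWData
  IsTW slotG flatG)
open CfsgLib.Classical22.TPow (slotA flatA pG)
open scoped MatrixGroups

variable {F : Type*} [Field F] {f : (Fin 3 → F) → (Fin 3 → F) → F} {t : ℕ}

/-- The setting in dimension three: determinant one, and all good signed reflections. -/
structure Ctx3 (f : (Fin 3 → F) → (Fin 3 → F) → F) (M : Subgroup (GL (Idx (t + 1) 3) F)) : Prop where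
  ctx : Ctx f M
  det : ∀ g ∈ M, g.val.det = 1
  good : ∀ (s : Fin (t + 1)) (v : Fin 3 → F), Good f v → slotEl s (eG ctx.sym v) ∈ M

/-- The scaled projection to the subspace of `v` in slot `s`. -/
def Pj (f : (Fin 3 → F) → (Fin 3 → F) → F) (s : Fin (t + 1)) (v : Fin 3 → F) :
    Matrix (Idx (t + 1) 3) (Idx (t + 1) 3) F := emb s (outer f v v)

/-- `g` acts on the subspace of `v` in slot `s` as `G`. -/
def RS (f : (Fin 3 → F) → (Fin 3 → F) → F) (s : Fin (t + 1)) (v : Fin 3 → F) (g : GL (Idx (t + 1) 3) F)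
    (G : GL (Idx t 3) F) : Prop :=
  g.val * Pj f s v = tens s (outer f v v) G.val

lemma pj_tens (s : Fin (t + 1)) (v : Fin 3 → F) : Pj f s v = tens s (outer f v v) 1 := (tens_emb _ _).symm

section Sym
variable (hf : Cfsg.Geo.IsSymmetricForm f)
include hf

lemma outer_vv_sq (v : Fin 3 → F) : outer f v v * outer f v v = f v v • outer f v v :=
  Matrix.ext_iff_mulVec.mpr fun x => by
    rw [← mulVec_mulVec, smul_mulVec, sym_outer hf, sym_outer hf, hf.bilinear.smul_left, smul_smul, mul_comm]

lemma outer_vv_ne {v : Fin 3 → F} (hv : f v v ≠ 0) : outer f v v ≠ 0 := fun h => by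
  have h1 := congrArg (fun A => f (A *ᵥ v) v) h
  simp only [sym_outer hf, hf.bilinear.smul_left, zero_mulVec, sym_zero_left hf] at h1
  exact mul_ne_zero hv hv h1

lemma eG_val {v : Fin 3 → F} (hv : f v v ≠ 0) : (eG hf v).val = (2 / f v v) • outer f v v - 1 :=
  Matrix.ext_iff_mulVec.mpr fun x => by
    rw [eG_apply hf hv, sub_mulVec, smul_mulVec, one_mulVec, sym_outer hf, smul_smul]

lemma eG_nonscalar (h2 : (2 : F) ≠ 0) {v w : Fin 3 → F} (hv : f v v ≠ 0) (hvw : f v w = 0) (hw : w ≠ 0) :
    ¬ ∃ c : F, (eG hf v).val = c • 1 := by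
  rintro ⟨c, hc⟩
  have hv0 : v ≠ 0 := fun h => hv (by rw [h, sym_zero_left hf])
  have h1 := congrArg (· *ᵥ v) hc
  have h3 := congrArg (· *ᵥ w) hc
  simp only [smul_mulVec, one_mulVec, eG_self hf hv, eG_perp hf hv (by rw [hf.symm, hvw] : f w v = 0)] at h1 h3
  have hc1 : c = 1 := by
    have := smul_left_injective F hv0 (h1.symm.trans (one_smul F v).symm)
    exact this
  rw [hc1, one_smul, neg_eq_iff_add_eq_zero, ← two_smul F, smul_eq_zero] at h3
  exact hw (h3.resolve_left h2)

lemma pj_sq (s : Fin (t + 1)) (v : Fin 3 → F) : Pj f s v * Pj f s v = f v v • Pj f s v := by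
  rw [Pj, ← emb_mul, outer_vv_sq hf]; exact (embL s).map_smul _ _

variable (h2 : (2 : F) ≠ 0)
include h2

lemma comm_pj {s : Fin (t + 1)} {v : Fin 3 → F} (hv : f v v ≠ 0) {g : Matrix (Idx (t + 1) 3) (Idx (t + 1) 3) F} :
    g * (slotEl s (eG hf v)).val = (slotEl s (eG hf v)).val * g ↔ g * Pj f s v = Pj f s v * g := by
  have e : (slotEl s (eG hf v)).val = (2 / f v v) • Pj f s v - 1 := by
    rw [slotEl_val, eG_val hf hv, emb_sub, emb_one, Pj, show emb s ((2 / f v v) • outer f v v) =
      (2 / f v v) • emb s (outer f v v) from (embL s).map_smul _ _]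
  rw [e, mul_sub, sub_mul, mul_one, one_mul, Matrix.mul_smul, Matrix.smul_mul, sub_left_inj]
  exact ⟨fun h => smul_right_injective _ (div_ne_zero h2 hv) h, fun h => by rw [h]⟩

end Sym

section RSLemmas
variable (hf : Cfsg.Geo.IsSymmetricForm f) {s : Fin (t + 1)} {v : Fin 3 → F} (hv : f v v ≠ 0)
include hf hv

lemma rs_unique {g : GL (Idx (t + 1) 3) F} {G K : GL (Idx t 3) F} (h : RS f s v g G) (h' : RS f s v g K) : G = K :=
  Units.ext (tens_inj s (outer_vv_ne hf hv) (h.symm.trans h'))

omit hf hv in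
lemma rs_mul {g h : GL (Idx (t + 1) 3) F} {G K : GL (Idx t 3) F} (hg : RS f s v g G) (hh : RS f s v h K) :
    RS f s v (g * h) (G * K) := by
  rw [RS] at *
  have e : tens s (outer f v v) K.val = Pj f s v * tens s 1 K.val := by rw [pj_tens, tens_mul, mul_one, one_mul]
  rw [Units.val_mul, mul_assoc, hh, e, ← mul_assoc, hg, tens_mul, mul_one, Units.val_mul]

omit hf hv in
lemma rs_inv {g : GL (Idx (t + 1) 3) F} {G : GL (Idx t 3) F} (hg : RS f s v g G) : RS f s v g⁻¹ G⁻¹ := by
  rw [RS] at *
  have h := congrArg (fun X => g⁻¹.val * X * tens s 1 G⁻¹.val) hg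
  simp only [← mul_assoc, Units.inv_mul, one_mul] at h
  rw [pj_tens, tens_mul, mul_one, one_mul, mul_assoc, tens_mul, mul_one, Units.mul_inv, ← pj_tens] at h
  exact h.symm

omit hf hv in
lemma rs_one : RS f s v 1 1 := by rw [RS, Units.val_one, one_mul, Units.val_one, pj_tens]

omit hf hv in
lemma rs_of_fix {g : GL (Idx (t + 1) 3) F} (h : g.val * Pj f s v = Pj f s v) : RS f s v g 1 := by
  rw [RS, h, Units.val_one, pj_tens]

omit hf hv in
lemma rs_pow {g : GL (Idx (t + 1) 3) F} {G : GL (Idx t 3) F} (hg : RS f s v g G) (n : ℕ) :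
    RS f s v (g ^ n) (G ^ n) := by
  induction n with
  | zero => simpa using rs_one (f := f) (s := s) (v := v)
  | succ n ih => rw [pow_succ, pow_succ]; exact rs_mul ih hg

/-- An element commuting with the projection acts on the subspace. -/
theorem exists_rs {g : GL (Idx (t + 1) 3) F} (hc : g.val * Pj f s v = Pj f s v * g.val) : ∃ G, RS f s v g G := by
  have key : ∀ z : GL (Idx (t + 1) 3) F, z.val * Pj f s v = Pj f s v * z.val →
      ∃ G, z.val * Pj f s v = tens s (outer f v v) G := by
    intro z hz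
    have e : (f v v) • (z.val * Pj f s v) = Pj f s v * z.val * Pj f s v := by
      rw [← hz, mul_assoc, pj_sq hf, Matrix.mul_smul]
    have hb : ∀ x y, ∃ a b : F, blk s x y ((f v v) • (z.val * Pj f s v)) = a • outer f v v + b • (0 : Matrix (Fin 3) (Fin 3) F) :=
      fun x y => ⟨f (blk s x y z.val *ᵥ v) v, 0, by
        rw [e, Pj, blk_right, blk_left, zero_smul, add_zero]
        refine Matrix.ext_iff_mulVec.mpr fun w => ?_
        rw [← mulVec_mulVec, ← mulVec_mulVec, smul_mulVec, sym_outer hf v v w, mulVec_smul, mulVec_smul,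
          sym_outer hf, smul_smul, smul_smul, mul_comm]⟩
    obtain ⟨G, S, hGS⟩ := exists_tens_of_pair s hb
    rw [tens_zero_left, add_zero] at hGS
    exact ⟨(f v v)⁻¹ • G, by rw [tens_smul_right, ← hGS, smul_smul, inv_mul_cancel₀ hv, one_smul]⟩
  obtain ⟨G, hG⟩ := key g hc
  obtain ⟨G', hG'⟩ := key g⁻¹ (by
    have h := congrArg (fun X => g⁻¹.val * X * g⁻¹.val) hc
    simpa [← mul_assoc, mul_assoc _ g.val g⁻¹.val] using h.symm)
  have h1 : ∀ (a b : GL (Idx (t + 1) 3) F) A B, a.val * Pj f s v = tens s (outer f v v) A →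
      b.val * Pj f s v = tens s (outer f v v) B → a * b = 1 → A * B = 1 := fun a b A B hA hB hab => by
    refine tens_inj s (outer_vv_ne hf hv) ?_
    have e : tens s (outer f v v) B = Pj f s v * tens s 1 B := by rw [pj_tens, tens_mul, mul_one, one_mul]
    rw [← pj_tens, show tens s (outer f v v) (A * B) = tens s (outer f v v) A * tens s 1 B by rw [tens_mul, mul_one],
      ← hA, mul_assoc, ← e, ← hB, ← mul_assoc, ← Units.val_mul, hab, Units.val_one, one_mul]
  exact ⟨⟨G, G', h1 g g⁻¹ G G' hG hG' (mul_inv_cancel g), h1 g⁻¹ g G' G hG' hG (inv_mul_cancel g)⟩, hG⟩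

/-- The restriction of an isometry is an isometry. -/
theorem rs_piso {g : GL (Idx (t + 1) 3) F} {G : GL (Idx t 3) F} (hg : PIso f g) (h : RS f s v g G) : PIso f G := by
  have h1 := congrArg (fun X => (Pj f s v)ᵀ * X * Pj f s v) (piso_iff.mp hg)
  have e1 : (Pj f s v)ᵀ * (g.valᵀ * pG (t + 1) f * g.val) * Pj f s v =
      (g.val * Pj f s v)ᵀ * pG (t + 1) f * (g.val * Pj f s v) := by
    rw [transpose_mul]; simp only [mul_assoc]
  rw [e1, h, pj_tens, ← pG_tens hf s, tens_transpose, tens_transpose, tens_mul, tens_mul, tens_mul, tens_mul,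
    transpose_one, one_mul, mul_one] at h1
  refine piso_iff.mpr (tens_inj s ?_ h1)
  intro h0
  have h3 := congrArg (fun A => (A *ᵥ v) ⬝ᵥ v) h0
  simp only [← mulVec_mulVec, zero_mulVec, zero_dotProduct, sym_outer hf] at h3
  rw [mulVec_transpose, ← dotProduct_mulVec, sym_outer hf, mulVec_smul, smul_dotProduct, dotProduct_smul,
    ← SpO.sym_dot hf, smul_eq_mul, smul_eq_mul] at h3
  exact mul_ne_zero hv (mul_ne_zero hv hv) (by linear_combination h3)

end RSLemmas

lemma neg_det {m : ℕ} (G : GL (Idx m 3) F) : (-G).val.det = -G.val.det := by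
  rw [Units.val_neg, det_neg, Fintype.card_fun, Fintype.card_fin, Fintype.card_fin,
    (show Odd (3 : ℕ) by decide).pow.neg_one_pow, neg_one_mul]

/-- A tensor wreath element of the group fixing the subspace of `v` pointwise is a slot element fixing `v`. -/
theorem slot_of_fix [Fintype F] {M : Subgroup (GL (Idx (t + 1) 3) F)} (C : Ctx f M) {s : Fin (t + 1)}
    {v : Fin 3 → F} (hv : f v v ≠ 0) {g : GL (Idx (t + 1) 3) F} (hg : g ∈ M) (htw : IsTW g)
    (hfix : g.val * Pj f s v = Pj f s v) : ∃ B ∈ isoF f, g = slotEl s B ∧ B.val *ᵥ v = v := by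
  have hf := C.sym
  have h2 := C.two
  have hfixi : g⁻¹.val * Pj f s v = Pj f s v := by
    conv_lhs => rw [← hfix, ← mul_assoc, Units.inv_mul, one_mul]
  have hdual : Pj f s v * g.val = Pj f s v := by
    refine sub_eq_zero.mp (mat_nd hf fun a b => ?_)
    rw [sub_mulVec, bil_sub_left, ← mulVec_mulVec, Pj, emb_dual hf (outer_dual hf v v) s, emb_dual hf (outer_dual hf v v) s,
      C.inv_dual hg, mulVec_mulVec, ← Pj, hfixi, sub_self]
  obtain ⟨w, hw⟩ : ∃ w, f v w = 0 ∧ w ≠ 0 := by
    have h1 := SpO.finrank_perpIn hf ⊤ v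
    rw [finrank_top, Module.finrank_fin_fun] at h1
    obtain ⟨w, hw, hw0⟩ := Submodule.exists_mem_ne_zero_of_ne_bot (p := SpO.perpIn f ⊤ v) (fun h => by
      rw [h, finrank_bot] at h1; omega)
    exact ⟨w, by rw [hf.symm]; exact ((SpO.mem_perpIn hf).mp hw).2, hw0⟩
  obtain ⟨σ, gs, hd⟩ := htw
  have hσ : σ s = s := fix_of_comm (by norm_num) hd (eG_nonscalar hf h2 hv hw.1 hw.2) (by
    rw [← slotEl_val]; exact (comm_pj hf h2 hv).mpr (hfix.trans hdual.symm))
  obtain ⟨A, π, -, -, he⟩ := hd.slot hσ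
  have hgv : g.val = tens s (gs s).val A.val := by
    rw [tens, AlgEquiv.eq_symm_apply]
    exact congrArg Units.val he
  obtain ⟨x, hx⟩ : ∃ x, x = (gs s).val *ᵥ v := ⟨_, rfl⟩
  have hP : tens s ((gs s).val * outer f v v) A.val = tens s (outer f v v) 1 := by
    rw [← pj_tens, ← hfix, hgv, pj_tens, tens_mul, mul_one]
  obtain ⟨c, hc⟩ : ∃ c : F, x = c • v := by
    obtain ⟨a, ha⟩ : ∃ a, A.val a a ≠ 0 ∨ ∃ b, A.val a b ≠ 0 := by
      by_contra hc
      push Not at hc
      obtain ⟨o⟩ : Nonempty (Idx t 3) := ⟨fun _ => 0⟩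
      have h := congrFun (congrFun (Units.mul_inv A) o) o
      simp [Matrix.mul_apply, (hc o).2] at h
    obtain ⟨b, hb⟩ : ∃ b, A.val a b ≠ 0 := ha.elim (fun h => ⟨a, h⟩) id
    obtain ⟨p, hp⟩ : ∃ p : Idx (t + 1) 3, p = Fin.insertNth s 0 a := ⟨_, rfl⟩
    obtain ⟨q, hq⟩ : ∃ q : Idx (t + 1) 3, q = Fin.insertNth s 0 b := ⟨_, rfl⟩
    have h := congrArg (blk s p q) hP
    rw [blk_tens, blk_tens] at h
    have h' := congrArg (· *ᵥ v) h
    have hpa : (fun j => p (s.succAbove j)) = a := funext fun j => by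
      rw [hp]; exact Fin.insertNth_apply_succAbove (α := fun _ => Fin 3) s 0 a j
    have hqb : (fun j => q (s.succAbove j)) = b := funext fun j => by
      rw [hq]; exact Fin.insertNth_apply_succAbove (α := fun _ => Fin 3) s 0 b j
    simp only [smul_mulVec, ← mulVec_mulVec, sym_outer hf, mulVec_smul, smul_smul, ← hx] at h'
    rw [← hpa, ← hqb] at hb
    refine ⟨(A.val a b * f v v)⁻¹ * ((1 : Matrix (Idx t 3) (Idx t 3) F) a b * f v v), ?_⟩
    rw [← hpa, ← hqb, ← smul_smul, ← h', inv_smul_smul₀ (mul_ne_zero hb hv)]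
  have hA1 : c • A.val = 1 := by
    refine tens_inj s (outer_vv_ne hf hv) ?_
    rw [← hP, tens_smul_right, ← tens_smul_left]
    congr 1
    refine Matrix.ext_iff_mulVec.mpr fun z => ?_
    rw [smul_mulVec, ← mulVec_mulVec, sym_outer hf, mulVec_smul, ← hx, hc, smul_comm]
  have hc0 : c ≠ 0 := fun h => by rw [h, zero_smul] at hA1; exact one_ne_zero hA1.symm
  have hA : A.val = c⁻¹ • 1 := by rw [← hA1, inv_smul_smul₀ hc0]
  have hgem : g.val = emb s (c⁻¹ • (gs s).val) := by
    rw [hgv, hA, ← tens_emb, tens_smul_right, ← tens_smul_left]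
  obtain ⟨B, hB, hgB⟩ := C.slotEl_of_comm s hg fun l hl z _ => Units.ext (by
    rw [Units.val_mul, Units.val_mul, slotEl_val, hgem, emb_comm hl.symm])
  refine ⟨B, hB, hgB, ?_⟩
  have h := hfix
  rw [hgB, slotEl_val, Pj, ← tens_emb, ← tens_emb, tens_mul, one_mul] at h
  have h' := congrArg (fun X => blk s (fun _ => 0) (fun _ => 0) X *ᵥ v) h
  simp only [blk_tens, Matrix.one_apply_eq, one_smul, ← mulVec_mulVec, sym_outer hf, mulVec_smul] at h'
  exact smul_right_injective _ hv h'

variable [Fintype F] {M : Subgroup (GL (Idx (t + 2) 3) F)}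

/-- The group induced on the subspace of `v` in slot `s`. -/
def Mv (C : Ctx3 f M) (s : Fin (t + 2)) (v : Fin 3 → F) : Subgroup (GL (Idx (t + 1) 3) F) where
  carrier := {G | PIso f G ∧ G.val.det = 1 ∧ ∃ g ∈ M, RS f s v g G ∨ RS f s v g (-G)}
  one_mem' := ⟨fun x y => by rw [Units.val_one, one_mulVec, one_mulVec], by rw [Units.val_one, det_one],
    1, M.one_mem, Or.inl rs_one⟩
  mul_mem' := by
    rintro G K ⟨hG, dG, g, hg, e1⟩ ⟨hK, dK, h, hh, e2⟩
    refine ⟨piso_mul hG hK, by rw [Units.val_mul, det_mul, dG, dK, mul_one], g * h, M.mul_mem hg hh, ?_⟩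
    rcases e1 with e1 | e1 <;> rcases e2 with e2 | e2
    · exact Or.inl (rs_mul e1 e2)
    · exact Or.inr (by simpa using rs_mul e1 e2)
    · exact Or.inr (by simpa using rs_mul e1 e2)
    · exact Or.inl (by simpa using rs_mul e1 e2)
  inv_mem' := by
    rintro G ⟨hG, dG, g, hg, e1⟩
    refine ⟨piso_inv hG, ?_, g⁻¹, M.inv_mem hg, ?_⟩
    · have h := congrArg Matrix.det (Units.mul_inv G)
      rwa [det_mul, dG, one_mul, det_one] at h
    · rcases e1 with e1 | e1
      · exact Or.inl (rs_inv e1)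
      · exact Or.inr (by
          have h := rs_inv e1
          rwa [show (-G)⁻¹ = -G⁻¹ from inv_eq_of_mul_eq_one_right (by rw [neg_mul_neg, mul_inv_cancel])] at h)

variable (C : Ctx3 f M) {s : Fin (t + 2)} {v : Fin 3 → F} (hv : Good f v)
include C hv

omit hv in
lemma rs_slot (j : Fin (t + 1)) (B : GL (Fin 3) F) :
    RS f s v (slotEl (s.succAbove j) B) (slotEl j B) := by
  rw [RS, slotEl_val, slotEl_val, pj_tens, ← tens_emb_other, tens_mul, one_mul, mul_one]

omit hv in
lemma mv_slot {j : Fin (t + 1)} {B : GL (Fin 3) F} (hB : B ∈ isoF f) (hd : B.val.det = 1)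
    (hM : slotEl (s.succAbove j) B ∈ M) : slotEl j B ∈ Mv C s v :=
  ⟨piso_slotEl C.ctx.sym j hB, by rw [det_slotEl, hd, one_pow], _, hM, Or.inl (rs_slot C j B)⟩

/-- The induced group satisfies the hypotheses. -/
theorem ctx3_Mv : Ctx3 f (Mv C s v) := by
  have hf := C.ctx.sym
  have hslot : ∀ (j : Fin (t + 1)) (z : Fin 3 → F), f z z ≠ 0 → slotEl (s.succAbove j) (eG hf z) ∈ M →
      slotEl j (eG hf z) ∈ Mv C s v := fun j z hz h => mv_slot C (eG_iso hf z) (det_eG hf (by decide) hz) h
  have hctx : Ctx f (Mv C s v) := by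
    refine
      { sym := hf
        two := C.ctx.two
        dim := le_rfl
        four := C.ctx.four
        sim := fun h => absurd h (by decide)
        refl := fun h => absurd h (by decide)
        small := C.ctx.small
        iso := fun g hg => hg.1
        sq := fun j B hB => mv_slot C (isoSq_le hB) (det_isoSq hf hB) (C.ctx.sq _ B hB)
        pair := fun z j l hz hjl => ?_
        perm := fun π _ => ?_
        adm := ?_ }
    · refine ⟨piso_mul (piso_slotEl hf j (eG_iso hf z)) (piso_slotEl hf l (eG_iso hf z)),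
        by rw [Units.val_mul, det_mul, det_slotEl, det_slotEl, det_eG hf (by decide) hz, one_pow, mul_one],
        _, C.ctx.pair z (s.succAbove j) (s.succAbove l) hz (Fin.succAbove_right_injective.ne hjl),
        Or.inl (rs_mul (rs_slot C j _) (rs_slot C l _))⟩
    · obtain ⟨σ, hσs, hσ⟩ : ∃ σ : Equiv.Perm (Fin (t + 2)), σ s = s ∧
          ∀ j, σ (s.succAbove j) = s.succAbove (π j) := by
        refine ⟨(finSuccEquiv' s).trans ((Equiv.optionCongr π).trans (finSuccEquiv' s).symm), ?_, fun j => ?_⟩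
        · simp
        · simp
      obtain ⟨g₀, hg₀, gs₀, hgs₀, hd₀⟩ := C.ctx.perm σ (Or.inl (by decide))
      obtain ⟨B, hB, c, hc, hBv⟩ := exists_sq_move hf C.ctx.two (a := (gs₀ s).val *ᵥ v) (b := v)
        ⟨by rw [hgs₀ s]; exact hv.1, by rw [hgs₀ s]; exact hv.2⟩ hv
      obtain ⟨g, hgdef⟩ : ∃ g, g = slotEl s B * g₀ := ⟨_, rfl⟩
      have hg : g ∈ M := hgdef ▸ M.mul_mem (C.ctx.sq s B hB) hg₀
      have hd : TWData g σ (fun i => Function.update (fun _ => (1 : GL (Fin 3) F)) s B i * gs₀ i) := by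
        have h := (slotEl_data s B).mul hd₀
        rw [mul_one] at h
        rwa [hgdef]
      obtain ⟨A, π', hA, hπ', he⟩ := hd.slot hσs
      have hππ : π' = π := Equiv.ext fun j => Fin.succAbove_right_injective (by rw [← hπ' j, hσ j])
      rw [hππ] at hA
      have hgv : g.val = tens s (B * gs₀ s).val A.val := by
        rw [tens, AlgEquiv.eq_symm_apply]
        have := congrArg Units.val he
        simp only [Function.update_self] at this
        exact this
      have hAiso : PIso f A := piso_of_pv hf fun xs ys => by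
        rw [hA, hA, bil_pv hf]
        conv_rhs => rw [← Equiv.prod_comp π]
        exact Finset.prod_congr rfl fun j _ => by
          simp only [Function.update_of_ne (Fin.succAbove_ne s j), one_mul]
          exact hgs₀ _ _ _
      have hc2 : c * c = 1 := by
        have h := (isoF f).mul_mem (isoSq_le hB) (hgs₀ s) v v
        rw [Transvec.mul_mulVec, hBv, sym_quad_smul hf] at h
        exact mul_right_cancel₀ hv.1 (by rw [one_mul]; exact h)
      have hrs : g.val * Pj f s v = c • tens s (outer f v v) A.val := by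
        rw [hgv, pj_tens, tens_mul, mul_one, ← tens_smul_left]
        congr 1
        refine Matrix.ext_iff_mulVec.mpr fun z => ?_
        rw [← mulVec_mulVec, sym_outer hf, mulVec_smul, Units.val_mul, ← mulVec_mulVec, hBv, smul_mulVec,
          sym_outer hf, smul_comm]
      have hsign : RS f s v g A ∨ RS f s v g (-A) := by
        rcases mul_self_eq_one_iff.mp hc2 with h | h
        · exact Or.inl (by rw [RS, hrs, h, one_smul])
        · exact Or.inr (by rw [RS, hrs, h, Units.val_neg, neg_one_smul, ← neg_one_smul F A.val, tens_smul_right,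
            neg_one_smul])
      have hgsiso : ∀ j, Function.update (fun _ => (1 : GL (Fin 3) F)) s B (s.succAbove j) * gs₀ (s.succAbove j) ∈
          isoF f := fun j => by
        rw [Function.update_of_ne (Fin.succAbove_ne s j), one_mul]; exact hgs₀ _
      rcases mul_self_eq_one_iff.mp (det_sq_of_piso hf hAiso) with hd' | hd'
      · exact ⟨A, ⟨hAiso, hd', g, hg, hsign⟩, _, hgsiso, hA⟩
      · refine ⟨-A, ⟨fun u w => ?_, ?_, g, hg, ?_⟩, Function.update
          (fun j => Function.update (fun _ => (1 : GL (Fin 3) F)) s B (s.succAbove j) * gs₀ (s.succAbove j)) 0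
          (-(Function.update (fun _ => (1 : GL (Fin 3) F)) s B (s.succAbove 0) * gs₀ (s.succAbove 0))),
          fun j => ?_, fun xs => ?_⟩
        · rw [Units.val_neg, neg_mulVec, neg_mulVec, bil_neg_left, bil_neg_right, neg_neg]; exact hAiso u w
        · rw [neg_det, hd', neg_neg]
        · rw [neg_neg]; exact hsign.symm
        · by_cases hj : j = 0
          · subst hj
            rw [Function.update_self]
            intro u w
            rw [Units.val_neg, neg_mulVec, neg_mulVec, sym_neg_left hf, sym_neg_right hf, neg_neg]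
            exact hgsiso 0 u w
          · rw [Function.update_of_ne hj]; exact hgsiso j
        · rw [Units.val_neg, neg_mulVec, hA]
          funext p
          simp only [Pi.neg_apply, pv, Fin.prod_univ_succ, Function.update_self]
          simp [Function.update_of_ne (Fin.succ_ne_zero _), neg_mulVec]
    · obtain ⟨c₀, hc₀, hadm⟩ := C.ctx.adm
      exact ⟨c₀, hc₀, fun j z hz hsq => hslot j z hz (hadm _ z hz hsq)⟩
  exact ⟨hctx, fun g hg => hg.2.1, fun j z hz => hslot j z hz.1 (C.good _ z hz)⟩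

end CfsgLib.Classical22.OPow.Three
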