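/-
Root elements and the pointwise stabiliser of a good subspace; the group induced on that subspace is monomial.
-/
import Cfsg.Agent.Lib.Classical22.OrthPower.Three.Restrict
import Cfsg.Agent.Lib.Classical22.OrthPower.Three.Group
import Mathlib.RingTheory.Nilpotent.Lemmas

set_option autoImplicit false
set_option linter.unusedSectionVars false
set_option linter.unusedSimpArgs false

namespace CfsgLib.Classical22.OPow.Three

open Matrix CfsgLib.Transvec CfsgLib.Classical22.TensorMax CfsgLib.Classical22.TensorMax.SympO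
open CfsgLib.Classical22.TensorMax.SpO (sym_outer sym_zero_left sym_zero_right sym_sub_left sym_sub_right
  sym_neg_left sym_quad_smul exists_singular_sym)
open CfsgLib.Classical22.TensorMax.OO (eA eA_mulVec eA_self eA_sub_one_sq sym_neg_right)
open CfsgLib.Classical22.TWMax (Idx pv emb embL emb_mul emb_one emb_comm slotEl slotEl_val slotEl_mul slotEl_data
  slotEl_apply TWData IsTW slotG flatG)
open CfsgLib.Classical22.TPow (slotA flatA)
open scoped MatrixGroups

variable {F : Type*} [Field F] {f : (Fin 3 → F) → (Fin 3 → F) → F}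

lemma finite_GL [Finite F] {T : ℕ} : Finite (GL (Idx T 3) F) := by
  classical
  haveI : Finite (Matrix (Idx T 3) (Idx T 3) F) := inferInstanceAs (Finite ((Idx T 3) → (Idx T 3) → F))
  exact Finite.of_injective _ Units.val_injective

lemma emb_smul' {T : ℕ} (l : Fin T) (c : F) (X : Matrix (Fin 3) (Fin 3) F) : emb l (c • X) = c • emb l X :=
  (embL l).map_smul _ _

/-- A scalar multiple of a tensor wreath element is one. -/
lemma isTW_smul {T : ℕ} {A B : GL (Idx (T + 1) 3) F} {κ : F} (hκ : κ ≠ 0) (h : A.val = κ • B.val) (hB : IsTW B) :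
    IsTW A := by
  obtain ⟨S, hS⟩ : ∃ S : GL (Fin 3) F, S.val = κ • 1 :=
    ⟨⟨κ • 1, κ⁻¹ • 1, by simp [smul_smul, inv_mul_cancel₀ hκ, mul_inv_cancel₀ hκ],
      by simp [smul_smul, inv_mul_cancel₀ hκ, mul_inv_cancel₀ hκ]⟩, rfl⟩
  have e : A = slotEl (0 : Fin (T + 1)) S * B := Units.ext (by
    rw [Units.val_mul, slotEl_val, hS, emb_smul', emb_one, Matrix.smul_mul, one_mul, h])
  obtain ⟨σ, gs, hd⟩ := hB
  exact e ▸ ⟨_, _, (slotEl_data _ _).mul hd⟩

lemma isTW_neg {T : ℕ} {A : GL (Idx (T + 1) 3) F} (h : IsTW (-A)) : IsTW A :=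
  isTW_smul (κ := -1) (neg_ne_zero.mpr one_ne_zero) (by simp) h

lemma slotEl_inv {T : ℕ} (l : Fin (T + 1)) (A : GL (Fin 3) F) : (slotEl l A)⁻¹ = slotEl l A⁻¹ :=
  inv_eq_of_mul_eq_one_right (by rw [slotEl_mul, mul_inv_cancel, slotEl_one])

lemma root_sq (hf : Cfsg.Geo.IsSymmetricForm f) {e e' r : Fin 3 → F} (H : Hyp f e e' r) :
    (eA f e r - 1) * (eA f e r - 1) = (-(f r r)) • outer f e e :=
  Matrix.ext_iff_mulVec.mpr fun x => by
    rw [← mulVec_mulVec, eA_sub_one_sq hf H.ee H.er, smul_mulVec, sym_outer hf, smul_smul]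
    congr 1
    ring

/-- An isometry of the plane of order the characteristic is trivial. -/
lemma Tri.rot_pow_char (hf : Cfsg.Geo.IsSymmetricForm f) (h2 : (2 : F) ≠ 0) {v w u : Fin 3 → F} (T : Tri f v w u)
    (p : ℕ) [Fact p.Prime] [CharP F p] {B : GL (Fin 3) F} (hB : B ∈ isoF f) (hd : B.val.det = 1)
    (hBv : B.val *ᵥ v = v) (hp : B ^ p = 1) : B = 1 := by
  obtain ⟨x, y, b1, b2, e1⟩ := T.rot hf hB hd hBv
  obtain ⟨D, hD⟩ : ∃ D, D = B.val - 1 := ⟨_, rfl⟩
  have hqw := T.hw.1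
  have hsq : D *ᵥ (D *ᵥ w) = (2 * (x - 1)) • (B.val *ᵥ w) := by
    simp only [hD, sub_mulVec, one_mulVec, mulVec_sub, b1, mulVec_add, mulVec_smul, b2]
    match_scalars
    · field_simp
      linear_combination -e1
    · ring
  subst hD
  have hcomm : ∀ n z, (B.val - 1) *ᵥ ((B.val ^ n) *ᵥ z) = (B.val ^ n) *ᵥ ((B.val - 1) *ᵥ z) := fun n z => by
    rw [mulVec_mulVec, mulVec_mulVec, (((Commute.refl B.val).sub_left (Commute.one_left _)).pow_right n).eq]
  have hpow : ∀ n, ((B.val - 1) ^ (2 * n)) *ᵥ w = (2 * (x - 1)) ^ n • ((B.val ^ n) *ᵥ w) := by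
    intro n
    induction n with
    | zero => simp
    | succ n ih =>
      rw [show 2 * (n + 1) = 2 + 2 * n by ring, pow_add, ← mulVec_mulVec, ih, mulVec_smul, pow_two, ← mulVec_mulVec,
        hcomm, hcomm, hsq, mulVec_smul, smul_smul, mulVec_mulVec, ← pow_succ, ← pow_succ]
  have h0 : (B.val - 1) ^ p = 0 := by
    have h := congrArg Units.val hp
    rw [Units.val_pow_eq_pow_val, Units.val_one] at h
    rw [sub_pow_char_of_commute p (Commute.one_right B.val), one_pow, h, sub_self]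
  have h3 := hpow p
  rw [two_mul p, pow_add, h0, mul_zero, zero_mulVec, eq_comm, smul_eq_zero] at h3
  have hw0 : w ≠ 0 := fun h => hqw (by rw [h, sym_zero_left hf])
  have hx : x = 1 := by
    rcases h3 with h | h
    · exact sub_eq_zero.mp ((mul_eq_zero.mp (eq_zero_of_pow_eq_zero h)).resolve_left h2)
    · exfalso
      refine Transvec.mulVec_ne_zero (B ^ p) hw0 ?_
      rw [Units.val_pow_eq_pow_val]; exact h
  have hy : y = 0 := by
    have h : y * y * f u u = 0 := by rw [hx] at e1; linear_combination e1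
    exact mul_self_eq_zero.mp ((mul_eq_zero.mp h).resolve_right T.hu.1)
  refine Units.ext (T.ext hf ?_ ?_ ?_)
  · rw [hBv, Units.val_one, one_mulVec]
  · rw [b1, hx, hy]; simp
  · rw [b2, hx, hy]; simp

variable [Fintype F] {t : ℕ} {M : Subgroup (GL (Idx (t + 2) 3) F)}

/-- An element conjugating one root element of a slot to another is a tensor wreath element. -/
theorem tw_of_root (C : Ctx3 f M) (hflag : Flags C.ctx) {g : GL (Idx (t + 2) 3) F} (hg : g ∈ M)
    {e e' r z z' r' : Fin 3 → F} (H : Hyp f e e' r) (Hz : Hyp f z z' r') {l i : Fin (t + 2)}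
    (h : g * slotEl l (eU C.ctx.sym C.ctx.two e r) = slotEl i (eU C.ctx.sym C.ctx.two z r') * g) : IsTW g := by
  classical
  have hf := C.ctx.sym
  have h2 := C.ctx.two
  have h' := congrArg Units.val h
  rw [Units.val_mul, Units.val_mul, slotEl_val, slotEl_val, eU_val hf h2 H.ee H.er, eU_val hf h2 Hz.ee Hz.er] at h'
  have h1 : g.val * emb l (eA f e r - 1) = emb i (eA f z r' - 1) * g.val := by
    rw [emb_sub, emb_sub, emb_one, emb_one, mul_sub, sub_mul, mul_one, one_mul, h']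
  have h3 : g.val * emb l (outer f e e) = (f r' r' / f r r) • (emb i (outer f z z) * g.val) := by
    have h4 : g.val * emb l ((eA f e r - 1) * (eA f e r - 1)) = emb i ((eA f z r' - 1) * (eA f z r' - 1)) * g.val := by
      rw [emb_mul, ← mul_assoc, h1, mul_assoc, h1, ← mul_assoc, emb_mul]
    rw [root_sq hf H, root_sq hf Hz, emb_smul', emb_smul', Matrix.mul_smul, Matrix.smul_mul] at h4
    have h5 := congrArg ((-(f r r))⁻¹ • ·) h4
    rw [inv_smul_smul₀ (neg_ne_zero.mpr H.rr), smul_smul] at h5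
    rw [h5]
    congr 1
    field_simp
  obtain ⟨c, K⟩ := C.ctx.exists_fr H.ee H.ee' H.pair
  have hz0 : z ≠ 0 := fun h0 => by
    have h9 := Hz.pair; rw [h0, sym_zero_left hf] at h9; exact zero_ne_one h9
  obtain ⟨A, hA, hAM, α, hAz⟩ := K.exists_move i Hz.ee hz0
  obtain ⟨n, hn, gs, hgs, hnd⟩ := K.exists_perm (Equiv.swap l i) (Or.inl (by decide))
  obtain ⟨hgi, β, -, hge⟩ := hgs l
  obtain ⟨m, hm⟩ : ∃ m, m = n * slotEl i A := ⟨_, rfl⟩
  have hmM : m ∈ M := hm ▸ M.mul_mem hn hAM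
  have hc : m.val * emb i (outer f z z) = (β * α) ^ 2 • (emb l (outer f e e) * m.val) := by
    have e1 : A.val * outer f z z = (α * α) • (outer f e e * A.val) := by
      have h9 := congrArg (· * A.val) (conj_outer hf hA z z)
      simp only [mul_assoc, Units.inv_mul, mul_one] at h9
      rw [h9, hAz, outer_smul_left hf, outer_smul_right hf, smul_smul, Matrix.smul_mul]
    have e2 : n.val * emb i (outer f e e) = (β * β) • (emb l (outer f e e) * n.val) := by
      have h9 := congrArg (· * n.val) (hnd.conj_emb l (outer f e e))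
      rw [conj_outer hf hgi, hge, outer_smul_left hf, outer_smul_right hf, smul_smul, emb_smul'] at h9
      simp only [Equiv.swap_apply_left, mul_assoc, Units.inv_mul, mul_one] at h9
      rw [h9, Matrix.smul_mul]
    rw [hm, Units.val_mul, slotEl_val, mul_assoc, ← emb_mul, e1, emb_smul', Matrix.mul_smul, emb_mul, ← mul_assoc,
      e2, Matrix.smul_mul, smul_smul]
    congr 1 <;> first | ring1 | rw [mul_assoc]
  obtain ⟨y, hy⟩ : ∃ y, y = m * g := ⟨_, rfl⟩
  obtain ⟨d, hd⟩ : ∃ d : F, y.val * emb l (outer f e e) = d • (emb l (outer f e e) * y.val) :=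
    ⟨(f r' r' / f r r) * (β * α) ^ 2, by
      rw [hy, Units.val_mul, mul_assoc, h3, Matrix.mul_smul, ← mul_assoc, hc, Matrix.smul_mul, smul_smul, mul_assoc]⟩
  have hst : K.Stab l y := by
    have e1 : K.pe l = emb l (outer f e e) * emb l (outer f e' e') := by rw [Fr.pe, ← emb_mul, K.outer_cross]
    have e2 : K.pe l * emb l (outer f e e) = emb l (outer f e e) := by
      rw [Fr.pe, ← emb_mul, K.outer_cross_sq.1]
    have e3 : y.val * K.pe l = d • (emb l (outer f e e) * y.val * emb l (outer f e' e')) := by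
      rw [e1, ← mul_assoc, hd, Matrix.smul_mul]
    rw [Fr.Stab, mul_assoc (K.pe l), e3, Matrix.mul_smul, ← mul_assoc, ← mul_assoc, e2]
  obtain ⟨σ, hs, hd'⟩ := hflag _ _ _ K l y (hy ▸ M.mul_mem hmM hg) hst
  have hmd : TWData m (1 * Equiv.swap l i) _ := hm ▸ hnd.mul (slotEl_data i A)
  have e : g = m⁻¹ * y := by rw [hy, inv_mul_cancel_left]
  exact e ▸ ⟨_, _, hmd.inv.mul hd'⟩

/-- An element commuting with a torus element of a slot is a tensor wreath element. -/
theorem tw_of_torus (C : Ctx3 f M) (hflag : Flags C.ctx) {g : GL (Idx (t + 2) 3) F} (hg : g ∈ M)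
    {e e' r : Fin 3 → F} (H : Hyp f e e' r) {B : GL (Fin 3) F} {a : F} (ha : a ≠ 0) (ha2 : a * a ≠ 1)
    (hBe : B.val *ᵥ e = a • e) (hBe' : B.val *ᵥ e' = a⁻¹ • e') (hBr : B.val *ᵥ r = r) {l : Fin (t + 2)}
    (h : g * slotEl l B = slotEl l B * g) : IsTW g := by
  have hf := C.ctx.sym
  have h2 := C.ctx.two
  obtain ⟨d, hd⟩ : ∃ d, d = (a - 1) * (a - a⁻¹) := ⟨_, rfl⟩
  have hd0 : d ≠ 0 := hd ▸ mul_ne_zero (fun h0 => ha2 (by rw [sub_eq_zero.mp h0, one_mul]))
    (fun h0 => ha2 (by rw [sub_eq_zero] at h0; nth_rw 2 [h0]; exact mul_inv_cancel₀ ha))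
  have e1 : outer f e e' = d⁻¹ • ((B.val - 1) * (B.val - a⁻¹ • 1)) := Matrix.ext_iff_mulVec.mpr fun x => by
    conv_rhs => rw [H.dec hf h2 x]
    simp only [sym_outer hf, smul_mulVec, ← mulVec_mulVec, mulVec_add, mulVec_smul, mulVec_sub, sub_mulVec,
      one_mulVec, hBe, hBe', hBr]
    match_scalars <;> field_simp <;> simp only [hd] <;> field_simp <;> ring
  obtain ⟨c, K⟩ := C.ctx.exists_fr H.ee H.ee' H.pair
  have hc : ∀ z : F, g.val * emb l (B.val - z • 1) = emb l (B.val - z • 1) * g.val := fun z => by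
    have h' := congrArg Units.val h
    rw [Units.val_mul, Units.val_mul, slotEl_val] at h'
    rw [emb_sub, emb_smul', emb_one, mul_sub, sub_mul, h', Matrix.mul_smul, Matrix.smul_mul, mul_one, one_mul]
  have hc1 := hc 1
  rw [one_smul] at hc1
  have hpe : g.val * K.pe l = K.pe l * g.val := by
    rw [Fr.pe, e1, emb_smul', Matrix.mul_smul, Matrix.smul_mul, emb_mul, ← mul_assoc, hc1, mul_assoc, hc,
      ← mul_assoc]
  refine hflag _ _ _ K l g hg ?_
  rw [Fr.Stab, ← hpe, mul_assoc, K.pe_pe]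

variable (C : Ctx3 f M) (s : Fin (t + 2)) (v : Fin 3 → F)

/-- The pointwise stabiliser of the subspace. -/
def K0 (_C : Ctx3 f M) : Subgroup (GL (Idx (t + 2) 3) F) where
  carrier := {g | g ∈ M ∧ g.val * Pj f s v = Pj f s v}
  one_mem' := ⟨M.one_mem, by rw [Units.val_one, one_mul]⟩
  mul_mem' := fun {a b} ha hb => ⟨M.mul_mem ha.1 hb.1, by rw [Units.val_mul, mul_assoc, hb.2, ha.2]⟩
  inv_mem' := fun {a} ha => ⟨M.inv_mem ha.1, by conv_lhs => rw [← ha.2, ← mul_assoc, Units.inv_mul, one_mul]⟩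

/-- The slot elements in the pointwise stabiliser. -/
def R0 (C : Ctx3 f M) : Subgroup (GL (Idx (t + 2) 3) F) where
  carrier := {g | g ∈ K0 s v C ∧ ∃ B ∈ isoF f, B.val.det = 1 ∧ B.val *ᵥ v = v ∧ g = slotEl s B}
  one_mem' := ⟨one_mem _, 1, one_mem _, by rw [Units.val_one, det_one], by rw [Units.val_one, one_mulVec],
    (slotEl_one s).symm⟩
  mul_mem' := by
    rintro a b ⟨ha, A, hA, dA, vA, rfl⟩ ⟨hb, B, hB, dB, vB, rfl⟩
    exact ⟨mul_mem ha hb, A * B, mul_mem hA hB, by rw [Units.val_mul, det_mul, dA, dB, one_mul],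
      by rw [Transvec.mul_mulVec, vB, vA], slotEl_mul _ _ _⟩
  inv_mem' := by
    rintro a ⟨ha, A, hA, dA, vA, rfl⟩
    refine ⟨inv_mem ha, A⁻¹, inv_mem hA, ?_, ?_, slotEl_inv _ _⟩
    · have h := congrArg Matrix.det (Units.mul_inv A)
      rwa [det_mul, dA, one_mul, det_one] at h
    · conv_lhs => rw [← vA, Transvec.inv_mulVec_cancel]

variable {C} {s} {v}

lemma r0_le : R0 s v C ≤ K0 s v C := fun _ h => h.1

include C

lemma pj_dual (a b : Idx (t + 2) 3 → F) : bil f (Pj f s v *ᵥ a) b = bil f a (Pj f s v *ᵥ b) :=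
  emb_dual C.ctx.sym (outer_dual C.ctx.sym v v) s a b

variable (hv : Good f v)
include hv

/-- An element acting on the subspace commutes with the projection. -/
lemma rs_comm {g : GL (Idx (t + 2) 3) F} (hg : g ∈ M) {G : GL (Idx (t + 1) 3) F} (h : RS f s v g G) :
    g.val * Pj f s v = Pj f s v * g.val := by
  have hf := C.ctx.sym
  have key : ∀ {z : GL (Idx (t + 2) 3) F} {Z : GL (Idx (t + 1) 3) F}, RS f s v z Z →
      Pj f s v * z.val * Pj f s v = f v v • (z.val * Pj f s v) := fun {z Z} hz => by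
    rw [RS] at hz
    rw [mul_assoc, hz, pj_tens, tens_mul, one_mul, outer_vv_sq hf, tens_smul_left]
  have e1 := key h
  have e2 := key (rs_inv h)
  have e3 : Pj f s v * g.val * Pj f s v = f v v • (Pj f s v * g.val) := by
    refine sub_eq_zero.mp (mat_nd hf fun a b => ?_)
    rw [sub_mulVec, bil_sub_left, smul_mulVec, bil_smul_left]
    simp only [← mulVec_mulVec]
    rw [pj_dual (C := C), C.ctx.inv_dual hg, pj_dual (C := C), mulVec_mulVec, mulVec_mulVec, e2,
      smul_mulVec, bil_smul_right, ← mulVec_mulVec, pj_dual (C := C) (s := s) (v := v) (g.val *ᵥ a) b,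
      C.ctx.inv_dual hg, sub_self]
  exact smul_right_injective _ hv.1 (e1.symm.trans e3)

omit hv in
lemma mem_r0 {k : GL (Idx (t + 2) 3) F} (hv : Good f v) (hk : k ∈ K0 s v C) (htw : IsTW k) : k ∈ R0 s v C := by
  obtain ⟨B, hB, e, hBv⟩ := slot_of_fix C.ctx hv.1 hk.1 htw hk.2
  refine ⟨hk, B, hB, ?_, hBv, e⟩
  have h := C.det k hk.1
  rw [e, det_slotEl] at h
  rcases mul_self_eq_one_iff.mp (det_isoF C.ctx.sym hB) with h1 | h1
  · exact h1
  · exfalso
    rw [h1, (show Odd (3 : ℕ) by decide).pow.neg_one_pow] at h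
    exact C.ctx.two (by linear_combination -h)

/-- A conjugate of an element of the stabiliser by an element preserving the subspace. -/
lemma k0_conj {g k : GL (Idx (t + 2) 3) F} (hg : g ∈ M) (hc : g.val * Pj f s v = Pj f s v * g.val)
    (hk : k ∈ K0 s v C) : g * k * g⁻¹ ∈ K0 s v C := by
  refine ⟨M.mul_mem (M.mul_mem hg hk.1) (M.inv_mem hg), ?_⟩
  have e : g⁻¹.val * Pj f s v = Pj f s v * g⁻¹.val := by
    have h := congrArg (fun X => g⁻¹.val * X * g⁻¹.val) hc
    simpa [← mul_assoc, mul_assoc _ g.val g⁻¹.val] using h.symm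
  rw [Units.val_mul, Units.val_mul, mul_assoc, e, ← mul_assoc, mul_assoc g.val, hk.2, hc, mul_assoc, Units.mul_inv,
    mul_one]

variable (p : ℕ) [Fact p.Prime] [CharP F p]

lemma r0_char {k : GL (Idx (t + 2) 3) F} (hk : k ∈ R0 s v C) (hp : k ^ p = 1) : k = 1 := by
  obtain ⟨-, B, hB, hd, hBv, rfl⟩ := hk
  obtain ⟨w, u, T⟩ := exists_tri C.ctx.sym C.ctx.two hv
  rw [slotEl_pow, ← slotEl_one s] at hp
  rw [T.rot_pow_char C.ctx.sym C.ctx.two p hB hd hBv (slotEl_inj s hp), slotEl_one]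

variable (hflag : Flags C.ctx)
include hflag

/-- The stabiliser has order prime to the characteristic. -/
theorem k0_card : ¬ p ∣ Nat.card (K0 s v C) := by
  haveI : Finite (GL (Idx (t + 2) 3) F) := finite_GL
  have hf := C.ctx.sym
  have h2 := C.ctx.two
  obtain ⟨e, he, hee⟩ := exists_singular_sym hf h2 le_rfl
  obtain ⟨e', r, H⟩ := exists_hyp hf h2 he hee
  obtain ⟨X, hX⟩ : ∃ X, X = slotEl (s.succAbove 0) (eU hf h2 e r) := ⟨_, rfl⟩
  have hXM : X ∈ M := hX ▸ C.ctx.eich_mem _ e r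
  have hXc : X.val * Pj f s v = Pj f s v * X.val := by
    rw [hX, slotEl_val, Pj, emb_comm (Fin.succAbove_ne s 0)]
  refine card_coprime_of_fix (x := X) ?_ r0_le (fun k hk => k0_conj hv hXM hXc hk) ?_ ?_ fun hd => ?_
  · rw [hX, slotEl_pow, eU_pow_char hf h2 p H.ee H.er, slotEl_one]
  · rintro k ⟨-, B, -, -, -, rfl⟩
    rw [hX, slotEl_commute (Fin.succAbove_ne s 0)]
  · intro k hk hkX
    exact mem_r0 hv hk (tw_of_root C hflag hk.1 H H (by rw [← hX]; exact hkX.symm))
  · obtain ⟨k, hk⟩ := exists_prime_orderOf_dvd_card' (G := R0 s v C) p hd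
    have h1 : k.1 = 1 := r0_char hv p k.2 (by
      rw [← hk, ← Subgroup.orderOf_coe]; exact pow_orderOf_eq_one _)
    rw [show k = 1 from Subtype.ext h1, orderOf_one] at hk
    exact (Fact.out : p.Prime).one_lt.ne hk

omit hflag in
/-- The action of a tensor wreath element on the subspace is one. -/
lemma rs_tw {g : GL (Idx (t + 2) 3) F} (hg : g ∈ M) (htw : IsTW g) {G : GL (Idx (t + 1) 3) F} (h : RS f s v g G) :
    IsTW G := by
  have hf := C.ctx.sym
  have h2 := C.ctx.two
  obtain ⟨σ, gs, hd⟩ := htw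
  obtain ⟨w, u, T⟩ := exists_tri hf h2 hv
  have hns := eG_nonscalar hf h2 hv.1 T.vw (fun h0 => T.hw.1 (by rw [h0, sym_zero_left hf]))
  have hσ : σ s = s := fix_of_comm (by norm_num) hd hns (by
    rw [← slotEl_val]; exact (comm_pj hf h2 hv.1).mpr (rs_comm (C := C) hv hg h))
  obtain ⟨A, π, hA, -, he⟩ := hd.slot hσ
  have hgv : g.val = tens s (gs s).val A.val := by
    rw [tens, AlgEquiv.eq_symm_apply]; exact congrArg Units.val he
  rw [RS, hgv, pj_tens, tens_mul, mul_one] at h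
  obtain ⟨κ, hκ⟩ := tens_pair (outer_vv_ne hf hv.1) h.symm
  exact isTW_smul (fun h0 => G.ne_zero (by rw [hκ, h0, zero_smul])) hκ ⟨_, _, hA⟩

variable (hbig : ¬ Big f M) (hsub : ∀ N : Subgroup (GL (Idx (t + 1) 3) F), Ctx3 f N →
  (∀ g ∈ N, IsTW g) ∨ Big f N)
include hbig hsub p

/-- The induced group consists of tensor wreath elements. -/
theorem mv_tw {G : GL (Idx (t + 1) 3) F} (hG : G ∈ Mv C s v) : IsTW G := by
  classical
  haveI : Finite (GL (Idx (t + 2) 3) F) := finite_GL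
  have hf := C.ctx.sym
  have h2 := C.ctx.two
  have C' := ctx3_Mv C hv (s := s)
  rcases hsub _ C' with h | hB
  · exact h G hG
  rcases Nat.eq_zero_or_pos t with ht | ht
  · subst ht
    obtain ⟨B, -, hB⟩ := C'.ctx.slotEl_of_comm (0 : Fin 1) hG fun l hl => absurd (Fin.fin_one_eq_zero l) hl
    exact hB ▸ ⟨1, _, slotEl_data _ _⟩
  exfalso
  obtain ⟨e, he, hee⟩ := exists_singular_sym hf h2 le_rfl
  obtain ⟨e', r, H⟩ := exists_hyp hf h2 he hee
  obtain ⟨ps, hps⟩ : ∃ ps : Fin (t + 1) → Fin 3 → F, ps = fun _ => e := ⟨_, rfl⟩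
  obtain ⟨ws, hws⟩ : ∃ ws : Fin (t + 1) → Fin 3 → F, ws = Function.update (fun _ => e) 0 r := ⟨_, rfl⟩
  obtain ⟨j, hj⟩ : ∃ j : Fin (t + 1), j ≠ 0 := by
    haveI : Nontrivial (Fin (t + 1)) := Fin.nontrivial_iff_two_le.mpr (by omega)
    exact exists_ne 0
  have hPP : bil f (pv ps) (pv ps) = 0 := by
    rw [bil_pv hf, hps]; exact Finset.prod_eq_zero (Finset.mem_univ j) H.ee
  have hPW : bil f (pv ps) (pv ws) = 0 := by
    rw [bil_pv hf, hps, hws]
    exact Finset.prod_eq_zero (Finset.mem_univ (0 : Fin (t + 1))) (by rw [Function.update_self, H.er])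
  have hWW : bil f (pv ws) (pv ws) = 0 := by
    rw [bil_pv hf, hws]
    exact Finset.prod_eq_zero (Finset.mem_univ j) (by rw [Function.update_of_ne hj, H.ee])
  obtain ⟨u, hu, huv⟩ := C'.ctx.ei_of_big ht hB hPP hPW
  have hu1 : ∀ x, (u.val - 1) *ᵥ x = bil f x (pv ps) • pv ws - bil f x (pv ws) • pv ps := fun x => by
    rw [sub_mulVec, one_mulVec, huv, hWW, zero_div, zero_mul, zero_smul, sub_zero]; abel
  have husq : (u.val - 1) * (u.val - 1) = 0 := Matrix.ext_iff_mulVec.mpr fun x => by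
    rw [← mulVec_mulVec, hu1, hu1, bil_sub_left, bil_sub_left, bil_smul_left, bil_smul_left, bil_smul_left,
      bil_smul_left, hPP, hPW, hWW, bil_comm hf (pv ws) (pv ps), hPW]
    simp
  have hup : u ^ p = 1 := Units.ext (by
    rw [Units.val_pow_eq_pow_val, Units.val_one, ← sub_eq_zero,
      show u.val ^ p - 1 = u.val ^ p - (1 : Matrix (Idx (t + 1) 3) (Idx (t + 1) 3) F) ^ p by rw [one_pow],
      ← sub_pow_char_of_commute p (Commute.one_right u.val)]
    obtain ⟨i, hi⟩ := Nat.exists_eq_add_of_le (Fact.out : p.Prime).two_le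
    rw [hi, pow_add, pow_two, husq, zero_mul])
  have hntw : ¬ IsTW u := by
    intro htw
    obtain ⟨rr, Y, hY⟩ := emb_of_sq_zero le_rfl h2 htw husq
    obtain ⟨l, hl⟩ : ∃ l : Fin (t + 1), l ≠ rr := by
      haveI : Nontrivial (Fin (t + 1)) := Fin.nontrivial_iff_two_le.mpr (by omega)
      exact exists_ne rr
    obtain ⟨E, hE⟩ : ∃ E, E = eA f e' r := ⟨_, rfl⟩
    obtain ⟨zs, hzs⟩ : ∃ zs : Fin (t + 1) → Fin 3 → F,
        zs = Function.update (Function.update (fun _ => e') 0 (e' + r)) l e := ⟨_, rfl⟩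
    have hx1 : (u.val - 1) *ᵥ pv (fun _ => e') = pv ws := by
      rw [hu1, bil_pv hf, bil_pv hf, hps, hws,
        Finset.prod_eq_zero (f := fun i => f e' (Function.update (fun _ => e) 0 r i)) (Finset.mem_univ (0 : Fin (t + 1)))
          (by rw [Function.update_self, H.e'r]), Finset.prod_eq_one (fun i _ => by rw [hf.symm, H.pair])]
      simp
    have hcm : emb l E * (u.val - 1) = (u.val - 1) * emb l E := by
      rw [hY, mul_sub, sub_mul, mul_one, one_mul, emb_comm hl]
    have h9 := congrArg (fun z => bil f (z *ᵥ pv (fun _ => e')) (pv zs)) hcm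
    simp only [← mulVec_mulVec, hx1] at h9
    rw [hu1, bil_sub_left, bil_smul_left, bil_smul_left, TWMax.emb_mulVec_pv, bil_pv hf, bil_pv hf (ps), bil_pv hf ws,
      Finset.prod_eq_zero (f := fun i => f (ps i) (zs i)) (Finset.mem_univ l) (by
        rw [hps, hzs, Function.update_self, H.ee]),
      Finset.prod_eq_zero (f := fun i => f (ws i) (zs i)) (Finset.mem_univ l) (by
        rw [hzs, hws, Function.update_self]
        by_cases h0 : l = 0
        · rw [h0, Function.update_self, hf.symm, H.er]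
        · rw [Function.update_of_ne h0, H.ee]), mul_zero, mul_zero, sub_zero, Finset.prod_eq_zero_iff] at h9
    obtain ⟨i, -, hi⟩ := h9
    by_cases hil : i = l
    · subst hil
      rw [hzs, Function.update_self, Function.update_self, hE, hws] at hi
      by_cases h0 : i = 0
      · rw [h0, Function.update_self] at hi
        simp [eA_mulVec hf, sym_sub_left hf, hf.bilinear.add_left, hf.bilinear.smul_left, hf.symm r e, H.er,
          hf.symm r e', H.e'r, hf.symm e' e, H.pair, H.rr] at hi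
      · rw [Function.update_of_ne h0] at hi
        simp [eA_mulVec hf, sym_sub_left hf, hf.bilinear.add_left, hf.bilinear.smul_left, hf.symm r e, H.er,
          H.ee, hf.symm e' e, H.pair, H.rr, h2] at hi
    · rw [hzs, Function.update_of_ne hil, Function.update_of_ne hil, hws] at hi
      by_cases h0 : i = 0
      · rw [h0, Function.update_self, Function.update_self, hf.bilinear.add_right, hf.symm, H.e'r, zero_add] at hi
        exact H.rr hi
      · rw [Function.update_of_ne h0, Function.update_of_ne h0, H.pair] at hi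
        exact one_ne_zero hi
  -- lift
  obtain ⟨y, hy, hyr⟩ : ∃ y ∈ M, RS f s v y u := by
    obtain ⟨-, -, y, hy, hyr | hyr⟩ := hu
    · exact ⟨y, hy, hyr⟩
    · refine ⟨y ^ (p + 1), M.pow_mem hy _, ?_⟩
      have hev : Even (p + 1) := ((Fact.out : p.Prime).odd_of_ne_two fun h => by
        subst h; exact h2 (by exact_mod_cast CharP.cast_eq_zero F 2)).add_one
      have h := rs_pow hyr (p + 1)
      rwa [hev.neg_pow, pow_succ u, hup, one_mul] at h
  obtain ⟨X, hX⟩ : ∃ X, X = slotEl (s.succAbove j) (eU hf h2 e r) := ⟨_, rfl⟩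
  have hXM : X ∈ M := hX ▸ C.ctx.eich_mem _ e r
  have hXr : RS f s v X (slotEl j (eU hf h2 e r)) := hX ▸ rs_slot C j _
  have hXu : slotEl j (eU hf h2 e r) * u = u * slotEl j (eU hf h2 e r) := by
    have hfix : ∀ xs : Fin (t + 1) → Fin 3 → F, xs j = e →
        (slotEl j (eU hf h2 e r)).val *ᵥ pv xs = pv xs := fun xs hxs => by
      rw [slotEl_apply, hxs, eU_val hf h2 H.ee H.er, eA_self hf H.ee H.er]
      rw [← hxs, Function.update_eq_self]
    have h1 := hfix ps (by rw [hps])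
    have h3 := hfix ws (by rw [hws, Function.update_of_ne hj])
    have hiso := piso_slotEl hf j (eU_iso hf h2 e r)
    refine Units.ext (Matrix.ext_iff_mulVec.mpr fun x => ?_)
    have e4 := hu1 ((slotEl j (eU hf h2 e r)).val *ᵥ x)
    have e7 : bil f ((slotEl j (eU hf h2 e r)).val *ᵥ x) (pv ps) = bil f x (pv ps) := by
      conv_lhs => rw [← h1]
      exact hiso _ _
    have e5 : bil f ((slotEl j (eU hf h2 e r)).val *ᵥ x) (pv ws) = bil f x (pv ws) := by
      conv_lhs => rw [← h3]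
      exact hiso _ _
    rw [e7, e5, sub_mulVec, one_mulVec, sub_eq_iff_eq_add] at e4
    have e6 := hu1 x
    rw [sub_mulVec, one_mulVec, sub_eq_iff_eq_add] at e6
    rw [Units.val_mul, Units.val_mul, ← mulVec_mulVec, ← mulVec_mulVec, e4, e6, mulVec_add, mulVec_sub, mulVec_smul,
      mulVec_smul, h1, h3]
  obtain ⟨S, hS⟩ : ∃ S : Set (GL (Idx (t + 2) 3) F), S = {g | g ∈ M ∧ RS f s v g u} := ⟨_, rfl⟩
  have hS' : ∀ g, g ∈ S ↔ g ∈ M ∧ RS f s v g u := fun g => by rw [hS]; rfl
  have hcard : Nat.card S = Nat.card (K0 s v C) := by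
    refine Nat.card_congr ⟨fun g => ⟨y⁻¹ * g.1, M.mul_mem (M.inv_mem hy) ((hS' _).mp g.2).1, ?_⟩,
      fun k => ⟨y * k.1, (hS' _).mpr ⟨M.mul_mem hy k.2.1, by simpa using rs_mul hyr (rs_of_fix k.2.2)⟩⟩,
      fun g => Subtype.ext (mul_inv_cancel_left _ _), fun k => Subtype.ext (inv_mul_cancel_left _ _)⟩
    have h := rs_mul (rs_inv hyr) ((hS' _).mp g.2).2
    rw [inv_mul_cancel, RS, Units.val_one, ← pj_tens] at h
    exact h
  haveI : Fintype S := Fintype.ofFinite S
  obtain ⟨τ, hτ⟩ : ∃ τ : Equiv.Perm S, ∀ g, (τ g).1 = X * g.1 * X⁻¹ :=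
    ⟨Equiv.ofBijective (fun g : S => (⟨X * g.1 * X⁻¹, (hS' _).mpr
      ⟨M.mul_mem (M.mul_mem hXM ((hS' _).mp g.2).1) (M.inv_mem hXM), by
        have h := rs_mul (rs_mul hXr ((hS' _).mp g.2).2) (rs_inv hXr)
        rwa [hXu, mul_inv_cancel_right] at h⟩⟩ : S))
      (Finite.injective_iff_bijective.mp fun a b h =>
        Subtype.ext (mul_left_cancel (mul_right_cancel (congrArg Subtype.val h)))), fun g => rfl⟩
  have hpw : ∀ (i : ℕ) g, ((τ ^ i) g).1 = X ^ i * g.1 * (X ^ i)⁻¹ := fun i => by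
    induction i with
    | zero => intro g; simp
    | succ i ih => intro g; rw [pow_succ' τ, Equiv.Perm.mul_apply, hτ, ih, pow_succ']; group
  have hp1 : τ ^ p ^ 1 = 1 := Equiv.ext fun g => Subtype.ext (by
    rw [hpw, pow_one, hX, slotEl_pow, eU_pow_char hf h2 p H.ee H.er, slotEl_one]; simp)
  obtain ⟨g, hg⟩ := Equiv.Perm.exists_fixed_point_of_prime (p := p) (n := 1)
    (by rw [← Nat.card_eq_fintype_card, hcard]; exact k0_card hv p hflag) hp1
  have hgX : X * g.1 = g.1 * X := mul_inv_eq_iff_eq_mul.mp ((hτ g).symm.trans (congrArg Subtype.val hg))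
  obtain ⟨hgM, hgr⟩ := (hS' _).mp g.2
  exact hntw (rs_tw (C := C) hv hgM (tw_of_root C hflag hgM H H (by rw [← hX, hgX])) hgr)

/-- Restrictions to the subspace are monomial isometries. -/
theorem rs_data {g : GL (Idx (t + 2) 3) F} (hg : g ∈ M) {G : GL (Idx (t + 1) 3) F} (h : RS f s v g G) :
    ∃ σ gs, (∀ i, gs i ∈ isoF f) ∧ TWData G σ gs := by
  have hf := C.ctx.sym
  have hiso := rs_piso hf hv.1 (C.ctx.iso g hg) h
  have htw : IsTW G := by
    rcases mul_self_eq_one_iff.mp (det_sq_of_piso hf hiso) with hd | hd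
    · exact mv_tw (C := C) hv p hflag hbig hsub ⟨hiso, hd, g, hg, Or.inl h⟩
    · refine isTW_neg (mv_tw (C := C) hv p hflag hbig hsub ⟨fun x y => ?_, by rw [neg_det, hd, neg_neg], g, hg,
        Or.inr (by rwa [neg_neg])⟩)
      rw [Units.val_neg, neg_mulVec, neg_mulVec, bil_neg_left, bil_neg_right, neg_neg]
      exact hiso x y
  obtain ⟨σ, gs, hd⟩ := htw
  obtain ⟨gs', h1, h3⟩ := isoF_of_tw hf (by decide) C.ctx.two le_rfl hd hiso
  exact ⟨σ, gs', h1, h3⟩

end CfsgLib.Classical22.OPow.Three
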