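/-
Five elements: isometries fixing and inverted by signed reflections of every slot have exponent four.
-/
import Cfsg.Agent.Lib.Classical22.OrthPower.Three.Restrict

set_option autoImplicit false
set_option linter.unusedSectionVars false
set_option linter.unusedSimpArgs false

namespace CfsgLib.Classical22.OPow.Three

open Matrix CfsgLib.Transvec CfsgLib.Classical22.TensorMax CfsgLib.Classical22.TensorMax.SympO
open CfsgLib.Classical22.TensorMax.SpO (sym_outer sym_zero_left sym_zero_right sym_sub_left sym_sub_right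
  sym_neg_left sym_quad_smul)
open CfsgLib.Classical22.TensorMax.OO (sym_neg_right)
open CfsgLib.Classical22.TWMax (Idx pv emb emb_mulVec_pv slotEl slotEl_apply slotEl_val slotEl_mul mat_ext_pv)
open scoped MatrixGroups

variable {F : Type*} [Field F] {f : (Fin 3 → F) → (Fin 3 → F) → F}

/-- Resolution of the identity by a triple. -/
lemma Tri.resolve (hf : Cfsg.Geo.IsSymmetricForm f) {v w u : Fin 3 → F} (T : Tri f v w u) :
    (f v v)⁻¹ • outer f v v + (f w w)⁻¹ • outer f w w + (f u u)⁻¹ • outer f u u = 1 :=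
  Matrix.ext_iff_mulVec.mpr fun x => by
    rw [add_mulVec, add_mulVec, smul_mulVec, smul_mulVec, smul_mulVec, sym_outer hf, sym_outer hf, sym_outer hf,
      one_mulVec, smul_smul, smul_smul, smul_smul]
    conv_rhs => rw [T.dec hf x]
    simp only [inv_mul_eq_div]

/-- A triple with two equal values. -/
lemma exists_tri_eq [Fintype F] (hf : Cfsg.Geo.IsSymmetricForm f) (h2 : (2 : F) ≠ 0) {v : Fin 3 → F} (hv : Good f v) :
    ∃ w u, Tri f v w u ∧ f w w = f u u := by
  obtain ⟨w, u, T⟩ := exists_tri hf h2 hv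
  obtain ⟨a, ha⟩ := T.hw.2
  obtain ⟨b, hb⟩ := T.hu.2
  have hg := det_gram_ne hf
  have ha0 : a ≠ 0 := fun h => mul_ne_zero hg T.hw.1 (by rw [ha, h, mul_zero])
  have hb0 : b ≠ 0 := fun h => mul_ne_zero hg T.hu.1 (by rw [hb, h, mul_zero])
  refine ⟨w, (a / b) • u, ⟨T.hv, T.hw, good_smul hf (div_ne_zero ha0 hb0) T.hu, T.vw, ?_, ?_⟩, ?_⟩
  · rw [hf.bilinear.smul_right, T.vu, mul_zero]
  · rw [hf.bilinear.smul_right, T.wu, mul_zero]
  · refine mul_left_cancel₀ hg ?_
    rw [sym_quad_smul hf, ha]
    field_simp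
    linear_combination -hb

lemma sq_or_of_five [Fintype F] (hq : Fintype.card F = 5) {a b : F} (h : a * a + b * b = 1) : a = 0 ∨ b = 0 := by
  by_contra hc
  push Not at hc
  have e : ∀ x : F, x ≠ 0 → x ^ 4 = 1 := fun x hx => by
    have := FiniteField.pow_card_sub_one_eq_one x hx
    rwa [hq] at this
  have h5 : (5 : F) = 0 := by
    have := FiniteField.cast_card_eq_zero F
    rw [hq] at this
    exact_mod_cast this
  have h1 : 2 * (a * a) * (b * b) = -1 := by
    linear_combination (a * a + b * b + 1) * h - e a hc.1 - e b hc.2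
  have h3 : (3 : F) = 0 := by
    linear_combination (2 * (a * a) * (b * b) - 1) * h1 - 4 * (b ^ 4) * e a hc.1 - 4 * e b hc.2
  exact one_ne_zero (α := F) (by linear_combination 2 * h3 - h5)

/-- Rotations have exponent four. -/
lemma Tri.rot_four [Fintype F] (hq : Fintype.card F = 5) (hf : Cfsg.Geo.IsSymmetricForm f) {v w u : Fin 3 → F}
    (T : Tri f v w u) (he : f w w = f u u) {B : GL (Fin 3) F} (hB : B ∈ isoF f) (hd : B.val.det = 1)
    (hBv : B.val *ᵥ v = v) : B ^ 4 = 1 := by
  obtain ⟨x, y, b1, b2, e1⟩ := T.rot hf hB hd hBv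
  rw [← he] at e1 b2
  have hw := T.hw.1
  have e2 : x * x + y * y = 1 := mul_right_cancel₀ hw (by linear_combination e1)
  rw [neg_div, mul_div_assoc, div_self hw, mul_one] at b2
  have key : B.val *ᵥ (B.val *ᵥ (B.val *ᵥ (B.val *ᵥ w))) = w ∧ B.val *ᵥ (B.val *ᵥ (B.val *ᵥ (B.val *ᵥ u))) = u := by
    rcases sq_or_of_five hq e2 with h | h <;> rw [h] at b1 b2 e2
    · have hy : y * y = 1 := by linear_combination e2
      constructor <;> simp only [b1, b2, mulVec_add, mulVec_smul, zero_smul, zero_add, add_zero, smul_zero,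
        mulVec_zero, smul_smul] <;>
      · match_scalars; linear_combination (y * y + 1) * hy
    · have hx : x * x = 1 := by linear_combination e2
      constructor <;> simp only [b1, b2, mulVec_add, mulVec_smul, zero_smul, zero_add, add_zero, neg_zero, smul_zero,
        mulVec_zero, smul_smul] <;>
      · match_scalars; linear_combination (x * x + 1) * hx
  refine Units.ext (T.ext hf ?_ ?_ ?_) <;>
    simp only [pow_succ', pow_zero, mul_one, Units.val_mul, ← mulVec_mulVec, Units.val_one, one_mulVec,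
      hBv, key.1, key.2]

section Basis

variable (hf : Cfsg.Geo.IsSymmetricForm f) {T : ℕ} {zv zw zu : Fin T → Fin 3 → F}
  (Z : ∀ i, Tri f (zv i) (zw i) (zu i))
include hf Z

/-- Pure vectors of a basis of triples suffice. -/
lemma basis_ext {A B : Matrix (Idx T 3) (Idx T 3) F}
    (h : ∀ y : Idx T 3, A *ᵥ pv (fun i => ![zv i, zw i, zu i] (y i)) = B *ᵥ pv (fun i => ![zv i, zw i, zu i] (y i))) :
    A = B := by
  classical
  refine mat_ext_pv fun xs => ?_
  suffices h' : ∀ S : Finset (Fin T), ∀ xs, (∀ i, i ∉ S → ∃ j, xs i = ![zv i, zw i, zu i] j) →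
      A *ᵥ pv xs = B *ᵥ pv xs from h' Finset.univ xs fun i hi => absurd (Finset.mem_univ i) hi
  intro S
  induction S using Finset.induction_on with
  | empty =>
    intro xs hxs
    choose y hy using fun i => hxs i (Finset.notMem_empty i)
    rw [funext hy]
    exact h y
  | insert m S hm ih =>
    intro xs hxs
    have hstep : ∀ j, A *ᵥ pv (Function.update xs m (![zv m, zw m, zu m] j)) =
        B *ᵥ pv (Function.update xs m (![zv m, zw m, zu m] j)) := fun j => ih _ fun i hi => by
      by_cases him : i = m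
      · subst him; exact ⟨j, Function.update_self _ _ _⟩
      · rw [Function.update_of_ne him]; exact hxs i (by simp [him, hi])
    have h0 := hstep 0
    have h1 := hstep 1
    have h2 := hstep 2
    simp only [Matrix.cons_val_zero, Matrix.cons_val_one, Matrix.cons_val] at h0 h1 h2
    rw [← pv_self xs m, (Z m).dec hf (xs m)]
    simp only [pv_add, pv_smul, mulVec_add, mulVec_smul, h0, h1, h2]

/-- The basis is orthogonal. -/
lemma basis_bil (y y' : Idx T 3) : bil f (pv fun i => ![zv i, zw i, zu i] (y i))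
    (pv fun i => ![zv i, zw i, zu i] (y' i)) = if y = y' then ∏ i, ![f (zv i) (zv i), f (zw i) (zw i),
      f (zu i) (zu i)] (y i) else 0 := by
  rw [bil_pv hf]
  split_ifs with h
  · subst h
    refine Finset.prod_congr rfl fun i _ => ?_
    generalize y i = j
    fin_cases j <;> rfl
  · obtain ⟨i, hi⟩ := Function.ne_iff.mp h
    refine Finset.prod_eq_zero (Finset.mem_univ i) ?_
    revert hi
    generalize y i = j
    generalize y' i = j'
    intro hi
    have := Z i
    fin_cases j <;> fin_cases j' <;>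
      first
      | exact absurd rfl hi
      | exact this.vw
      | exact this.vu
      | exact this.wu
      | exact (hf.symm _ _).trans this.vw
      | exact (hf.symm _ _).trans this.vu
      | exact (hf.symm _ _).trans this.wu

end Basis

/-- The other plane vector. -/
def flipI {T : ℕ} (y : Idx T 3) : Idx T 3 := fun i => ![0, 2, 1] (y i)

theorem pow_four_of_inverted [Fintype F] (hq : Fintype.card F = 5) (hf : Cfsg.Geo.IsSymmetricForm f) {t : ℕ}
    {zv zw zu : Fin (t + 2) → Fin 3 → F} (Z : ∀ i, Tri f (zv i) (zw i) (zu i))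
    (he : ∀ i, f (zw i) (zw i) = f (zu i) (zu i)) {θ : GL (Idx (t + 2) 3) F} (hθ : PIso f θ)
    (hfix : ∀ i, θ.val * Pj f i (zv i) = Pj f i (zv i))
    (hinv : ∀ i, slotEl i (eG hf (zw i)) * θ * slotEl i (eG hf (zw i)) = θ⁻¹) : θ ^ 4 = 1 := by
  classical
  obtain ⟨X, hX⟩ : ∃ X : Idx (t + 2) 3 → Idx (t + 2) 3 → F, ∀ y, X y = pv fun i => ![zv i, zw i, zu i] (y i) :=
    ⟨_, fun y => rfl⟩
  obtain ⟨N, hN⟩ : ∃ N : Idx (t + 2) 3 → F, ∀ y, bil f (X y) (X y) = N y := ⟨_, fun y => rfl⟩
  have horth : ∀ y y', y ≠ y' → bil f (X y) (X y') = 0 := fun y y' h => by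
    rw [hX, hX, basis_bil hf Z, if_neg h]
  have hNy : ∀ y, N y = ∏ i, ![f (zv i) (zv i), f (zw i) (zw i), f (zu i) (zu i)] (y i) := fun y => by
    rw [← hN, hX, basis_bil hf Z, if_pos rfl]
  have hN0 : ∀ y, N y ≠ 0 := fun y => by
    rw [hNy, Finset.prod_ne_zero_iff]
    intro i _
    generalize y i = j
    fin_cases j
    exacts [(Z i).hv.1, (Z i).hw.1, (Z i).hu.1]
  have h0 : ∀ y i, y i = 0 → θ.val *ᵥ X y = X y := fun y i hi => by
    have h := congrArg (· *ᵥ X y) (hfix i)
    have e : Pj f i (zv i) *ᵥ X y = f (zv i) (zv i) • X y := by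
      rw [hX, Pj, emb_mulVec_pv, sym_outer hf, hi]
      change pv (Function.update _ i (f (zv i) (zv i) • zv i)) = _
      rw [pv_smul]
      congr 2
      funext j
      by_cases hj : j = i
      · subst hj; rw [Function.update_self, hi]; rfl
      · rw [Function.update_of_ne hj]
    simp only [← mulVec_mulVec, e, mulVec_smul] at h
    exact smul_right_injective _ (Z i).hv.1 h
  obtain ⟨c, hc⟩ : ∃ c : Idx (t + 2) 3 → Idx (t + 2) 3 → F, ∀ y y', c y y' = bil f (θ.val *ᵥ X y) (X y') :=
    ⟨_, fun y y' => rfl⟩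
  obtain ⟨sg, hsg⟩ : ∃ sg : Idx (t + 2) 3 → Fin (t + 2) → F, sg = fun y i => ![-1, 1, -1] (y i) := ⟨_, rfl⟩
  have hb : ∀ y i, (slotEl i (eG hf (zw i))).val *ᵥ X y = sg y i • X y := fun y i => by
    rw [hX, slotEl_apply, hsg]
    have : (eG hf (zw i)).val *ᵥ ![zv i, zw i, zu i] (y i) = ![(-1 : F), 1, -1] (y i) • ![zv i, zw i, zu i] (y i) := by
      generalize y i = j
      fin_cases j
      · exact (eG_perp hf (Z i).hw.1 (Z i).vw).trans (neg_one_smul F _).symm
      · exact (eG_self hf (Z i).hw.1).trans (one_smul F _).symm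
      · exact (eG_perp hf (Z i).hw.1 ((hf.symm _ _).trans (Z i).wu)).trans (neg_one_smul F _).symm
    rw [this, pv_smul, Function.update_eq_self]
  have hrel : ∀ y y' i, c y y' = sg y i * sg y' i * c y' y := fun y y' i => by
    have hbi : PIso f (slotEl i (eG hf (zw i))) := piso_slotEl hf i (eG_iso hf _)
    have h3 : θ * slotEl i (eG hf (zw i)) = slotEl i (eG hf (zw i)) * θ⁻¹ := by
      rw [← hinv i, ← mul_assoc, ← mul_assoc, slotEl_mul, eG_mul_self, slotEl_one, one_mul]
    have h4 := congrArg (fun g : GL (Idx (t + 2) 3) F =>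
      bil f (g.val *ᵥ X y) ((slotEl i (eG hf (zw i))).val *ᵥ X y')) h3
    simp only [Units.val_mul, ← mulVec_mulVec] at h4
    rw [hbi, hb, hb, mulVec_smul, bil_smul_left, bil_smul_right, ← hc,
      ← hθ (θ⁻¹.val *ᵥ X y), Transvec.mulVec_inv_cancel, bil_comm hf, ← hc] at h4
    have hs : sg y i * sg y i = 1 ∧ sg y' i * sg y' i = 1 := by
      constructor <;> rw [hsg] <;> simp only
      · generalize y i = j; fin_cases j <;> simp
      · generalize y' i = j; fin_cases j <;> simp
    linear_combination sg y i * sg y' i * h4 - c y y' * (sg y' i * sg y' i) * hs.1 - c y y' * hs.2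
  have key : ∀ y, (∀ i, y i ≠ 0) → ∀ y', c y y' ≠ 0 → y' = y ∨ y' = flipI y := by
    intro y hy y' hcy
    have hy' : ∀ i, y' i ≠ 0 := fun i hi => hcy (by
      rw [hc, ← h0 y' i hi, hθ, horth y y' fun e => hy i (e ▸ hi)])
    have hne : c y' y ≠ 0 := fun h => hcy (by rw [hrel y y' 0, h, mul_zero])
    have hsame : ∀ i, sg y i * sg y' i = sg y 0 * sg y' 0 := fun i =>
      mul_right_cancel₀ hne ((hrel y y' i).symm.trans (hrel y y' 0))
    have hcase : ∀ i, (sg y i * sg y' i = 1 → y' i = y i) ∧ (sg y i * sg y' i = -1 → y' i = flipI y i) := by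
      intro i
      have h2 : (-1 : F) ≠ 1 := fun h => by
        have h5 : (5 : F) = 0 := by
          have := FiniteField.cast_card_eq_zero F
          rw [hq] at this
          exact_mod_cast this
        exact one_ne_zero (α := F) (by linear_combination h5 + 2 * h)
      rw [hsg, flipI]
      simp only
      have ha := hy i
      have hb := hy' i
      revert ha hb
      generalize y i = j
      generalize y' i = j'
      fin_cases j <;> fin_cases j' <;> simp [h2, h2.symm]
    have hsq : ∀ z : Idx (t + 2) 3, sg z 0 = 1 ∨ sg z 0 = -1 := fun z => by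
      rw [hsg]; simp only; generalize z 0 = j; fin_cases j <;> simp
    rcases hsq y with h | h <;> rcases hsq y' with h' | h'
    · exact Or.inl (funext fun i => (hcase i).1 ((hsame i).trans (by rw [h, h', one_mul])))
    · exact Or.inr (funext fun i => (hcase i).2 ((hsame i).trans (by rw [h, h', one_mul])))
    · exact Or.inr (funext fun i => (hcase i).2 ((hsame i).trans (by rw [h, h', mul_one])))
    · exact Or.inl (funext fun i => (hcase i).1 ((hsame i).trans (by rw [h, h', neg_mul_neg, one_mul])))
  have hflip : ∀ y, (∀ i, y i ≠ 0) → (∀ i, flipI y i ≠ 0) ∧ flipI (flipI y) = y ∧ y ≠ flipI y ∧ N (flipI y) = N y := by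
    intro y hy
    refine ⟨fun i => ?_, funext fun i => ?_, fun h => ?_, ?_⟩
    · rw [flipI]; have := hy i; revert this; generalize y i = j; fin_cases j <;> simp
    · rw [flipI, flipI]; generalize y i = j; fin_cases j <;> simp
    · have h1 := congrFun h 0; have := hy 0
      rw [flipI] at h1; revert h1 this; generalize y 0 = j; fin_cases j <;> simp
    · rw [hNy, hNy]
      refine Finset.prod_congr rfl fun i _ => ?_
      have := hy i
      rw [flipI]; revert this; generalize y i = j; fin_cases j <;> simp [he i]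
  have hexp : ∀ y, (∀ i, y i ≠ 0) →
      ∃ a b : F, θ.val *ᵥ X y = a • X y + b • X (flipI y) ∧ (a = 0 ∨ b = 0) ∧ (a * a = 1 ∨ b * b = 1) := by
    intro y hy
    obtain ⟨-, -, hne, hNf⟩ := hflip y hy
    obtain ⟨a, ha⟩ : ∃ a, a = c y y / N y := ⟨_, rfl⟩
    obtain ⟨b, hb'⟩ : ∃ b, b = c y (flipI y) / N y := ⟨_, rfl⟩
    have hz : θ.val *ᵥ X y = a • X y + b • X (flipI y) := by
      refine sub_eq_zero.mp (bil_nd hf fun w => ?_)
      obtain ⟨z, hz⟩ : ∃ z, z = θ.val *ᵥ X y - (a • X y + b • X (flipI y)) := ⟨_, rfl⟩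
      rw [← hz]
      have hz0 : ∀ y', bil f z (X y') = 0 := fun y' => by
        rw [hz, bil_sub_left, bil_add_left, bil_smul_left, bil_smul_left, ← hc]
        by_cases h1 : y' = y
        · subst h1
          rw [hN, horth _ _ hne.symm, ha]
          field_simp [hN0]
          ring
        by_cases h3 : y' = flipI y
        · subst h3
          rw [hN, hNf, horth _ _ hne, hb']
          field_simp [hN0]
          ring
        have : c y y' = 0 := by_contra fun h => (key y hy y' h).elim h1 h3
        rw [this, horth _ _ (Ne.symm h1), horth _ _ (Ne.symm h3)]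
        ring
      obtain ⟨A, hA⟩ : ∃ A : Matrix (Idx (t + 2) 3) (Idx (t + 2) 3) F, ∀ x i, (A *ᵥ x) i = bil f z x :=
        ⟨Matrix.of fun _ => z ᵥ* TPow.pG (t + 2) f, fun x i => by
          change (z ᵥ* TPow.pG (t + 2) f) ⬝ᵥ x = _
          rw [bil, ← dotProduct_mulVec, dotProduct_comm]⟩
      have hA0 : A = 0 := basis_ext hf Z fun y' => by
        rw [← hX, zero_mulVec]; funext i; rw [hA, hz0]; rfl
      rw [← hA w (fun _ => 0), hA0, zero_mulVec]; rfl
    have hsum : a * a + b * b = 1 := by
      have h := hθ (X y) (X y)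
      rw [hz, bil_add_left, bil_add_right, bil_add_right] at h
      simp only [bil_smul_left, bil_smul_right, hN, horth _ _ hne, horth _ _ hne.symm, hNf] at h
      exact mul_right_cancel₀ (hN0 y) (by linear_combination h)
    refine ⟨a, b, hz, sq_or_of_five hq hsum, ?_⟩
    rcases sq_or_of_five hq hsum with h | h <;> rw [h, mul_zero] at hsum
    · exact Or.inr (by linear_combination hsum)
    · exact Or.inl (by linear_combination hsum)
  refine Units.ext (basis_ext hf Z fun y => ?_)
  rw [← hX, Units.val_one, one_mulVec]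
  simp only [pow_succ', pow_zero, mul_one, Units.val_mul, ← mulVec_mulVec]
  by_cases hy : ∀ i, y i ≠ 0
  swap
  · push Not at hy
    obtain ⟨i, hi⟩ := hy
    rw [h0 y i hi, h0 y i hi, h0 y i hi, h0 y i hi]
  obtain ⟨hy', hff, hne, -⟩ := hflip y hy
  obtain ⟨a, b, h1, hab, hsq⟩ := hexp y hy
  obtain ⟨a', b', h3, hab', hsq'⟩ := hexp _ hy'
  rw [hff] at h3
  rcases hab with rfl | rfl
  · have hb : b * b = 1 := hsq.resolve_left (by simp)
    have hb0 : b ≠ 0 := fun h => by simp [h] at hb
    simp only [zero_smul, zero_add] at h1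
    have ha' : a' = 0 := by
      refine hab'.resolve_right fun hb'0 => ?_
      simp only [hb'0, zero_smul, add_zero] at h3
      have h4 : θ.val *ᵥ (a' • X y) = θ.val *ᵥ (b • X (flipI y)) := by
        rw [mulVec_smul, mulVec_smul, h1, h3, smul_comm]
      have h5 := congrArg (bil f · (X (flipI y))) (Transvec.mulVec_injective θ h4)
      simp only [bil_smul_left, horth _ _ hne, mul_zero, hN] at h5
      exact mul_ne_zero hb0 (hN0 _) h5.symm
    subst ha'
    have hb' : b' * b' = 1 := hsq'.resolve_left (by simp)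
    simp only [zero_smul, zero_add] at h3
    simp only [h1, h3, mulVec_smul, smul_smul]
    rw [show b * b' * b * b' = 1 by linear_combination (b' * b') * hb + hb', one_smul]
  · have ha : a * a = 1 := hsq.resolve_right (by simp)
    simp only [zero_smul, add_zero] at h1
    simp only [h1, mulVec_smul, smul_smul]
    rw [show a * a * a * a = 1 by linear_combination (a * a + 1) * ha, one_smul]

end CfsgLib.Classical22.OPow.Three
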