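/-
The pointwise stabiliser of a good subspace consists of slot elements, and centralisers of good signed reflections are
monomial.
-/
import Cfsg.Agent.Lib.Classical22.OrthPower.Three.Cent
import Cfsg.Agent.Lib.Classical22.OrthPower.Three.Five

set_option autoImplicit false
set_option linter.unusedSectionVars false
set_option linter.unusedSimpArgs false

namespace CfsgLib.Classical22.OPow.Three

open Matrix CfsgLib.Transvec CfsgLib.Classical22.TensorMax CfsgLib.Classical22.TensorMax.SympO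
open CfsgLib.Classical22.TensorMax.SpO (sym_outer sym_zero_left sym_zero_right sym_neg_left exists_singular_sym)
open CfsgLib.Classical22.TensorMax.OO (sym_neg_right)
open CfsgLib.Classical22.TWMax (Idx pv emb emb_mul emb_one emb_comm emb_add slotEl slotEl_val slotEl_mul slotEl_data
  TWData IsTW)
open scoped MatrixGroups

variable {F : Type*} [Field F] [Fintype F] {f : (Fin 3 → F) → (Fin 3 → F) → F} {t : ℕ}
  {M : Subgroup (GL (Idx (t + 2) 3) F)} {C : Ctx3 f M} {s : Fin (t + 2)} {v : Fin 3 → F}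

lemma comm_slot_pj {i : Fin (t + 2)} (l : Fin (t + 1)) (B : GL (Fin 3) F) (z : Fin 3 → F) :
    (slotEl (i.succAbove l) B).val * Pj f i z = Pj f i z * (slotEl (i.succAbove l) B).val := by
  rw [slotEl_val, Pj, emb_comm (Fin.succAbove_ne i l)]

include C in
lemma eG_pj {z : Fin 3 → F} (hz : Good f z) (h : f z v = 0 ∨ z = v) :
    (slotEl s (eG C.ctx.sym z)).val * Pj f s v = Pj f s v * (slotEl s (eG C.ctx.sym z)).val := by
  have hf := C.ctx.sym
  obtain ⟨ε, hε, he⟩ : ∃ ε : F, ε * ε = 1 ∧ (eG hf z).val *ᵥ v = ε • v := by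
    rcases h with h | rfl
    · exact ⟨-1, by ring, by rw [eG_perp hf hz.1 (by rw [hf.symm, h]), neg_one_smul]⟩
    · exact ⟨1, by ring, by rw [eG_self hf hz.1, one_smul]⟩
  rw [slotEl_val, Pj, ← emb_mul, ← emb_mul]
  congr 1
  have h9 := congrArg (· * (eG hf z).val) (conj_outer hf (eG_iso hf z) v v)
  simp only [mul_assoc, Units.inv_mul, mul_one, he, outer_smul_left hf, outer_smul_right hf, smul_smul, hε,
    one_smul] at h9
  exact h9

include C in
lemma a_mem_r0 (hv : Good f v) : slotEl s (eG C.ctx.sym v) ∈ R0 s v C := by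
  have hf := C.ctx.sym
  refine ⟨⟨C.good s v hv, ?_⟩, _, eG_iso hf v, det_eG hf (by decide) hv.1, eG_self hf hv.1, rfl⟩
  rw [slotEl_val, Pj, ← emb_mul]
  congr 1
  exact Matrix.ext_iff_mulVec.mpr fun x => by rw [← mulVec_mulVec, sym_outer hf, mulVec_smul, eG_self hf hv.1]

variable (hv : Good f v) (p : ℕ) [Fact p.Prime] [CharP F p] (hflag : Flags C.ctx) (hbig : ¬ Big f M)
  (hsub : ∀ N : Subgroup (GL (Idx (t + 1) 3) F), Ctx3 f N → (∀ g ∈ N, IsTW g) ∨ Big f N)
include hv hflag hbig hsub p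

/-- An element of the stabiliser preserving a second good subspace of the slot is scalar there. -/
theorem proj_scalar {z : Fin 3 → F} (hz : Good f z) (hvz : f v z = 0) {k : GL (Idx (t + 2) 3) F}
    (hk : k ∈ K0 s v C) (hc : k.val * Pj f s z = Pj f s z * k.val) :
    k.val * Pj f s z = Pj f s z ∨ k.val * Pj f s z = -Pj f s z := by
  classical
  haveI : Finite (GL (Idx (t + 2) 3) F) := finite_GL
  haveI : Finite (GL (Idx (t + 1) 3) F) := finite_GL
  have hf := C.ctx.sym
  have h2 := C.ctx.two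
  obtain ⟨G, hG⟩ := exists_rs hf hz.1 hc
  obtain ⟨L, hL⟩ : ∃ L : Subgroup (GL (Idx (t + 1) 3) F),
      ∀ G, G ∈ L ↔ ∃ k, k ∈ K0 s v C ∧ k.val * Pj f s z = Pj f s z * k.val ∧ RS f s z k G :=
    ⟨{ carrier := {G | ∃ k, k ∈ K0 s v C ∧ k.val * Pj f s z = Pj f s z * k.val ∧ RS f s z k G}
       one_mem' := ⟨1, one_mem _, by rw [Units.val_one, one_mul, mul_one], rs_one⟩
       mul_mem' := by
        rintro A B ⟨a, ha, ca, ra⟩ ⟨b, hb, cb, rb⟩
        exact ⟨a * b, mul_mem ha hb, by rw [Units.val_mul, mul_assoc, cb, ← mul_assoc, ca, mul_assoc],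
          rs_mul ra rb⟩
       inv_mem' := by
        rintro A ⟨a, ha, ca, ra⟩
        refine ⟨a⁻¹, inv_mem ha, ?_, rs_inv ra⟩
        have h := congrArg (fun X => a⁻¹.val * X * a⁻¹.val) ca
        simpa [← mul_assoc, mul_assoc _ a.val a⁻¹.val] using h.symm }, fun G => Iff.rfl⟩
  have hLp : ¬ p ∣ Nat.card L := fun hd => by
    obtain ⟨x, hx⟩ := exists_prime_orderOf_dvd_card' p hd
    obtain ⟨a, ha, -, ra⟩ := (hL x.1).mp x.2
    have h1 : a ^ Nat.card (K0 s v C) = 1 := congrArg Subtype.val (pow_card_eq_one' (x := (⟨a, ha⟩ : K0 s v C)))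
    have h3 := rs_unique hf hz.1 (rs_pow ra (Nat.card (K0 s v C))) (h1 ▸ rs_one)
    refine k0_card (C := C) (s := s) hv p hflag ?_
    rw [← hx, orderOf_dvd_iff_pow_eq_one]
    exact Subtype.ext h3
  have hq : 4 ≤ Fintype.card F := by
    have := C.ctx.small rfl; rw [Nat.card_eq_fintype_card] at this; omega
  have hsc := scalar_of_invariant hf h2 p hq hLp
    (fun A hA => by
      obtain ⟨a, ha, -, ra⟩ := (hL A).mp hA
      exact rs_data (C := C) hz p hflag hbig hsub ha.1 ra)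
    (fun l u w _ _ A hA => by
      obtain ⟨a, ha, ca, ra⟩ := (hL A).mp hA
      obtain ⟨X, hX⟩ : ∃ X, X = slotEl (s.succAbove l) (eU hf h2 u w) := ⟨_, rfl⟩
      have hXM : X ∈ M := hX ▸ C.ctx.eich_mem _ u w
      have hr : RS f s z X (slotEl l (eU hf h2 u w)) := hX ▸ rs_slot C l _
      have hXz : X.val * Pj f s z = Pj f s z * X.val := hX ▸ comm_slot_pj l _ z
      refine (hL _).mpr ⟨X * a * X⁻¹, k0_conj hv hXM (hX ▸ comm_slot_pj l _ v) ha, ?_,
        rs_mul (rs_mul hr ra) (rs_inv hr)⟩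
      exact rs_comm (C := C) hz (M.mul_mem (M.mul_mem hXM ha.1) (M.inv_mem hXM))
        (rs_mul (rs_mul hr ra) (rs_inv hr)))
    ((hL G).mpr ⟨k, hk, hc, hG⟩)
  rcases hsc with h | h <;> rw [h, RS] at hG
  · left; rw [hG, Units.val_one, ← pj_tens]
  · right; rw [hG, Units.val_neg, Units.val_one, ← neg_one_smul F (1 : Matrix (Idx (t + 1) 3) _ F), tens_smul_right,
      neg_one_smul, ← pj_tens]

/-- The involution of the stabiliser centralising a second reflection. -/
theorem cent_b {w u : Fin 3 → F} (T : Tri f v w u) {k : GL (Idx (t + 2) 3) F} (hk : k ∈ K0 s v C)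
    (hkb : slotEl s (eG C.ctx.sym w) * k = k * slotEl s (eG C.ctx.sym w)) :
    k = 1 ∨ k = slotEl s (eG C.ctx.sym v) := by
  have hf := C.ctx.sym
  have h2 := C.ctx.two
  have hkv : k.val * Pj f s v = Pj f s v * k.val := rs_comm (C := C) hv hk.1 (rs_of_fix hk.2)
  have hkw : k.val * Pj f s w = Pj f s w * k.val := (comm_pj hf h2 T.hw.1).mp (by
    have := congrArg Units.val hkb; rw [Units.val_mul, Units.val_mul] at this; exact this.symm)
  have hres : (f v v)⁻¹ • Pj f s v + (f w w)⁻¹ • Pj f s w + (f u u)⁻¹ • Pj f s u = 1 := by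
    rw [Pj, Pj, Pj, ← emb_smul', ← emb_smul', ← emb_smul', ← emb_add, ← emb_add, T.resolve hf, emb_one]
  have hku : k.val * Pj f s u = Pj f s u * k.val := by
    have e : Pj f s u = f u u • (1 - (f v v)⁻¹ • Pj f s v - (f w w)⁻¹ • Pj f s w) := by
      rw [← hres, add_sub_right_comm, add_sub_cancel_left, add_sub_cancel_left, smul_smul, mul_inv_cancel₀ T.hu.1,
        one_smul]
    rw [e, Matrix.mul_smul, Matrix.smul_mul, mul_sub, mul_sub, sub_mul, sub_mul, mul_one, one_mul, Matrix.mul_smul,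
      Matrix.mul_smul, Matrix.smul_mul, Matrix.smul_mul, hkv, hkw]
  have hkval : k.val = (f v v)⁻¹ • Pj f s v + (f w w)⁻¹ • (k.val * Pj f s w) + (f u u)⁻¹ • (k.val * Pj f s u) := by
    conv_lhs => rw [← mul_one k.val, ← hres, mul_add, mul_add, Matrix.mul_smul, Matrix.mul_smul, Matrix.mul_smul,
      hk.2]
  have hneg : ∀ (z : Fin 3 → F), f z z ≠ 0 → k.val = -(slotEl s (eG hf z)).val → False := fun z hz h => by
    have h1 := C.det k hk.1
    rw [h, ← Units.val_neg, neg_det, det_slotEl, det_eG hf (by decide) hz, one_pow] at h1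
    exact h2 (by linear_combination -h1)
  have hval : ∀ z, f z z ≠ 0 → (slotEl s (eG hf z)).val = (2 / f z z) • Pj f s z - 1 := fun z hz => by
    rw [slotEl_val, eG_val hf hz, emb_sub, emb_one, emb_smul', Pj]
  rcases proj_scalar hv p hflag hbig hsub T.hw T.vw hk hkw with h1 | h1 <;>
    rcases proj_scalar hv p hflag hbig hsub T.hu T.vu hk hku with h3 | h3 <;> rw [h1, h3] at hkval
  · exact Or.inl (Units.ext (by rw [Units.val_one, hkval, hres]))
  · refine (hneg u T.hu.1 ?_).elim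
    rw [hkval, hval u T.hu.1, ← hres]; module
  · refine (hneg w T.hw.1 ?_).elim
    rw [hkval, hval w T.hw.1, ← hres]; module
  · refine Or.inr (Units.ext ?_)
    rw [hkval, hval v T.hv.1, ← hres]; module

/-- Averaging over the roots and a torus element of another slot. -/
theorem frob_step {A : Subgroup (GL (Idx (t + 2) 3) F)} (hAK : A ≤ K0 s v C)
    (hAc : ∀ x ∈ A, ∀ y ∈ A, x * y = y * x) {l : Fin (t + 1)}
    (hAn : ∀ B ∈ isoSq f, ∀ x ∈ A, slotEl (s.succAbove l) B * x * (slotEl (s.succAbove l) B)⁻¹ ∈ A)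
    {e e' r : Fin 3 → F} (H : Hyp f e e' r) {B : GL (Fin 3) F} (hB : B ∈ isoSq f) {a : F} (ha : a ≠ 0)
    (hBe : B.val *ᵥ e = a • e) (hBe' : B.val *ᵥ e' = a⁻¹ • e') (hBr : B.val *ᵥ r = r)
    (hh : ∀ c : F, ∀ x ∈ A, x * slotEl (s.succAbove l)
        (eU C.ctx.sym C.ctx.two e (c • r) * B * (eU C.ctx.sym C.ctx.two e (c • r))⁻¹) =
      slotEl (s.succAbove l) (eU C.ctx.sym C.ctx.two e (c • r) * B * (eU C.ctx.sym C.ctx.two e (c • r))⁻¹) * x →
      x ∈ R0 s v C) : A ≤ R0 s v C := by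
  classical
  haveI : Finite (GL (Idx (t + 2) 3) F) := finite_GL
  have hf := C.ctx.sym
  have h2 := C.ctx.two
  intro x hx
  letI : CommGroup A :=
    { (inferInstance : Group A) with mul_comm := fun x y => Subtype.ext (hAc _ x.2 _ y.2) }
  obtain ⟨cj, hcj⟩ : ∃ cj : ∀ U : GL (Fin 3) F, U ∈ isoSq f → (A →* A), ∀ U hU (y : A),
      (cj U hU y).1 = slotEl (s.succAbove l) U * y.1 * (slotEl (s.succAbove l) U)⁻¹ :=
    ⟨fun U hU =>
      { toFun := fun y => ⟨_, hAn U hU y.1 y.2⟩
        map_one' := Subtype.ext (by simp)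
        map_mul' := fun y z => Subtype.ext (by
          change _ * (y.1 * z.1) * _ = (_ * y.1 * _) * (_ * z.1 * _)
          group) }, fun U hU y => rfl⟩
  obtain ⟨U, hU⟩ : ∃ U : F → GL (Fin 3) F, ∀ c, U c = eU hf h2 e (c • r) := ⟨_, fun c => rfl⟩
  have hUm : ∀ c, U c ∈ isoSq f := fun c => hU c ▸ eU_mem hf h2 _ _
  have her : ∀ c : F, f e (c • r) = 0 := fun c => (H.smul_r hf h2 c).1
  have hUadd : ∀ c d, U c * U d = U (c + d) := fun c d => by
    rw [hU, hU, hU, eU_mul hf h2 H.ee (her _) (her _), add_smul]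
  have hU0 : U 0 = 1 := by rw [hU, zero_smul, eU_zero hf h2 H.ee]
  obtain ⟨n, hn⟩ : ∃ n, n = orderOf a := ⟨_, rfl⟩
  have hn0 : 0 < n := hn ▸ (isOfFinOrder_iff_pow_eq_one.mpr ⟨Fintype.card F - 1,
    by have := C.ctx.small rfl; rw [Nat.card_eq_fintype_card] at this; omega,
    FiniteField.pow_card_sub_one_eq_one a ha⟩).orderOf_pos
  have hBj : ∀ j : ℕ, (B ^ j).val *ᵥ e = a ^ j • e ∧ (B ^ j).val *ᵥ e' = (a ^ j)⁻¹ • e' ∧ (B ^ j).val *ᵥ r = r := by
    intro j
    induction j with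
    | zero => simp
    | succ j ih =>
      refine ⟨?_, ?_, ?_⟩ <;> rw [pow_succ, Transvec.mul_mulVec]
      · rw [hBe, mulVec_smul, ih.1, smul_smul, pow_succ']
      · rw [hBe', mulVec_smul, ih.2.1, smul_smul, pow_succ', mul_inv]
      · rw [hBr, ih.2.2]
  have hna : a ^ n = 1 := hn ▸ pow_orderOf_eq_one a
  have hBn : B ^ n = 1 := by
    refine Transvec.gl_ext fun z => ?_
    rw [H.dec hf h2 z]
    simp only [mulVec_add, mulVec_smul, (hBj n).1, (hBj n).2.1, (hBj n).2.2, hna, inv_one,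
      one_smul, Units.val_one, one_mulVec]
  have hit : ∀ (j : ℕ) (y : A), ((cj B hB)^[j] y).1 =
      slotEl (s.succAbove l) (B ^ j) * y.1 * (slotEl (s.succAbove l) (B ^ j))⁻¹ := by
    intro j
    induction j with
    | zero => intro y; simp [slotEl_one]
    | succ j ih =>
      intro y
      rw [Function.iterate_succ_apply', hcj, ih, pow_succ', ← slotEl_mul]
      group
  have hconj : ∀ (j : ℕ) c, slotEl (s.succAbove l) (B ^ j) * slotEl (s.succAbove l) (U c) =
      slotEl (s.succAbove l) (U (a ^ j * c)) * slotEl (s.succAbove l) (B ^ j) := fun j c => by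
    rw [slotEl_mul, slotEl_mul]
    congr 1
    have hBi := (isoF f).pow_mem (isoSq_le hB) j
    have h := conj_eU hf h2 hBi H.ee (her c)
    rw [mulVec_smul, (hBj j).1, (hBj j).2.2] at h
    have e1 : eU hf h2 (a ^ j • e) (c • r) = U (a ^ j * c) := Units.ext (by
      rw [hU, eU_val hf h2 H.ee (her _), eU_val hf h2 (by rw [SpO.sym_quad_smul hf, H.ee, mul_zero])
        (by rw [hf.bilinear.smul_left, her, mul_zero]), eA_smul_left hf, smul_smul])
    rw [hU c, ← e1, ← h, inv_mul_cancel_right]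
  obtain ⟨R', hR'⟩ : ∃ R' : Subgroup A, R' = (R0 s v C).subgroupOf A := ⟨_, rfl⟩
  have hpow := pow_mem_of_frobenius (A := A) (V := F) (fun c => cj (U c) (hUm c))
    (fun c d y => Subtype.ext (by rw [hcj, hcj, hcj, ← hUadd, ← slotEl_mul]; group)) (cj B hB) (n := n) hn0
    (fun y => Subtype.ext (by rw [hit, hBn, slotEl_one]; group)) (fun j => AddMonoidHom.mulLeft (a ^ j))
    (fun j c y => Subtype.ext (by
      rw [hit, hcj, hcj, hit, AddMonoidHom.coe_mulLeft]
      simp only [← mul_assoc]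
      rw [hconj, mul_assoc _ (slotEl (s.succAbove l) (U c))⁻¹ _, ← _root_.mul_inv_rev, hconj]
      group))
    (fun j hj hjn c hc => by
      rw [AddMonoidHom.coe_mulLeft] at hc
      by_contra h0
      have h1 : a ^ j = 1 := mul_right_cancel₀ h0 (by rw [one_mul]; exact hc)
      exact pow_ne_one_of_lt_orderOf hj.ne' (hn ▸ hjn) h1)
    (fun y => Subtype.ext (by rw [hcj, hU0, slotEl_one]; group)) (R := R')
    (fun y hy => by
      rw [hR', Subgroup.mem_subgroupOf]
      refine mem_r0 hv (hAK y.2) (tw_of_root C hflag (hAK y.2).1 H H (l := s.succAbove l) (i := s.succAbove l) ?_)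
      have h := congrArg Subtype.val (hy 1)
      rw [hcj, hU, one_smul] at h
      exact (mul_inv_eq_iff_eq_mul.mp h).symm)
    (fun c y hy => by
      rw [hR', Subgroup.mem_subgroupOf]
      refine hh c _ y.2 ?_
      have h := congrArg Subtype.val hy
      rw [hcj, hcj, hcj] at h
      have e : slotEl (s.succAbove l) (U (-c)) = (slotEl (s.succAbove l) (U c))⁻¹ :=
        eq_inv_of_mul_eq_one_left (by rw [slotEl_mul, hUadd, neg_add_cancel, hU0, slotEl_one])
      rw [e] at h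
      rw [← hU, ← slotEl_mul, ← slotEl_mul, ← slotEl_inv]
      conv_lhs => rw [← h]
      group) ⟨x, hx⟩
  rw [hR', Subgroup.mem_subgroupOf, SubmonoidClass.coe_pow] at hpow
  obtain ⟨m, -, hm⟩ := FiniteField.card F p
  have hcop : (Fintype.card F).Coprime (orderOf x) := by
    rw [hm]
    refine Nat.Coprime.pow_left _ (((Fact.out : p.Prime).coprime_iff_not_dvd).mpr fun hd => k0_card (C := C) (s := s) hv p hflag ?_)
    refine hd.trans ?_
    rw [← Subgroup.orderOf_mk x (hAK hx)]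
    exact orderOf_dvd_natCard _
  obtain ⟨j, hj⟩ := exists_pow_eq_self_of_coprime hcop
  rw [← hj]
  exact pow_mem hpow j

/-- The stabiliser consists of slot elements. -/
theorem k0_le : K0 s v C ≤ R0 s v C := by
  classical
  haveI : Finite (GL (Idx (t + 2) 3) F) := finite_GL
  have hf := C.ctx.sym
  have h2 := C.ctx.two
  obtain ⟨w, u, T⟩ := exists_tri hf h2 hv
  obtain ⟨e, he, hee⟩ := exists_singular_sym hf h2 le_rfl
  obtain ⟨e', r, H⟩ := exists_hyp hf h2 he hee
  obtain ⟨X, hX⟩ : ∃ X, X = slotEl (s.succAbove 0) (eU hf h2 e r) := ⟨_, rfl⟩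
  have hXM : X ∈ M := hX ▸ C.ctx.eich_mem _ e r
  obtain ⟨b, hb⟩ : ∃ b, b = slotEl s (eG hf w) := ⟨_, rfl⟩
  have hbM : b ∈ M := hb ▸ C.good s w T.hw
  have hbc := eG_pj (C := C) (s := s) (v := v) T.hw (Or.inl (by rw [hf.symm, T.vw]))
  have hbb : b * b = 1 := by rw [hb, slotEl_mul, eG_mul_self, slotEl_one]
  have hbinv : b⁻¹ = b := inv_eq_of_mul_eq_one_right hbb
  have haa : slotEl s (eG hf v) * slotEl s (eG hf v) = 1 := by rw [slotEl_mul, eG_mul_self, slotEl_one]
  have hns := eG_nonscalar hf h2 hv.1 T.vw (fun h0 => T.hw.1 (by rw [h0, sym_zero_left hf]))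
  obtain ⟨O, hOK, hOodd, hOc, hOb, hOn, hOR⟩ := exists_odd_part (K := K0 s v C) (R := R0 s v C)
    (a := slotEl s (eG hf v)) (b := b) (x := X) (p := p)
    ((Fact.out : p.Prime).odd_of_ne_two fun h => by subst h; exact h2 (by exact_mod_cast CharP.cast_eq_zero F 2))
    (by rw [hX, slotEl_pow, eU_pow_char hf h2 p H.ee H.er, slotEl_one]) r0_le (a_mem_r0 hv) haa
    (fun h => hns ⟨1, by rw [slotEl_inj s (h.trans (slotEl_one s).symm), one_smul, Units.val_one]⟩) hbb
    (fun k hk => Units.ext (by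
      rw [Units.val_mul, Units.val_mul]
      exact ((comm_pj hf h2 hv.1).mpr (rs_comm (C := C) hv hk.1 (rs_of_fix hk.2))).symm))
    (by
      rintro k ⟨-, A, hA, dA, vA, rfl⟩ k' ⟨-, A', hA', dA', vA', rfl⟩
      rw [slotEl_mul, slotEl_mul, T.rot_comm hf hA dA vA hA' dA' vA'])
    (by
      rintro k ⟨-, A, hA, dA, vA, rfl⟩ h
      rw [slotEl_mul, ← slotEl_one s] at h
      rcases T.rot_two hf h2 hA dA vA (slotEl_inj s h) with h' | h' <;> rw [h']
      exacts [Or.inl (slotEl_one s), Or.inr rfl])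
    (by
      rintro k ⟨-, A, hA, dA, vA, rfl⟩
      rw [hb, slotEl_mul, slotEl_mul, T.rot_inv hf hA dA vA, slotEl_inv])
    (fun k hk => by
      have := k0_conj hv hbM (hb ▸ hbc) hk
      rwa [hbinv] at this)
    (fun k hk hc => cent_b hv p hflag hbig hsub T hk (hb ▸ hc))
    (fun k hk => k0_conj hv hXM (hX ▸ comm_slot_pj 0 _ v) hk)
    (by rw [hX, hb, slotEl_commute (Fin.succAbove_ne s 0)])
    (by rintro k ⟨-, A, -, -, -, rfl⟩; rw [hX, slotEl_commute (Fin.succAbove_ne s 0)])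
    (fun k hk hc => mem_r0 hv hk (tw_of_root C hflag hk.1 H H (by rw [← hX]; exact hc.symm)))
  refine hOR ?_
  have hOn' : ∀ g ∈ M, g.val * Pj f s v = Pj f s v * g.val → ∀ x ∈ O, g * x * g⁻¹ ∈ O := fun g hg hc x hx =>
    hOn g (fun k hk => k0_conj hv hg hc hk) x hx
  have hOs : ∀ (l : Fin (t + 1)) (B : GL (Fin 3) F), slotEl (s.succAbove l) B ∈ M → ∀ x ∈ O,
      slotEl (s.succAbove l) B * x * (slotEl (s.succAbove l) B)⁻¹ ∈ O := fun l B hB => hOn' _ hB (comm_slot_pj l B v)
  obtain ⟨c, K⟩ := C.ctx.exists_fr H.ee H.ee' H.pair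
  by_cases hq : Fintype.card F = 5
  swap
  · obtain ⟨a, ha, ha4⟩ : ∃ a : F, a ≠ 0 ∧ a ^ 4 ≠ 1 := by
      by_contra hno
      push Not at hno
      have hsub : (Finset.univ : Finset F) ⊆ insert 0 (Polynomial.nthRootsFinset 4 (1 : F)) := fun x _ => by
        by_cases hx : x = 0
        · simp [hx]
        · rw [Finset.mem_insert, Polynomial.mem_nthRootsFinset (by norm_num)]; exact Or.inr (hno x hx)
      have h5 := Finset.card_le_card hsub
      rw [Finset.card_univ] at h5
      have h3 : (Polynomial.nthRootsFinset 4 (1 : F)).card ≤ 4 := by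
        rw [Polynomial.nthRootsFinset_def]
        exact (Multiset.toFinset_card_le _).trans (Polynomial.card_nthRoots 4 1)
      have := (Finset.card_insert_le 0 (Polynomial.nthRootsFinset 4 (1 : F)))
      have h5' := C.ctx.small rfl
      rw [Nat.card_eq_fintype_card] at h5'
      omega
    obtain ⟨B, hB, hBe, hBe', hBr⟩ := K.exists_torus ha
    refine frob_step hv p hflag hbig hsub hOK hOc (l := 0)
      (fun U hU => hOs 0 U (C.ctx.sq _ U hU)) H hB (mul_ne_zero ha ha) hBe hBe' (hBr r H.er H.e'r) fun d x hx hxc => ?_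
    obtain ⟨V, hV⟩ : ∃ V, V = slotEl (s.succAbove 0) (eU hf h2 e (d • r)) := ⟨_, rfl⟩
    have hVM : V ∈ M := hV ▸ C.ctx.eich_mem _ _ _
    rw [← slotEl_mul, ← slotEl_mul, ← slotEl_inv, ← hV] at hxc
    obtain ⟨σ, gs, hd⟩ := tw_of_torus C hflag (g := V⁻¹ * x * V)
      (M.mul_mem (M.mul_mem (M.inv_mem hVM) (hOK hx).1) hVM) H (mul_ne_zero ha ha)
      (fun h => ha4 (by linear_combination h)) hBe hBe' (hBr r H.er H.e'r) (l := s.succAbove 0) (by
        have h := congrArg (fun z => V⁻¹ * z * V) hxc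
        simpa [mul_assoc] using h)
    refine mem_r0 hv (hOK hx) ?_
    rw [show x = V * (V⁻¹ * x * V) * V⁻¹ by group, hV]
    exact ⟨_, _, ((slotEl_data _ _).mul (hV ▸ hd)).mul (slotEl_data _ _).inv⟩
  -- five elements
  have h5 : (5 : F) = 0 := by
    have := FiniteField.cast_card_eq_zero F
    rw [hq] at this
    exact_mod_cast this
  have hfix5 : ∀ (l : Fin (t + 1)) z, Good f z → ∀ x ∈ O,
      x * slotEl (s.succAbove l) (eG hf z) = slotEl (s.succAbove l) (eG hf z) * x →
      x.val * Pj f (s.succAbove l) z = Pj f (s.succAbove l) z := by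
    intro l z hz x hx hc
    have hc' : x.val * Pj f (s.succAbove l) z = Pj f (s.succAbove l) z * x.val := (comm_pj hf h2 hz.1).mp (by
      have := congrArg Units.val hc; rwa [Units.val_mul, Units.val_mul] at this)
    obtain ⟨G, hG⟩ := exists_rs hf hz.1 hc'
    have hxn : x ^ Nat.card O = 1 := congrArg Subtype.val (pow_card_eq_one' (x := (⟨x, hx⟩ : O)))
    have hGn : G ^ Nat.card O = 1 := rs_unique hf hz.1 (rs_pow hG _) (hxn ▸ rs_one)
    have hxM := (hOK hx).1
    have hGd : G.val.det = 1 := by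
      rcases mul_self_eq_one_iff.mp (det_sq_of_piso hf (rs_piso hf hz.1 (C.ctx.iso x hxM) hG)) with h | h
      · exact h
      · exfalso
        have h' := congrArg (fun A : GL (Idx (t + 1) 3) F => A.val.det) hGn
        simp only [Units.val_pow_eq_pow_val, det_pow, h, hOodd.neg_one_pow, Units.val_one, det_one] at h'
        exact h2 (by linear_combination -h')
    have hGm : G ∈ Mv C (s.succAbove l) z := ⟨rs_piso hf hz.1 (C.ctx.iso x hxM) hG, hGd, x, hxM, Or.inl hG⟩
    have C' := ctx3_Mv C hz (s := s.succAbove l)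
    obtain ⟨i, hi⟩ : ∃ i, (s.succAbove l).succAbove i = s := Fin.exists_succAbove_eq (Fin.succAbove_ne s l).symm
    have hGfix : G.val * Pj f i v = Pj f i v := by
      refine tens_inj (s.succAbove l) (outer_vv_ne hf hz.1) ?_
      have e1 : Pj f s v = tens (s.succAbove l) 1 (Pj f i v) := by rw [Pj, Pj, tens_emb_other, hi]
      have e2 : ∀ Y : Matrix (Idx (t + 1) 3) (Idx (t + 1) 3) F,
          tens (s.succAbove l) (outer f z z) Y * Pj f s v = tens (s.succAbove l) (outer f z z) (Y * Pj f i v) := by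
        intro Y; rw [e1, tens_mul, mul_one]
      have e3 := (hOK hx).2
      rw [← e2, ← hG, hc', mul_assoc, e3, pj_tens, e2, one_mul]
    obtain ⟨B, hB, hGB, hBv⟩ := slot_of_fix C'.ctx hv.1 hGm (mv_tw (C := C) hz p hflag hbig hsub hGm) hGfix
    obtain ⟨w', u', T', hwu⟩ := exists_tri_eq hf h2 hv
    have hBd : B.val.det = 1 := by
      have h := hGd
      rw [hGB, det_slotEl] at h
      rcases mul_self_eq_one_iff.mp (det_isoF hf hB) with h1 | h1
      · exact h1
      · exfalso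
        rw [h1, (show Odd (3 : ℕ) by decide).pow.neg_one_pow] at h
        exact h2 (by linear_combination -h)
    have hB1 : B = 1 := by
      have h4 := T'.rot_four hq hf hwu hB hBd hBv
      rw [hGB, slotEl_pow, ← slotEl_one i] at hGn
      have h := pow_gcd_eq_one.mpr ⟨h4, slotEl_inj i hGn⟩
      have hcp : Nat.Coprime (2 ^ 2) (Nat.card O) := (Nat.coprime_two_left.mpr hOodd).pow_left 2
      rwa [show (4 : ℕ) = 2 ^ 2 from rfl, hcp.gcd_eq_one, pow_one] at h
    rw [RS, hGB, hB1, slotEl_one, Units.val_one, ← pj_tens] at hG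
    exact hG
  obtain ⟨a, ha, ha2⟩ : ∃ a : F, a ≠ 0 ∧ a * a = -1 := ⟨2, h2, by linear_combination h5⟩
  suffices hP : ∀ D : Finset (Fin (t + 1)), ∀ rr : Fin (t + 1) → Fin 3 → F, (∀ l, Good f (rr l)) → ∀ x ∈ O,
      (∀ l, l ∉ D → x * slotEl (s.succAbove l) (eG hf (rr l)) = slotEl (s.succAbove l) (eG hf (rr l)) * x) →
      x ∈ R0 s v C by
    intro x hx
    exact hP Finset.univ (fun _ => v) (fun _ => hv) x hx fun l hl => absurd (Finset.mem_univ l) hl
  intro D
  induction D using Finset.induction_on with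
  | empty =>
    intro rr hrr x hx hcx
    choose ws us Ts hwu using fun l => exists_tri_eq hf h2 (hrr l)
    have hx' : ∀ l, slotEl (s.succAbove l) (eG hf (ws l)) * x * slotEl (s.succAbove l) (eG hf (ws l)) = x⁻¹ := by
      intro m
      obtain ⟨bb, hbbd⟩ : ∃ bb, bb = slotEl (s.succAbove m) (eG hf (ws m)) := ⟨_, rfl⟩
      rw [← hbbd]
      have hbb2 : bb * bb = 1 := by rw [hbbd, slotEl_mul, eG_mul_self, slotEl_one]
      have hbbi : bb⁻¹ = bb := inv_eq_of_mul_eq_one_right hbb2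
      obtain ⟨y, hy⟩ : ∃ y, y = x * (bb * x * bb) := ⟨_, rfl⟩
      have hxb : bb * x * bb ∈ O := by
        have := hOs m _ (C.good _ _ (Ts m).hw) x hx
        rwa [← hbbd, hbbi] at this
      have hyO : y ∈ O := hy ▸ mul_mem hx hxb
      have hcb : ∀ l, Commute bb (slotEl (s.succAbove l) (eG hf (rr l))) := fun l => by
        by_cases hlm : l = m
        · subst hlm
          rw [hbbd, Commute, SemiconjBy, slotEl_mul, slotEl_mul]
          congr 1
          have h := eG_conj hf (eG_iso hf (ws l)) (rr l)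
          rw [eG_inv, eG_perp hf (Ts l).hw.1 (Ts l).vw, ← neg_one_smul F (rr l),
            eG_smul hf (neg_ne_zero.mpr one_ne_zero)] at h
          conv_rhs => rw [← h, mul_assoc, eG_mul_self, mul_one]
        · exact hbbd ▸ slotEl_commute (fun h => hlm (Fin.succAbove_right_injective h).symm) _ _
      have hya : ∀ l, Commute y (slotEl (s.succAbove l) (eG hf (rr l))) := fun l =>
        hy ▸ Commute.mul_left (hcx l (Finset.notMem_empty l))
          (((hcb l).mul_left (hcx l (Finset.notMem_empty l))).mul_left (hcb l))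
      have hyb : Commute y bb := by
        rw [hy, Commute, SemiconjBy]
        conv_lhs => rw [hOc x hx _ hxb]
        simp only [mul_assoc]
      have f1 := hfix5 m (rr m) (hrr m) y hyO (hya m).eq
      have f2 := hfix5 m (ws m) (Ts m).hw y hyO (hbbd ▸ hyb.eq)
      have eu : slotEl (s.succAbove m) (eG hf (us m)) = slotEl (s.succAbove m) (eG hf (rr m)) * bb := by
        rw [hbbd, slotEl_mul]
        congr 1
        refine Units.ext ((Ts m).ext hf ?_ ?_ ?_) <;>
          simp only [Units.val_mul, ← mulVec_mulVec, eG_self hf (Ts m).hw.1, eG_self hf (Ts m).hv.1,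
            eG_self hf (Ts m).hu.1, eG_perp hf (Ts m).hu.1 (Ts m).vu, eG_perp hf (Ts m).hu.1 (Ts m).wu,
            eG_perp hf (Ts m).hw.1 (Ts m).vw, eG_perp hf (Ts m).hw.1 ((hf.symm _ _).trans (Ts m).wu),
            eG_perp hf (Ts m).hv.1 ((hf.symm _ _).trans (Ts m).vw),
            eG_perp hf (Ts m).hv.1 ((hf.symm _ _).trans (Ts m).vu), mulVec_neg, neg_neg]
      have f3 := hfix5 m (us m) (Ts m).hu y hyO (eu ▸ ((hya m).mul_right hyb).eq)
      have hy1 : y = 1 := Units.ext (by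
        have hres : (f (rr m) (rr m))⁻¹ • Pj f (s.succAbove m) (rr m) + (f (ws m) (ws m))⁻¹ • Pj f (s.succAbove m) (ws m)
            + (f (us m) (us m))⁻¹ • Pj f (s.succAbove m) (us m) = 1 := by
          rw [Pj, Pj, Pj, ← emb_smul', ← emb_smul', ← emb_smul', ← emb_add, ← emb_add, (Ts m).resolve hf, emb_one]
        conv_lhs => rw [← mul_one y.val, ← hres, mul_add, mul_add, Matrix.mul_smul, Matrix.mul_smul, Matrix.mul_smul,
          f1, f2, f3, hres]
        rw [Units.val_one])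
      exact eq_inv_of_mul_eq_one_right (hy.symm.trans hy1)
    obtain ⟨w', u', T', hwu'⟩ := exists_tri_eq hf h2 hv
    have hb' : slotEl s (eG hf w') * x * slotEl s (eG hf w') = x⁻¹ := by
      obtain ⟨bb, hbbd⟩ : ∃ bb, bb = slotEl s (eG hf w') := ⟨_, rfl⟩
      rw [← hbbd]
      have hbb2 : bb * bb = 1 := by rw [hbbd, slotEl_mul, eG_mul_self, slotEl_one]
      have hbbi : bb⁻¹ = bb := inv_eq_of_mul_eq_one_right hbb2
      have hxb : bb * x * bb ∈ O := by
        have := hOn' bb (hbbd ▸ C.good s w' T'.hw)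
          (hbbd ▸ eG_pj (C := C) T'.hw (Or.inl (by rw [hf.symm, T'.vw]))) x hx
        rwa [hbbi] at this
      obtain ⟨y, hy⟩ : ∃ y, y = x * (bb * x * bb) := ⟨_, rfl⟩
      have hyO : y ∈ O := hy ▸ mul_mem hx hxb
      have hyb : bb * y = y * bb := by
        rw [hy]
        conv_rhs => rw [hOc x hx _ hxb]
        simp only [mul_assoc]
      rcases cent_b hv p hflag hbig hsub T' (hOK hyO) (hbbd ▸ hyb) with h | h
      · exact eq_inv_of_mul_eq_one_right (hy.symm.trans h)
      · exfalso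
        have h1 : y ^ Nat.card O = 1 := congrArg Subtype.val (pow_card_eq_one' (x := (⟨y, hyO⟩ : O)))
        obtain ⟨j, hj⟩ := hOodd
        rw [hj, h, pow_succ, pow_mul, pow_two, haa, one_pow, one_mul, ← slotEl_one s] at h1
        exact hns ⟨1, by rw [slotEl_inj s h1, one_smul, Units.val_one]⟩
    obtain ⟨zv, hzv, hzvl⟩ : ∃ z : Fin (t + 2) → Fin 3 → F, z s = v ∧ ∀ l, z (s.succAbove l) = rr l :=
      ⟨Fin.insertNth s v rr, by simp, fun l => by simp⟩
    obtain ⟨zw, hzw, hzwl⟩ : ∃ z : Fin (t + 2) → Fin 3 → F, z s = w' ∧ ∀ l, z (s.succAbove l) = ws l :=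
      ⟨Fin.insertNth s w' ws, by simp, fun l => by simp⟩
    obtain ⟨zu, hzu, hzul⟩ : ∃ z : Fin (t + 2) → Fin 3 → F, z s = u' ∧ ∀ l, z (s.succAbove l) = us l :=
      ⟨Fin.insertNth s u' us, by simp, fun l => by simp⟩
    have hall : ∀ {P : Fin (t + 2) → Prop}, P s → (∀ l, P (s.succAbove l)) → ∀ i, P i := fun {P} h1 h2 i => by
      by_cases hi : i = s
      · exact hi ▸ h1
      · obtain ⟨l, rfl⟩ := Fin.exists_succAbove_eq hi
        exact h2 l
    have h4 := pow_four_of_inverted hq hf (zv := zv) (zw := zw) (zu := zu)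
      (fun i => hall (P := fun i => Tri f (zv i) (zw i) (zu i)) (by rw [hzv, hzw, hzu]; exact T')
        (fun l => by rw [hzvl, hzwl, hzul]; exact Ts l) i)
      (fun i => hall (P := fun i => f (zw i) (zw i) = f (zu i) (zu i)) (by rw [hzw, hzu]; exact hwu')
        (fun l => by rw [hzwl, hzul]; exact hwu l) i)
      (θ := x) (C.ctx.iso x (hOK hx).1)
      (fun i => hall (P := fun i => x.val * Pj f i (zv i) = Pj f i (zv i)) (by rw [hzv]; exact (hOK hx).2)
        (fun l => by rw [hzvl]; exact hfix5 l _ (hrr l) x hx (hcx l (Finset.notMem_empty l))) i)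
      (fun i => hall (P := fun i => slotEl i (eG hf (zw i)) * x * slotEl i (eG hf (zw i)) = x⁻¹)
        (by rw [hzw]; exact hb') (fun l => by rw [hzwl]; exact hx' l) i)
    have h1 : x ^ Nat.card O = 1 := congrArg Subtype.val (pow_card_eq_one' (x := (⟨x, hx⟩ : O)))
    have h := pow_gcd_eq_one.mpr ⟨h4, h1⟩
    have hcp : Nat.Coprime (2 ^ 2) (Nat.card O) := (Nat.coprime_two_left.mpr hOodd).pow_left 2
    rw [show (4 : ℕ) = 2 ^ 2 from rfl, hcp.gcd_eq_one, pow_one] at h
    rw [h]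
    exact one_mem _
  | insert m D hm ih =>
    intro rr hrr x hx hcx
    obtain ⟨A, hA⟩ : ∃ A : Subgroup (GL (Idx (t + 2) 3) F), ∀ y, y ∈ A ↔ y ∈ O ∧ ∀ l, l ∉ insert m D →
        y * slotEl (s.succAbove l) (eG hf (rr l)) = slotEl (s.succAbove l) (eG hf (rr l)) * y :=
      ⟨{ carrier := {y | y ∈ O ∧ ∀ l, l ∉ insert m D → Commute y (slotEl (s.succAbove l) (eG hf (rr l)))}
         one_mem' := ⟨one_mem _, fun l _ => Commute.one_left _⟩
         mul_mem' := fun {a b} ha hb => ⟨mul_mem ha.1 hb.1, fun l hl => (ha.2 l hl).mul_left (hb.2 l hl)⟩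
         inv_mem' := fun {a} ha => ⟨inv_mem ha.1, fun l hl => (ha.2 l hl).inv_left⟩ }, fun y => Iff.rfl⟩
    obtain ⟨B, hB, hBe, hBe', hBr⟩ := K.exists_torus ha
    have hBG : B = eG hf r := by
      refine Transvec.gl_ext fun z => ?_
      rw [H.dec hf h2 z]
      simp only [mulVec_add, mulVec_smul, hBe, hBe', hBr r H.er H.e'r, eG_self hf H.rr, eG_perp hf H.rr H.er,
        eG_perp hf H.rr H.e'r, ha2, inv_neg, inv_one, neg_one_smul]
    have hgr : Good f r := by
      refine ⟨H.rr, ?_⟩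
      obtain ⟨P, hP⟩ : ∃ P, P = (Matrix.of ![e, e', r])ᵀ := ⟨_, rfl⟩
      have h1 : (Pᵀ * gram f * P).det = -(f r r) := by
        rw [det_fin_three]
        simp only [gram_cols hf, hP, transpose_apply, of_apply, cons_val_zero, cons_val_one, cons_val_two]
        simp [H.ee, H.ee', H.pair, H.er, H.e'r, hf.symm e' e, hf.symm r e, hf.symm r e']
      rw [det_mul, det_mul, det_transpose] at h1
      have hP0 : P.det ≠ 0 := fun h => H.rr (by rw [h, zero_mul, zero_mul, eq_comm, neg_eq_zero] at h1; exact h1)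
      refine ⟨a * f r r / P.det, ?_⟩
      field_simp
      linear_combination (f r r) * h1 - (f r r * f r r) * ha2
    refine frob_step hv p hflag hbig hsub (A := A) (fun y hy => hOK ((hA y).mp hy).1)
      (fun y hy z hz => hOc y ((hA y).mp hy).1 z ((hA z).mp hz).1) (l := m) (fun U hU y hy => ?_) H hB
      (mul_ne_zero ha ha) hBe hBe' (hBr r H.er H.e'r) (fun d y hy hyc => ?_) ((hA x).mpr ⟨hx, hcx⟩)
    · refine (hA _).mpr ⟨hOs m U (C.ctx.sq _ U hU) y ((hA y).mp hy).1, fun l hl => ?_⟩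
      have hne : s.succAbove m ≠ s.succAbove l := fun h =>
        hl (Finset.mem_insert.mpr (Or.inl (Fin.succAbove_right_injective h).symm))
      have c1 : Commute (slotEl (s.succAbove m) U) (slotEl (s.succAbove l) (eG hf (rr l))) := slotEl_commute hne _ _
      exact ((c1.mul_left (((hA y).mp hy).2 l hl)).mul_left c1.inv_left).eq
    · have hw := eU_iso hf h2 e (d • r)
      rw [hBG, eG_conj hf hw] at hyc
      refine ih (Function.update rr m ((eU hf h2 e (d • r)).val *ᵥ r)) (fun l => ?_) y ((hA y).mp hy).1 fun l hl => ?_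
      · by_cases hlm : l = m
        · subst hlm
          rw [Function.update_self]
          exact ⟨by rw [hw]; exact hgr.1, by rw [hw]; exact hgr.2⟩
        · rw [Function.update_of_ne hlm]; exact hrr l
      · by_cases hlm : l = m
        · subst hlm; rw [Function.update_self]; exact hyc
        · rw [Function.update_of_ne hlm]
          exact ((hA y).mp hy).2 l (by simp [hlm, hl])

/-- The centraliser of a good signed reflection consists of tensor wreath elements. -/
theorem cent {g : GL (Idx (t + 2) 3) F} (hg : g ∈ M)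
    (h : g * slotEl s (eG C.ctx.sym v) = slotEl s (eG C.ctx.sym v) * g) : IsTW g := by
  have hf := C.ctx.sym
  have h2 := C.ctx.two
  have hc : g.val * Pj f s v = Pj f s v * g.val := (comm_pj hf h2 hv.1).mp (by
    have := congrArg Units.val h; rwa [Units.val_mul, Units.val_mul] at this)
  obtain ⟨G, hG⟩ := exists_rs hf hv.1 hc
  obtain ⟨σ, gs, hgs, hd⟩ := rs_data (C := C) hv p hflag hbig hsub hg hG
  obtain ⟨e, he, hee⟩ := exists_singular_sym hf h2 le_rfl
  obtain ⟨e', r, H⟩ := exists_hyp hf h2 he hee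
  have hA := hgs 0
  have Hz : Hyp f ((gs 0).val *ᵥ e) ((gs 0).val *ᵥ e') ((gs 0).val *ᵥ r) :=
    ⟨by rw [hA, H.ee], by rw [hA, H.ee'], by rw [hA, H.pair], by rw [hA, H.er], by rw [hA, H.e'r],
      by rw [hA]; exact H.rr⟩
  obtain ⟨X, hX⟩ : ∃ X, X = slotEl (s.succAbove (σ 0)) (eU hf h2 e r) := ⟨_, rfl⟩
  obtain ⟨Y, hY⟩ : ∃ Y, Y = slotEl (s.succAbove 0) (eU hf h2 ((gs 0).val *ᵥ e) ((gs 0).val *ᵥ r)) := ⟨_, rfl⟩
  have hXM : X ∈ M := hX ▸ C.ctx.eich_mem _ _ _
  have hYM : Y ∈ M := hY ▸ C.ctx.eich_mem _ _ _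
  have hrs : RS f s v (g * X * g⁻¹) (slotEl 0 (eU hf h2 ((gs 0).val *ᵥ e) ((gs 0).val *ᵥ r))) := by
    have h1 := rs_mul (rs_mul hG (hX ▸ rs_slot C (σ 0) (eU hf h2 e r))) (rs_inv hG)
    rwa [hd.conj_slotEl 0, conj_eU hf h2 hA H.ee H.er] at h1
  obtain ⟨k, hk⟩ : ∃ k, k = g * X * g⁻¹ * Y⁻¹ := ⟨_, rfl⟩
  have hkK : k ∈ K0 s v C := by
    refine ⟨hk ▸ M.mul_mem (M.mul_mem (M.mul_mem hg hXM) (M.inv_mem hg)) (M.inv_mem hYM), ?_⟩
    have h1 := rs_mul hrs (rs_inv (hY ▸ rs_slot C 0 (eU hf h2 ((gs 0).val *ᵥ e) ((gs 0).val *ᵥ r))))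
    rw [mul_inv_cancel, ← hk, RS, Units.val_one, ← pj_tens] at h1
    exact h1
  have hkR := k0_le hv p hflag hbig hsub hkK
  have hkY : Commute k Y := by
    obtain ⟨-, B, -, -, -, hB⟩ := hkR
    rw [hB, hY]; exact slotEl_commute (Fin.succAbove_ne s 0).symm _ _
  have hXp : X ^ p = 1 := by rw [hX, slotEl_pow, eU_pow_char hf h2 p H.ee H.er, slotEl_one]
  have hYp : Y ^ p = 1 := by rw [hY, slotEl_pow, eU_pow_char hf h2 p Hz.ee Hz.er, slotEl_one]
  have hgk : g * X * g⁻¹ = k * Y := by rw [hk, inv_mul_cancel_right]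
  have hkp : k ^ p = 1 := by
    have h1 := congrArg (· ^ p) hgk
    simp only [conj_pow, hXp, mul_one, mul_inv_cancel, hkY.mul_pow, hYp] at h1
    exact h1.symm
  have hk1 : k = 1 := r0_char hv p hkR hkp
  rw [hk1, one_mul, mul_inv_eq_iff_eq_mul] at hgk
  exact tw_of_root C hflag hg H Hz (hX ▸ hY ▸ hgk)

end CfsgLib.Classical22.OPow.Three
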