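/-
Monomial involutions: the number of fixed vectors, and involutions conjugate to signed reflections of one slot.
-/
import Cfsg.Agent.Lib.Classical22.OrthPower.Three.Restrict
import Cfsg.Agent.Lib.Classical22.OrthPower.RootTW

set_option autoImplicit false
set_option linter.unusedSectionVars false
set_option linter.unusedSimpArgs false

namespace CfsgLib.Classical22.OPow.Three

open Matrix CfsgLib.Transvec CfsgLib.Classical22.TensorMax CfsgLib.Classical22.TensorMax.SympO
open CfsgLib.Classical22.TensorMax.SpO (sym_outer sym_zero_left sym_zero_right sym_neg_left sym_quad_smul)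
open CfsgLib.Classical22.TWMax (Idx pv tmat tGL tGL_apply TWData IsTW slotEl slotEl_apply slotEl_data single_eq_pv
  twData_one_unique twData_tGL)
open CfsgLib.Classical22.TPow (pG)
open scoped MatrixGroups

variable {F : Type*} [Field F]

/-- The number of fixed vectors. -/
noncomputable def Fx {ι : Type*} [Fintype ι] [DecidableEq ι] (g : GL ι F) : ℕ :=
  Nat.card {v : ι → F // g.val *ᵥ v = v}

lemma fx_conj {ι : Type*} [Fintype ι] [DecidableEq ι] (g P : GL ι F) : Fx (P * g * P⁻¹) = Fx g := by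
  refine Nat.card_congr ⟨fun v => ⟨P⁻¹.val *ᵥ v.1, ?_⟩, fun v => ⟨P.val *ᵥ v.1, ?_⟩, fun v => Subtype.ext ?_,
    fun v => Subtype.ext ?_⟩
  · have h := congrArg (P⁻¹.val *ᵥ ·) v.2
    simp only [mulVec_mulVec, ← Units.val_mul, ← mul_assoc, inv_mul_cancel, one_mul] at h
    rwa [Units.val_mul, ← mulVec_mulVec] at h
  · rw [mulVec_mulVec, ← Units.val_mul, inv_mul_cancel_right, Units.val_mul, ← mulVec_mulVec, v.2]
  · change P.val *ᵥ (P⁻¹.val *ᵥ v.1) = v.1
    rw [mulVec_mulVec, ← Units.val_mul, mul_inv_cancel, Units.val_one, one_mulVec]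
  · change P⁻¹.val *ᵥ (P.val *ᵥ v.1) = v.1
    rw [mulVec_mulVec, ← Units.val_mul, inv_mul_cancel, Units.val_one, one_mulVec]

/-- The fixed vectors of a signed permutation of order two. -/
lemma fix_mono [Fintype F] (h2 : (2 : F) ≠ 0) {ι : Type*} [Fintype ι] [DecidableEq ι] (A : Matrix ι ι F)
    {π : ι → ι} (hπ : Function.Involutive π) {e : ι → ℤ} (he : ∀ x, e x = 1 ∨ e x = -1) (heπ : ∀ x, e (π x) = e x)
    (hA : ∀ x, A *ᵥ Pi.single x 1 = (e x : F) • Pi.single (π x) 1) :
    ∃ n : ℕ, Nat.card {v : ι → F // A *ᵥ v = v} = Fintype.card F ^ n ∧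
      2 * (n : ℤ) = Fintype.card ι + ∑ x ∈ Finset.univ.filter (fun x => π x = x), e x := by
  classical
  obtain ⟨o, ho⟩ : ∃ o : ι → ℕ, Function.Injective o :=
    ⟨fun x => (Fintype.equivFin ι x).val, Fin.val_injective.comp (Fintype.equivFin ι).injective⟩
  have hmv : ∀ v x, (A *ᵥ v) x = (e x : F) * v (π x) := fun v x => by
    conv_lhs => rw [show v = ∑ j, v j • (Pi.single j 1 : ι → F) from pi_eq_sum_univ' v]
    rw [mulVec_sum, Finset.sum_apply, Finset.sum_eq_single (π x)]
    · rw [mulVec_smul, hA, Pi.smul_apply, Pi.smul_apply, hπ x, Pi.single_eq_same, heπ]; simp [mul_comm]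
    · intro j _ hj
      rw [mulVec_smul, hA, Pi.smul_apply, Pi.smul_apply, Pi.single_eq_of_ne (fun h => hj (by rw [h, hπ j]))]
      simp
    · simp
  obtain ⟨S, hS⟩ : ∃ S : Finset ι, ∀ x, x ∈ S ↔ (o x < o (π x) ∨ π x = x ∧ e x = 1) :=
    ⟨Finset.univ.filter fun x => o x < o (π x) ∨ π x = x ∧ e x = 1, fun x => by simp⟩
  have hcast : ∀ x, (e x : F) * (e x : F) = 1 := fun x => by rcases he x with h | h <;> rw [h] <;> simp
  refine ⟨S.card, ?_, ?_⟩
  · rw [show Fintype.card F ^ S.card = Nat.card (S → F) by simp]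
    refine Nat.card_congr ⟨fun v x => v.1 x.1, fun d => ⟨fun x => if hx : x ∈ S then d ⟨x, hx⟩ else
      if hx' : π x ∈ S then (e x : F) * d ⟨π x, hx'⟩ else 0, funext fun x => ?_⟩, fun v => Subtype.ext (funext fun x => ?_),
      fun d => funext fun x => ?_⟩
    · rw [hmv]
      simp only [hπ x]
      rcases lt_trichotomy (o x) (o (π x)) with h | h | h
      · have h1 : x ∈ S := (hS x).mpr (Or.inl h)
        have h3 : π x ∉ S := fun hm => by
          rcases (hS _).mp hm with h4 | ⟨h4, -⟩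
          · rw [hπ x] at h4; omega
          · rw [hπ x] at h4; rw [← h4] at h; exact lt_irrefl _ h
        rw [dif_neg h3, dif_pos h1, dif_pos h1, heπ, ← mul_assoc, hcast, one_mul]
      · have hx : π x = x := (ho h).symm
        rcases he x with h1 | h1
        · have hm : x ∈ S := (hS x).mpr (Or.inr ⟨hx, h1⟩)
          simp [hx, hm, h1]
        · have hm : x ∉ S := fun hm => by
            rcases (hS _).mp hm with h4 | ⟨-, h4⟩
            · omega
            · omega
          simp [hx, hm]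
      · have h1 : π x ∈ S := (hS _).mpr (Or.inl (by rwa [hπ x]))
        have h3 : x ∉ S := fun hm => by
          rcases (hS _).mp hm with h4 | ⟨h4, -⟩
          · omega
          · rw [h4] at h; exact lt_irrefl _ h
        rw [dif_pos h1, dif_neg h3, dif_pos h1]
    · have hv : ∀ y, v.1 y = (e y : F) * v.1 (π y) := fun y => ((hmv v.1 y).symm.trans (congrFun v.2 y)).symm
      simp only
      by_cases h1 : x ∈ S
      · rw [dif_pos h1]
      rw [dif_neg h1]
      by_cases h3 : π x ∈ S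
      · rw [dif_pos h3, ← hv]
      rw [dif_neg h3]
      rcases lt_trichotomy (o x) (o (π x)) with h | h | h
      · exact absurd ((hS x).mpr (Or.inl h)) h1
      · have hx : π x = x := (ho h).symm
        rcases he x with h4 | h4
        · exact absurd ((hS x).mpr (Or.inr ⟨hx, h4⟩)) h1
        · have h5 := hv x
          rw [hx, h4, Int.cast_neg, Int.cast_one] at h5
          exact ((mul_eq_zero.mp (show (2 : F) * v.1 x = 0 by linear_combination h5)).resolve_left h2).symm
      · exact absurd ((hS _).mpr (Or.inl (by rwa [hπ x]))) h3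
    · simp [x.2]
  · obtain ⟨L, hL⟩ : ∃ L : Finset ι, L = Finset.univ.filter fun x => o x < o (π x) := ⟨_, rfl⟩
    obtain ⟨G, hG⟩ : ∃ G : Finset ι, G = Finset.univ.filter fun x => o (π x) < o x := ⟨_, rfl⟩
    obtain ⟨X, hX⟩ : ∃ X : Finset ι, X = Finset.univ.filter fun x => π x = x := ⟨_, rfl⟩
    rw [← hX]
    have hGL : G.card = L.card := by
      refine Finset.card_bij' (fun x _ => π x) (fun x _ => π x) ?_ ?_ (fun x _ => hπ x) (fun x _ => hπ x) <;>
        · intro x hx
          simp only [hG, hL, Finset.mem_filter, Finset.mem_univ, true_and] at hx ⊢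
          rwa [hπ x]
    have hS' : S.card = L.card + (X.filter fun x => e x = 1).card := by
      rw [← Finset.card_union_of_disjoint]
      · congr 1; ext x; rw [hS]; simp [hL, hX]
      · refine Finset.disjoint_left.mpr fun x hx hx' => ?_
        simp only [hL, hX, Finset.mem_filter, Finset.mem_univ, true_and] at hx hx'
        rw [hx'.1] at hx
        exact lt_irrefl _ hx
    have hN : Fintype.card ι = L.card + G.card + X.card := by
      rw [← Finset.card_univ, ← Finset.card_union_of_disjoint, ← Finset.card_union_of_disjoint]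
      · congr 1; ext x
        simp only [hL, hG, hX, Finset.mem_univ, Finset.mem_union, Finset.mem_filter, true_and, true_iff]
        rcases lt_trichotomy (o x) (o (π x)) with h | h | h
        · exact Or.inl (Or.inl h)
        · exact Or.inr (ho h).symm
        · exact Or.inl (Or.inr h)
      · refine Finset.disjoint_left.mpr fun x hx hx' => ?_
        simp only [hL, hG, hX, Finset.mem_union, Finset.mem_filter, Finset.mem_univ, true_and] at hx hx'
        rw [hx'] at hx
        omega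
      · refine Finset.disjoint_left.mpr fun x hx hx' => ?_
        simp only [hL, hG, Finset.mem_filter, Finset.mem_univ, true_and] at hx hx'
        omega
    have hsum : ∑ x ∈ X, e x = 2 * ((X.filter fun x => e x = 1).card : ℤ) - X.card := by
      have h1 : ∑ x ∈ X, e x = ∑ x ∈ X, ((if e x = 1 then (2 : ℤ) else 0) - 1) :=
        Finset.sum_congr rfl fun x _ => by rcases he x with h | h <;> simp [h]
      rw [h1, Finset.sum_sub_distrib, ← Finset.sum_filter, Finset.sum_const, Finset.sum_const]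
      simp [mul_comm]
    rw [hsum, hS', hN, hGL]
    push_cast
    ring

/-- The factor of a slot in the signature. -/
def slotSum {T : ℕ} (σ : Equiv.Perm (Fin T)) (d : Fin T → Fin 3 → ℤ) (i : Fin T) : ℤ :=
  if i ≤ σ i then ∑ j, d i j else d i 0

/-- The signature of monomial data. -/
theorem fx_tw [Fintype F] (h2 : (2 : F) ≠ 0) {T : ℕ} {y : GL (Idx T 3) F} {σ : Equiv.Perm (Fin T)}
    {gs : Fin T → GL (Fin 3) F} (hy : TWData y σ gs) (hσ : ∀ i, σ (σ i) = i) (P : Fin T → GL (Fin 3) F)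
    {d : Fin T → Fin 3 → ℤ} (hd : ∀ i j, d i j = 1 ∨ d i j = -1) (hdm : ∀ i j, σ i ≠ i → d i j = d i 0)
    (hP : ∀ i j, (gs i).val *ᵥ ((P (σ i)).val *ᵥ Pi.single j 1) = (d i j : F) • ((P i).val *ᵥ Pi.single j 1)) :
    ∃ n : ℕ, Fx y = Fintype.card F ^ n ∧ 2 * (n : ℤ) = (3 ^ T : ℕ) + ∏ i, slotSum σ d i := by
  classical
  obtain ⟨Q, hQ⟩ : ∃ Q, Q = tGL P := ⟨_, rfl⟩
  obtain ⟨A, hA⟩ : ∃ A, A = Q⁻¹ * y * Q := ⟨_, rfl⟩
  obtain ⟨π, hπ⟩ : ∃ π : Idx T 3 → Idx T 3, ∀ x, π x = fun i => x (σ i) := ⟨_, fun x => rfl⟩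
  obtain ⟨e, he⟩ : ∃ e : Idx T 3 → ℤ, ∀ x, e x = ∏ i, d i (x i) := ⟨_, fun x => rfl⟩
  have hsame : ∀ (x : Idx T 3) i, d i (x (σ i)) = d i (x i) := fun x i => by
    by_cases h : σ i = i
    · rw [h]
    · rw [hdm i _ h, hdm i (x i) h]
  have hpv : ∀ (c : Fin T → F) (xs : Fin T → Fin 3 → F), pv (fun i => c i • xs i) = (∏ i, c i) • pv xs := fun c xs => by
    funext a; simp [pv, Finset.prod_mul_distrib]
  have hAe : ∀ x, A.val *ᵥ Pi.single x 1 = (e x : F) • Pi.single (π x) 1 := fun x => by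
    refine Transvec.mulVec_injective Q ?_
    simp only
    rw [hA, Units.val_mul, Units.val_mul, ← mulVec_mulVec, ← mulVec_mulVec, Transvec.mulVec_inv_cancel, mulVec_smul,
      hQ, single_eq_pv, single_eq_pv, tGL_apply, tGL_apply, hy, hπ, he, Int.cast_prod, ← hpv]
    congr 1
    funext i
    rw [hP, hsame]
  have he1 : ∀ x, e x = 1 ∨ e x = -1 := fun x => by
    rw [he]
    refine Finset.prod_induction _ (fun z => z = 1 ∨ z = -1) ?_ (Or.inl rfl) fun i _ => hd i _
    rintro a b (rfl | rfl) (rfl | rfl) <;> simp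
  obtain ⟨n, hn, hn'⟩ := fix_mono h2 A.val (π := π) (fun x => by rw [hπ, hπ]; funext i; simp [hσ]) he1
    (fun x => by rw [hπ, he, he]; exact Finset.prod_congr rfl fun i _ => hsame x i) hAe
  refine ⟨n, ?_, ?_⟩
  · rw [← hn, show y = Q * A * Q⁻¹ by rw [hA]; group, fx_conj]
    rfl
  rw [hn', Fintype.card_fun, Fintype.card_fin, Fintype.card_fin]
  congr 1
  obtain ⟨w, hw⟩ : ∃ w : Fin T → Finset (Fin 3), ∀ i, w i = if i ≤ σ i then Finset.univ else {0} := ⟨_, fun i => rfl⟩
  have hs : ∀ i, slotSum σ d i = ∑ j ∈ w i, d i j := fun i => by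
    rw [hw, slotSum]; split_ifs <;> simp
  simp only [hs, Finset.prod_univ_sum]
  refine Finset.sum_bij' (fun x _ => fun i => if i ≤ σ i then x i else 0)
    (fun z _ => fun i => if i ≤ σ i then z i else z (σ i)) ?_ ?_ ?_ ?_ ?_
  · intro x _
    rw [Fintype.mem_piFinset]
    intro i
    rw [hw]; split_ifs <;> simp
  · intro z _
    simp only [Finset.mem_filter, Finset.mem_univ, true_and, hπ]
    funext i
    by_cases h1 : i ≤ σ i <;> by_cases h3 : σ i ≤ i
    · have := le_antisymm h3 h1; simp [this]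
    · simp [h1, h3, hσ]
    · simp [h1, h3, hσ]
    · omega
  · intro x hx
    simp only [Finset.mem_filter, Finset.mem_univ, true_and, hπ] at hx
    funext i
    by_cases h1 : i ≤ σ i
    · simp [h1]
    · have h3 : σ i ≤ σ (σ i) := by rw [hσ]; exact le_of_lt (not_le.mp h1)
      simp [h1, h3, congrFun hx i]
  · intro z hz
    rw [Fintype.mem_piFinset] at hz
    funext i
    by_cases h1 : i ≤ σ i
    · simp [h1]
    · have := hz i
      rw [hw, if_neg h1, Finset.mem_singleton] at this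
      simp [h1, this]
  · intro x _
    rw [he]
    refine Finset.prod_congr rfl fun i _ => ?_
    by_cases h1 : i ≤ σ i
    · simp [h1]
    · simp only [h1, if_false]
      exact hdm i _ fun h => h1 (le_of_eq h.symm)

variable [Fintype F] {f : (Fin 3 → F) → (Fin 3 → F) → F}

/-- An isometric involution of the plane group is scalar or a signed reflection up to sign. -/
lemma exists_eG (hf : Cfsg.Geo.IsSymmetricForm f) (h2 : (2 : F) ≠ 0) {A : GL (Fin 3) F} (hA : A ∈ isoF f)
    (hAA : A * A = 1) : (A = 1 ∨ A = -1) ∨ ∃ z, f z z ≠ 0 ∧ (A = eG hf z ∨ A = -eG hf z) := by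
  suffices h : ∀ B : GL (Fin 3) F, B ∈ isoF f → B * B = 1 → B.val.det = 1 → B = 1 ∨ ∃ z, f z z ≠ 0 ∧ B = eG hf z by
    rcases mul_self_eq_one_iff.mp (det_isoF hf hA) with hd | hd
    · rcases h A hA hAA hd with h | ⟨z, hz, h⟩
      exacts [Or.inl (Or.inl h), Or.inr ⟨z, hz, Or.inl h⟩]
    · rcases h (-A) (fun x y => by
          rw [Units.val_neg, neg_mulVec, neg_mulVec, sym_neg_left hf, OO.sym_neg_right hf, neg_neg]; exact hA x y)
        (by rw [neg_mul_neg, hAA]) (by rw [Units.val_neg, det_neg, hd]; norm_num [Fintype.card_fin]) with h | ⟨z, hz, h⟩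
      exacts [Or.inl (Or.inr (neg_eq_iff_eq_neg.mp h)), Or.inr ⟨z, hz, Or.inr (neg_eq_iff_eq_neg.mp h)⟩]
  intro B hB hBB hd
  obtain ⟨g, hg⟩ : ∃ g : (Fin 3 → F) → Fin 3 → F, ∀ x, g x = x + B.val *ᵥ x := ⟨_, fun x => rfl⟩
  have hBB' : ∀ x, B.val *ᵥ (B.val *ᵥ x) = x := fun x => by rw [← Transvec.mul_mulVec, hBB]; simp
  have hgf : ∀ x, B.val *ᵥ g x = g x := fun x => by rw [hg, mulVec_add, hBB', add_comm]
  obtain ⟨z, hz, hBz⟩ : ∃ z, f z z ≠ 0 ∧ B.val *ᵥ z = z := by
    by_contra hno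
    push Not at hno
    have h0 : ∀ x, f (g x) (g x) = 0 := fun x => by_contra fun h => hno _ h (hgf x)
    have h1 : ∀ x y, f (g x) y = 0 := fun x y => by
      have hxy : f (g x) (g y) = 0 := by
        have h3 := h0 (x + y)
        rw [show g (x + y) = g x + g y by rw [hg, hg, hg, mulVec_add]; abel, SpO.sym_quad_add hf, h0, h0] at h3
        exact (mul_eq_zero.mp (show (2 : F) * f (g x) (g y) = 0 by linear_combination h3)).resolve_left h2
      rw [hg y, hf.bilinear.add_right] at hxy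
      have h4 : f (g x) (B.val *ᵥ y) = f (g x) y := by
        conv_lhs => rw [← hgf x]
        exact hB _ _
      rw [h4] at hxy
      exact (mul_eq_zero.mp (show (2 : F) * f (g x) y = 0 by linear_combination hxy)).resolve_left h2
    have hneg : B.val = -1 := Matrix.ext_iff_mulVec.mpr fun x => by
      rw [neg_mulVec, one_mulVec, eq_neg_iff_add_eq_zero, add_comm, ← hg]
      by_contra hne
      obtain ⟨⟨y, hy⟩, -⟩ := hf.nondegenerate _ hne
      exact hy ((hf.symm _ _).trans (h1 x y))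
    rw [hneg, det_neg, det_one, Fintype.card_fin] at hd
    exact h2 (by linear_combination -hd)
  obtain ⟨w, u, T⟩ := exists_tri0 hf h2 hz
  rcases T.rot_two hf h2 hB hd hBz hBB with h | h
  exacts [Or.inl h, Or.inr ⟨z, hz, h⟩]

variable {T : ℕ}

/-- Data of a monomial isometric involution. -/
lemma invol_data (hf : Cfsg.Geo.IsSymmetricForm f) (h2 : (2 : F) ≠ 0) {y : GL (Idx (T + 1) 3) F} (hy : IsTW y)
    (hiso : PIso f y) (hyy : y * y = 1) : ∃ σ gs, TWData y σ gs ∧ (∀ i, gs i ∈ isoF f) ∧ (∀ i, σ (σ i) = i) ∧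
      (∀ i, gs i * gs (σ i) = 1 ∨ gs i * gs (σ i) = -1) ∧ ∀ i, σ i = i → gs i * gs i = 1 := by
  obtain ⟨σ, gs₀, hd₀⟩ := hy
  obtain ⟨gs, hgs, hd⟩ := isoF_of_tw hf (by decide) h2 le_rfl hd₀ hiso
  have h1 := hd.mul hd
  rw [hyy] at h1
  obtain ⟨hσ, hc⟩ := twData_one_unique (by norm_num) h1
  obtain ⟨e, he0, hee⟩ := SpO.exists_singular_sym hf h2 le_rfl
  obtain ⟨z, hz⟩ := exists_good hf h2
  have hpm : ∀ i, gs i * gs (σ i) = 1 ∨ gs i * gs (σ i) = -1 := by
    intro i
    obtain ⟨c, hc⟩ := hc i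
    have hcc : c * c = 1 := by
      have h := (isoF f).mul_mem (hgs i) (hgs (σ i)) z z
      rw [hc, sym_quad_smul hf] at h
      exact mul_right_cancel₀ hz.1 (by rw [one_mul]; exact h)
    rcases mul_self_eq_one_iff.mp hcc with h | h
    · exact Or.inl (Transvec.gl_ext fun x => by rw [hc, h, one_smul, Units.val_one, one_mulVec])
    · exact Or.inr (Transvec.gl_ext fun x => by
        rw [hc, h, Units.val_neg, Units.val_one, neg_mulVec, one_mulVec, neg_one_smul])
  refine ⟨σ, gs, hd, hgs, fun i => by rw [← Equiv.Perm.mul_apply, hσ]; rfl, hpm, fun i hi => ?_⟩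
  rcases hpm i with h | h <;> rw [hi] at h
  · exact h
  · exfalso
    have h3 := congrArg (fun A : GL (Fin 3) F => A.val.det) h
    simp only [Units.val_mul, det_mul, Units.val_neg, Units.val_one, det_neg, det_one, Fintype.card_fin,
      det_isoF hf (hgs i)] at h3
    exact h2 (by linear_combination h3)

/-- The number of fixed vectors of a signed reflection in one slot. -/
lemma fx_slot (hf : Cfsg.Geo.IsSymmetricForm f) (h2 : (2 : F) ≠ 0) {z : Fin 3 → F} (hz : f z z ≠ 0)
    (s : Fin (T + 1)) :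
    ∃ n : ℕ, Fx (slotEl s (eG hf z)) = Fintype.card F ^ n ∧ 2 * (n : ℤ) = (3 ^ (T + 1) : ℕ) - 3 ^ T := by
  classical
  obtain ⟨w, u, Z⟩ := exists_tri0 hf h2 hz
  obtain ⟨Q, hQ⟩ : ∃ Q : GL (Fin 3) F, Q.val = (Matrix.of ![z, w, u])ᵀ := by
    refine ⟨((Matrix.isUnit_iff_isUnit_det _).mpr ?_).unit, IsUnit.unit_spec _⟩
    rw [isUnit_iff_ne_zero, det_transpose]
    intro h
    have := prod_orth hf Z.vw Z.vu Z.wu
    rw [h, mul_zero, zero_mul] at this
    exact mul_ne_zero (mul_ne_zero Z.hv Z.hw) Z.hu this.symm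
  obtain ⟨d, hd⟩ : ∃ d : Fin (T + 1) → Fin 3 → ℤ, d = fun i => if i = s then ![1, -1, -1] else fun _ => 1 :=
    ⟨_, rfl⟩
  obtain ⟨n, h1, h3⟩ := fx_tw h2 (slotEl_data s (eG hf z)) (fun i => rfl)
    (Function.update (fun _ => (1 : GL (Fin 3) F)) s Q) (d := d) (fun i j => by
      rw [hd]; simp only; split_ifs <;> fin_cases j <;> simp) (fun i j h => absurd rfl h) (fun i j => by
      rw [Equiv.Perm.one_apply, hd]
      by_cases hi : i = s
      · subst hi
        simp only [Function.update_self, if_true, hQ]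
        rw [show (Matrix.of ![z, w, u])ᵀ *ᵥ Pi.single j 1 = ![z, w, u] j by
          rw [mulVec_single]; funext a; simp]
        fin_cases j
        · simpa using eG_self hf hz
        · simpa using eG_perp hf hz ((hf.symm _ _).trans Z.vw)
        · simpa using eG_perp hf hz ((hf.symm _ _).trans Z.vu)
      · simp [hi, Function.update_of_ne hi])
  refine ⟨n, h1, ?_⟩
  rw [h3, ← Finset.mul_prod_erase _ _ (Finset.mem_univ s),
    Finset.prod_congr rfl (g := fun _ => (3 : ℤ)) (fun i hi => by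
      rw [slotSum, Equiv.Perm.one_apply, if_pos le_rfl, hd]; simp [Finset.ne_of_mem_erase hi]),
    Finset.prod_const, Finset.card_erase_of_mem (Finset.mem_univ s), Finset.card_univ, Fintype.card_fin,
    slotSum, Equiv.Perm.one_apply, if_pos le_rfl, hd]
  simp [Fin.sum_univ_three]
  ring

/-- The shapes of monomial involutions conjugate to a signed reflection of one slot. -/
theorem conj_shape (hf : Cfsg.Geo.IsSymmetricForm f) (h2 : (2 : F) ≠ 0) {y : GL (Idx (T + 1) 3) F} (hy : IsTW y)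
    (hiso : PIso f y) (hyy : y * y = 1) {z₀ : Fin 3 → F} (hz₀ : f z₀ z₀ ≠ 0) {s : Fin (T + 1)}
    (hfx : Fx y = Fx (slotEl s (eG hf z₀))) :
    (∃ i z, f z z ≠ 0 ∧ y = slotEl i (eG hf z)) ∨
    ∃ i j gs, i ≠ j ∧ TWData y (Equiv.swap i j) gs ∧ (∀ l, gs l ∈ isoF f) ∧
      (gs i * gs j = 1 ∨ gs i * gs j = -1) ∧ ∀ l, l ≠ i → l ≠ j → gs l = 1 ∨ gs l = -1 := by
  classical
  obtain ⟨σ, gs, hd, hgs, hσ, hpm, hfixsq⟩ := invol_data hf h2 hy hiso hyy
  obtain ⟨K, hK⟩ : ∃ K : Fin (T + 1) → ℕ, ∀ i, K i =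
      if i ≤ σ i ∧ ¬ (σ i = i ∧ ¬ (gs i = 1 ∨ gs i = -1)) then 1 else 0 := ⟨_, fun i => rfl⟩
  have hrow : ∀ i, ∃ (P : GL (Fin 3) F) (d : Fin 3 → ℤ) (ζ : ℤ), (∀ j, d j = 1 ∨ d j = -1) ∧ (ζ = 1 ∨ ζ = -1) ∧
      (σ i = i → ∀ j, (gs i).val *ᵥ (P.val *ᵥ Pi.single j 1) = (d j : F) • (P.val *ᵥ Pi.single j 1)) ∧
      (i < σ i → P = 1 ∧ ∀ j, d j = 1) ∧
      (σ i < i → P = (gs (σ i))⁻¹ ∧ (∀ j, d j = ζ) ∧ gs i * gs (σ i) = if ζ = 1 then 1 else -1) ∧
      (σ i = i → ((∀ j, d j = ζ) ∧ gs i = if ζ = 1 then 1 else -1) ∨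
        (¬ (gs i = 1 ∨ gs i = -1) ∧ ∑ j, d j = -ζ ∧ ∃ z, f z z ≠ 0 ∧ gs i = if ζ = 1 then eG hf z else -eG hf z)) := by
    intro i
    rcases lt_trichotomy i (σ i) with hi | hi | hi
    · exact ⟨1, fun _ => 1, 1, fun _ => Or.inl rfl, Or.inl rfl, fun h => absurd h hi.ne', fun _ => ⟨rfl, fun _ => rfl⟩,
        fun h => absurd h hi.asymm, fun h => absurd h hi.ne'⟩
    · rcases exists_eG hf h2 (hgs i) (hfixsq i hi.symm) with (h | h) | ⟨z, hz, hzA⟩
      · exact ⟨1, fun _ => 1, 1, fun _ => Or.inl rfl, Or.inl rfl, fun _ j => by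
            simp only [h, Units.val_neg, Units.val_one, neg_mulVec, one_mulVec, Int.cast_neg, Int.cast_one, neg_one_smul, one_smul],
          fun h' => absurd hi h'.ne, fun h' => absurd hi h'.ne', fun _ => Or.inl ⟨fun _ => rfl, by simpa using h⟩⟩
      · exact ⟨1, fun _ => -1, -1, fun _ => Or.inr rfl, Or.inr rfl, fun _ j => by
            simp only [h, Units.val_neg, Units.val_one, neg_mulVec, one_mulVec, Int.cast_neg, Int.cast_one, neg_one_smul, one_smul],
          fun h' => absurd hi h'.ne, fun h' => absurd hi h'.ne', fun _ => Or.inl ⟨fun _ => rfl, by simpa using h⟩⟩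
      obtain ⟨w, u, Z⟩ := exists_tri0 hf h2 hz
      have hns := eG_nonscalar hf h2 hz Z.vw (fun h0 => Z.hw (by rw [h0, sym_zero_left hf]))
      have hns' : ¬ (gs i = 1 ∨ gs i = -1) := by
        intro h
        refine hns ?_
        rcases hzA with h' | h' <;> rcases h with h | h <;> rw [h] at h'
        · exact ⟨1, by rw [← h', one_smul, Units.val_one]⟩
        · exact ⟨-1, by rw [← h', neg_one_smul, Units.val_neg, Units.val_one]⟩
        · exact ⟨-1, by rw [neg_eq_iff_eq_neg.mp h'.symm, neg_one_smul, Units.val_neg, Units.val_one]⟩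
        · exact ⟨1, by rw [neg_eq_iff_eq_neg.mp h'.symm, neg_neg, one_smul, Units.val_one]⟩
      obtain ⟨Q, hQ⟩ : ∃ Q : GL (Fin 3) F, Q.val = (Matrix.of ![z, w, u])ᵀ := by
        refine ⟨((Matrix.isUnit_iff_isUnit_det _).mpr ?_).unit, IsUnit.unit_spec _⟩
        rw [isUnit_iff_ne_zero, det_transpose]
        intro h
        have := prod_orth hf Z.vw Z.vu Z.wu
        rw [h, mul_zero, zero_mul] at this
        exact mul_ne_zero (mul_ne_zero Z.hv Z.hw) Z.hu this.symm
      obtain ⟨ζ, hζ, hζA⟩ : ∃ ζ : ℤ, (ζ = 1 ∨ ζ = -1) ∧ gs i = if ζ = 1 then eG hf z else -eG hf z :=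
        hzA.elim (fun h => ⟨1, Or.inl rfl, by simpa using h⟩) (fun h => ⟨-1, Or.inr rfl, by simpa using h⟩)
      refine ⟨Q, ![ζ, -ζ, -ζ], ζ, ?_, hζ, fun _ j => ?_, fun h' => absurd hi h'.ne, fun h' => absurd hi h'.ne',
        fun _ => Or.inr ⟨hns', by simp [Fin.sum_univ_three], z, hz, hζA⟩⟩
      · intro j; rcases hζ with rfl | rfl <;> fin_cases j <;> simp
      · rw [hQ, show (Matrix.of ![z, w, u])ᵀ *ᵥ Pi.single j 1 = ![z, w, u] j by
          rw [mulVec_single]; funext a; simp, hζA]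
        rcases hζ with rfl | rfl <;> fin_cases j <;>
          simp [eG_self hf hz, eG_perp hf hz ((hf.symm _ _).trans Z.vw), eG_perp hf hz ((hf.symm _ _).trans Z.vu),
            neg_mulVec]
    · rcases hpm i with h | h
      · exact ⟨(gs (σ i))⁻¹, fun _ => 1, 1, fun _ => Or.inl rfl, Or.inl rfl, fun h' => absurd h' hi.ne,
          fun h' => absurd h' hi.asymm, fun _ => ⟨rfl, fun _ => rfl, by simpa using h⟩, fun h' => absurd h' hi.ne⟩
      · exact ⟨(gs (σ i))⁻¹, fun _ => -1, -1, fun _ => Or.inr rfl, Or.inr rfl, fun h' => absurd h' hi.ne,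
          fun h' => absurd h' hi.asymm, fun _ => ⟨rfl, fun _ => rfl, by simpa using h⟩, fun h' => absurd h' hi.ne⟩
  choose P d ζ hd1 hζ hfix hlo hhi hcls using hrow
  have hP : ∀ i j, (gs i).val *ᵥ ((P (σ i)).val *ᵥ Pi.single j 1) = (d i j : F) • ((P i).val *ᵥ Pi.single j 1) := by
    intro i j
    rcases lt_trichotomy i (σ i) with hi | hi | hi
    · obtain ⟨e1, -, -⟩ := hhi (σ i) (by rwa [hσ])
      rw [hσ] at e1
      rw [e1, (hlo i hi).1, (hlo i hi).2, Transvec.mulVec_inv_cancel]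
      simp only [Int.cast_one, one_smul, Units.val_one, one_mulVec]
    · rw [← hi]; exact hfix i hi.symm j
    · obtain ⟨e1, e2, e3⟩ := hhi i hi
      have e4 := (hlo (σ i) (by rwa [hσ])).1
      rw [e1, e4, e2, Units.val_one, one_mulVec]
      have e5 : gs i = (if ζ i = 1 then 1 else -1) * (gs (σ i))⁻¹ := eq_mul_inv_of_mul_eq e3
      rcases hζ i with h | h <;> rw [e5, h]
      · simp only [if_true, one_mul, Int.cast_one, one_smul]
      · rw [if_neg (by decide), neg_one_mul, Units.val_neg, neg_mulVec, Int.cast_neg, Int.cast_one, neg_one_smul]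
  obtain ⟨n, hn, hn2⟩ := fx_tw h2 hd hσ P hd1 (fun i j hi => by
    rcases lt_or_gt_of_ne (Ne.symm hi) with h | h
    · rw [(hlo i h).2, (hlo i h).2]
    · rw [(hhi i h).2.1, (hhi i h).2.1]) hP
  obtain ⟨m, hm, hm2⟩ := fx_slot hf h2 hz₀ s
  have hnm : n = m := Nat.pow_right_injective (Fintype.one_lt_card) (hn.symm.trans (hfx.trans hm))
  subst hnm
  have hfac : ∀ i, ∃ η : ℤ, (η = 1 ∨ η = -1) ∧ slotSum σ d i = η * 3 ^ K i ∧
      (σ i = i → ¬ (gs i = 1 ∨ gs i = -1) → η = -ζ i) ∧ (σ i = i → (gs i = 1 ∨ gs i = -1) → η = ζ i) := by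
    intro i
    rw [slotSum, hK]
    rcases lt_trichotomy i (σ i) with hi | hi | hi
    · refine ⟨1, Or.inl rfl, ?_, fun h => absurd h hi.ne', fun h => absurd h hi.ne'⟩
      rw [if_pos hi.le, if_pos ⟨hi.le, fun h => hi.ne' h.1⟩, Fin.sum_univ_three, (hlo i hi).2, (hlo i hi).2,
        (hlo i hi).2]
      norm_num
    · rcases hcls i hi.symm with ⟨h1, h3⟩ | ⟨h1, h3, -⟩
      · have hsc : gs i = 1 ∨ gs i = -1 := by rw [h3]; split_ifs <;> simp
        refine ⟨ζ i, hζ i, ?_, fun _ h => absurd hsc h, fun _ _ => rfl⟩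
        rw [if_pos hi.le, if_pos ⟨hi.le, fun h => h.2 hsc⟩, Fin.sum_univ_three, h1, h1, h1]
        ring
      · refine ⟨-ζ i, by rcases hζ i with h | h <;> simp [h], ?_, fun _ _ => rfl, fun _ h => absurd h h1⟩
        rw [if_pos hi.le, if_neg fun h => h.2 ⟨hi.symm, h1⟩, h3]
        simp
    · refine ⟨d i 0, hd1 i 0, ?_, fun h => absurd h hi.ne, fun h => absurd h hi.ne⟩
      rw [if_neg hi.not_ge, if_neg fun h => hi.not_ge h.1]
      simp
  choose η hη hηs hηn hηc using hfac
  have hprod : ∏ i, slotSum σ d i = (∏ i, η i) * 3 ^ ∑ i, K i := by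
    rw [← Finset.prod_pow_eq_pow_sum, ← Finset.prod_mul_distrib]
    exact Finset.prod_congr rfl fun i _ => hηs i
  have hηp : ∏ i, η i = 1 ∨ ∏ i, η i = -1 := by
    refine Finset.prod_induction _ (fun z => z = 1 ∨ z = -1) ?_ (Or.inl rfl) fun i _ => hη i
    rintro a b (rfl | rfl) (rfl | rfl) <;> simp
  have heq : (∏ i, η i) * 3 ^ (∑ i, K i) = -(3 ^ T : ℤ) := by rw [← hprod]; linarith
  have hη1 : ∏ i, η i = -1 := by
    rcases hηp with h | h
    · exfalso
      rw [h, one_mul] at heq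
      have h1 : (0 : ℤ) < 3 ^ ∑ i, K i := by positivity
      have h3 : (0 : ℤ) < 3 ^ T := by positivity
      omega
    · exact h
  have hsumK : ∑ i, K i = T := by
    rw [hη1, neg_one_mul, neg_inj] at heq
    exact Nat.pow_right_injective (le_of_eq_of_le rfl (by norm_num : 2 ≤ 3)) (by exact_mod_cast heq)
  obtain ⟨i₀, hi₀⟩ : ∃ i, K i = 0 := by
    by_contra hc
    push Not at hc
    have h1 : ∀ i, K i = 1 := fun i => by
      have := hc i; rw [hK] at this ⊢; split_ifs at this ⊢ <;> simp_all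
    rw [Finset.sum_congr rfl fun i _ => h1 i, Finset.sum_const, Finset.card_univ, Fintype.card_fin] at hsumK
    simp at hsumK
  have hother : ∀ l, l ≠ i₀ → K l = 1 := by
    intro l hl
    by_contra hc
    have hl0 : K l = 0 := by rw [hK] at hc ⊢; split_ifs at hc ⊢; simp at hc; rfl
    have h1 : ∑ i ∈ (Finset.univ.erase i₀).erase l, K i ≤ ((Finset.univ.erase i₀).erase l).card • 1 :=
      Finset.sum_le_card_nsmul _ _ 1 fun i _ => by rw [hK]; split_ifs <;> simp
    rw [Finset.sum_erase _ hl0, Finset.sum_erase _ hi₀, hsumK,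
      Finset.card_erase_of_mem (Finset.mem_erase.mpr ⟨hl, Finset.mem_univ _⟩),
      Finset.card_erase_of_mem (Finset.mem_univ _), Finset.card_univ, Fintype.card_fin, smul_eq_mul, mul_one] at h1
    have hT : 0 < T := by
      have h : (l : ℕ) ≠ (i₀ : ℕ) := fun h => hl (Fin.ext h)
      have := l.isLt
      have := i₀.isLt
      omega
    omega
  have hK1 : ∀ l, K l = 1 → l ≤ σ l ∧ (σ l = l → gs l = 1 ∨ gs l = -1) := fun l h => by
    rw [hK] at h
    split_ifs at h with h'
    exact ⟨h'.1, fun h1 => by_contra fun h3 => h'.2 ⟨h1, h3⟩⟩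
  by_cases hi : σ i₀ = i₀
  · have hσ1 : ∀ l, σ l = l := fun l => by
      by_cases hl : l = i₀
      · exact hl ▸ hi
      have hl' : σ l ≠ i₀ := fun h => hl (by rw [← hσ l, h, hi])
      have h1 := (hK1 _ (hother l hl)).1
      have h3 := (hK1 _ (hother _ hl')).1
      rw [hσ] at h3
      exact le_antisymm h3 h1
    have hns : ¬ (gs i₀ = 1 ∨ gs i₀ = -1) := by
      rw [hK] at hi₀
      split_ifs at hi₀ with h'
      intro h; exact h' ⟨le_of_eq hi.symm, fun h'' => h''.2 h⟩
    obtain ⟨-, -, z, hz, hzA⟩ : ¬ (gs i₀ = 1 ∨ gs i₀ = -1) ∧ ∑ j, d i₀ j = -ζ i₀ ∧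
        ∃ z, f z z ≠ 0 ∧ gs i₀ = if ζ i₀ = 1 then eG hf z else -eG hf z :=
      (hcls i₀ hi).elim (fun h => absurd (by rw [h.2]; split_ifs <;> simp) hns) id
    refine Or.inl ⟨i₀, z, hz, TWMax.ext_pv fun xs => ?_⟩
    have hsign : ∏ l, ζ l = 1 := by
      have h1 : ∀ l, η l = if l = i₀ then -ζ l else ζ l := fun l => by
        by_cases hl : l = i₀
        · subst hl; rw [if_pos rfl, hηn l hi hns]
        · rw [if_neg hl, hηc l (hσ1 l) ((hK1 l (hother l hl)).2 (hσ1 l))]
      rw [← Finset.mul_prod_erase _ _ (Finset.mem_univ i₀), h1, if_pos rfl,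
        Finset.prod_congr rfl (g := ζ) (fun l hl => by rw [h1, if_neg (Finset.ne_of_mem_erase hl)])] at hη1
      rw [← Finset.mul_prod_erase _ _ (Finset.mem_univ i₀)]
      linarith
    rw [hd, slotEl_apply]
    have e : (fun l => (gs l).val *ᵥ xs (σ l)) = fun l => (ζ l : F) • Function.update xs i₀ ((eG hf z).val *ᵥ xs i₀) l := by
      funext l
      rw [hσ1]
      by_cases hl : l = i₀
      · subst hl
        rw [Function.update_self, hzA]
        rcases hζ l with h | h <;> simp [h, neg_mulVec]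
      · rw [Function.update_of_ne hl]
        obtain ⟨h1, h3⟩ := (hcls l (hσ1 l)).resolve_right fun h => h.1 ((hK1 l (hother l hl)).2 (hσ1 l))
        rw [h3]
        rcases hζ l with h | h <;> simp [h, neg_mulVec]
    rw [e]
    funext a
    simp only [pv, Pi.smul_apply, smul_eq_mul, Finset.prod_mul_distrib, ← Int.cast_prod, hsign, Int.cast_one,
      one_mul]
  · refine Or.inr ⟨σ i₀, i₀, gs, hi, ?_, hgs, ?_, ?_⟩
    · have hσ' : σ = Equiv.swap (σ i₀) i₀ := by
        refine Equiv.ext fun l => ?_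
        by_cases hl : l = i₀
        · subst hl; rw [Equiv.swap_apply_right]
        by_cases hl' : l = σ i₀
        · subst hl'; rw [Equiv.swap_apply_left, hσ]
        rw [Equiv.swap_apply_of_ne_of_ne hl' hl]
        have h1 := (hK1 _ (hother l hl)).1
        have hne : σ l ≠ i₀ := fun h => hl' (by rw [← h, hσ])
        have h3 := (hK1 _ (hother _ hne)).1
        rw [hσ] at h3
        exact le_antisymm h3 h1
      rwa [← hσ']
    · have := hpm (σ i₀); rwa [hσ] at this
    · intro l hl hl'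
      have h1 := (hK1 _ (hother l hl')).1
      have hne : σ l ≠ i₀ := fun h => hl (by rw [← h, hσ])
      have h3 := (hK1 _ (hother _ hne)).1
      rw [hσ] at h3
      exact (hK1 _ (hother l hl')).2 (le_antisymm h3 h1)

end CfsgLib.Classical22.OPow.Three
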