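/-
An element conjugating a good signed reflection into a tensor wreath element is a tensor wreath element.
-/
import Cfsg.Agent.Lib.Classical22.OrthPower.Three.Odd
import Cfsg.Agent.Lib.Classical22.OrthPower.Three.Sig

set_option autoImplicit false
set_option linter.unusedSectionVars false
set_option linter.unusedSimpArgs false

namespace CfsgLib.Classical22.OPow.Three

open Matrix CfsgLib.Transvec CfsgLib.Classical22.TensorMax CfsgLib.Classical22.TensorMax.SympO
open CfsgLib.Classical22.TensorMax.SpO (sym_outer sym_zero_left sym_zero_right sym_sub_left sym_sub_right sym_neg_left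
  sym_quad_smul exists_singular_sym sym_gram_mul_inv)
open CfsgLib.Classical22.TensorMax.OO (eA eA_mulVec eA_self sym_neg_right)
open CfsgLib.Classical22.TWMax (Idx pv emb emb_mul emb_one emb_comm slotEl slotEl_val slotEl_mul slotEl_data TWData
  IsTW twData_one_unique)
open scoped MatrixGroups

variable {F : Type*} [Field F] {f : (Fin 3 → F) → (Fin 3 → F) → F}

/-- Scalar elements of the slot group. -/
def scG (F : Type*) [Field F] : Subgroup (GL (Fin 3) F) where
  carrier := {A | ∃ c : F, A.val = c • 1}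
  one_mem' := ⟨1, by rw [one_smul, Units.val_one]⟩
  mul_mem' := by
    rintro A B ⟨a, ha⟩ ⟨b, hb⟩
    exact ⟨a * b, by rw [Units.val_mul, ha, hb, Matrix.smul_mul, one_mul, smul_smul]⟩
  inv_mem' := by
    rintro A ⟨a, ha⟩
    have ha0 : a ≠ 0 := fun h => A.ne_zero (by rw [ha, h, zero_smul])
    refine ⟨a⁻¹, ?_⟩
    have h := Units.inv_mul A
    rw [ha, Matrix.mul_smul, mul_one] at h
    rw [← h, smul_smul, inv_mul_cancel₀ ha0, one_smul]

lemma mem_scG {A : GL (Fin 3) F} : A ∈ scG F ↔ ∃ c : F, A.val = c • 1 := Iff.rfl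

lemma scG_comm {A : GL (Fin 3) F} (hA : A ∈ scG F) (B : GL (Fin 3) F) : A * B = B * A := by
  obtain ⟨a, ha⟩ := hA
  exact Units.ext (by rw [Units.val_mul, Units.val_mul, ha, Matrix.smul_mul, Matrix.mul_smul, one_mul, mul_one])

lemma neg_det3 (A : GL (Fin 3) F) : (-A).val.det = -A.val.det := by
  rw [Units.val_neg, det_neg, Fintype.card_fin]; ring

lemma scG_pm {A : GL (Fin 3) F} (hA : A = 1 ∨ A = -1) : A ∈ scG F := by
  rcases hA with rfl | rfl
  · exact one_mem _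
  · exact ⟨-1, by rw [Units.val_neg, Units.val_one, neg_one_smul]⟩

lemma scG_of_one {T : ℕ} {σ : Equiv.Perm (Fin T)} {gs : Fin T → GL (Fin 3) F}
    (h : TWData (1 : GL (Idx T 3) F) σ gs) (l : Fin T) : gs l ∈ scG F := by
  obtain ⟨-, hc⟩ := twData_one_unique (by norm_num) h
  obtain ⟨c, hc⟩ := hc l
  exact ⟨c, Matrix.ext_iff_mulVec.mpr fun x => by rw [hc, smul_mulVec, one_mulVec]⟩

variable [Fintype F]

/-- Isometries of determinant one with a common fixed vector commute. -/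
lemma commute_of_fixed (hf : Cfsg.Geo.IsSymmetricForm f) (h2 : (2 : F) ≠ 0) {x : Fin 3 → F} (hx : x ≠ 0)
    {A B : GL (Fin 3) F} (hA : A ∈ isoF f) (hAd : A.val.det = 1) (hAx : A.val *ᵥ x = x) (hB : B ∈ isoF f)
    (hBd : B.val.det = 1) (hBx : B.val *ᵥ x = x) : A * B = B * A := by
  by_cases hxx : f x x = 0
  swap
  · obtain ⟨w, u, T⟩ := exists_tri0 hf h2 hxx
    exact T.rot_comm hf hA hAd hAx hB hBd hBx
  obtain ⟨e', r, H⟩ := exists_hyp hf h2 hx hxx
  have key : ∀ C : GL (Fin 3) F, C ∈ isoF f → C.val.det = 1 → C.val *ᵥ x = x →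
      ∃ c : F, C = eU hf h2 x (c • r) := by
    intro C hC hCd hCx
    have hr0 := H.rr
    have h1 : f (C.val *ᵥ r) x = 0 := by conv_lhs => rw [← hCx]; rw [hC, hf.symm, H.er]
    obtain ⟨α, γ, hCr⟩ : ∃ α γ : F, C.val *ᵥ r = α • x + γ • r :=
      ⟨_, _, by conv_lhs => rw [H.dec hf h2 (C.val *ᵥ r), h1, zero_smul, add_zero]⟩
    have hγ2 : γ * γ = 1 := by
      have h := hC r r
      simp only [hCr, hf.bilinear.add_left, hf.bilinear.add_right, hf.bilinear.smul_left, hf.bilinear.smul_right,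
        H.ee, H.er, hf.symm r x, mul_zero, zero_add, add_zero] at h
      exact mul_right_cancel₀ hr0 (by linear_combination h)
    have h3 : f (C.val *ᵥ e') x = 1 := by conv_lhs => rw [← hCx]; rw [hC, hf.symm, H.pair]
    obtain ⟨Z, Y, hCe'⟩ : ∃ Z Y : F, C.val *ᵥ e' = Z • x + e' + Y • r :=
      ⟨_, _, by conv_lhs => rw [H.dec hf h2 (C.val *ᵥ e'), h3, one_smul]⟩
    have hγ : γ = 1 := by
      obtain ⟨P, hP⟩ : ∃ P, P = (Matrix.of ![x, r, e'])ᵀ := ⟨_, rfl⟩
      have hm : C.val * P = P * !![1, α, Z; 0, γ, Y; 0, 0, 1] := by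
        ext i j
        fin_cases j
        · have := congrFun hCx i
          simpa [hP, Matrix.mul_apply, Matrix.mulVec, dotProduct, Fin.sum_univ_three, mul_comm] using this
        · have := congrFun hCr i
          simp [hP, Matrix.mul_apply, Matrix.mulVec, dotProduct, Fin.sum_univ_three] at this ⊢
          linear_combination this
        · have := congrFun hCe' i
          simp [hP, Matrix.mul_apply, Matrix.mulVec, dotProduct, Fin.sum_univ_three] at this ⊢
          linear_combination this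
      have hP0 : P.det ≠ 0 := fun h => by
        have h1 : (Pᵀ * gram f * P).det = 0 := by rw [det_mul, h, mul_zero]
        rw [det_fin_three] at h1
        simp only [gram_cols hf, hP, transpose_apply, of_apply] at h1
        simp [H.ee, H.ee', H.pair, H.er, H.e'r, hf.symm r x, hf.symm r e', hf.symm e' x] at h1
        exact hr0 h1
      have h := congrArg Matrix.det hm
      rw [det_mul, det_mul, hCd, one_mul, det_fin_three !![1, α, Z; 0, γ, Y; 0, 0, 1]] at h
      simp at h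
      exact mul_left_cancel₀ hP0 (by linear_combination -h)
    rw [hγ, one_smul] at hCr
    refine ⟨Y, ?_⟩
    have e1 : α + Y * f r r = 0 := by
      have h := hC r e'
      simp only [hCr, hCe', hf.bilinear.add_left, hf.bilinear.add_right, hf.bilinear.smul_left,
        hf.bilinear.smul_right, H.ee, H.er, H.pair, H.e'r, hf.symm r x, hf.symm r e'] at h
      linear_combination h
    have e2 : 2 * Z + Y * Y * f r r = 0 := by
      have h := hC e' e'
      simp only [hCe', hf.bilinear.add_left, hf.bilinear.add_right, hf.bilinear.smul_left, hf.bilinear.smul_right,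
        H.ee, H.ee', H.er, H.pair, H.e'r, hf.symm r x, hf.symm r e', hf.symm e' x] at h
      linear_combination h
    refine Transvec.gl_ext fun z => ?_
    rw [H.dec hf h2 z, eU_val hf h2 H.ee (H.smul_r hf h2 Y).1]
    simp only [mulVec_add, mulVec_smul, hCx, hCe', hCr, eA_mulVec hf, hf.bilinear.add_left, hf.bilinear.smul_left,
      hf.bilinear.smul_right,
      H.ee, H.ee', H.er, H.pair, H.e'r, hf.symm r x, hf.symm r e', hf.symm e' x]
    match_scalars
    · field_simp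
      linear_combination (2 * f z r) * e1 + (f r r * f z x) * e2
    all_goals ring
  obtain ⟨a, rfl⟩ := key A hA hAd hAx
  obtain ⟨b, rfl⟩ := key B hB hBd hBx
  rw [eU_mul hf h2 hxx (H.smul_r hf h2 a).1 (H.smul_r hf h2 b).1,
    eU_mul hf h2 hxx (H.smul_r hf h2 b).1 (H.smul_r hf h2 a).1, add_comm]

lemma good_of_three (hf : Cfsg.Geo.IsSymmetricForm f) (h2 : (2 : F) ≠ 0) {z w u : Fin 3 → F} (T : Tri0 f z w u)
    (hz : ¬ Good f z) (hw : ¬ Good f w) (hu : ¬ Good f u) : False := by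
  classical
  obtain ⟨d, hd⟩ : ∃ d, d = (Matrix.of ![z, w, u]).det := ⟨_, rfl⟩
  have h := prod_orth hf T.vw T.vu T.wu
  rw [← hd] at h
  obtain ⟨γ, hγ⟩ : ∃ γ, γ = (gram f).det := ⟨_, rfl⟩
  have hg : γ ≠ 0 := hγ ▸ det_gram_ne hf
  have key : ∀ {v}, f v v ≠ 0 → ¬ Good f v → quadraticChar F (γ * f v v) = -1 := fun {v} hv hn =>
    quadraticChar_neg_one_iff_not_isSquare.mpr fun hs => hn ⟨hv, hγ ▸ hs⟩
  have h1 : quadraticChar F ((γ * f z z) * (γ * f w w) * (γ * f u u)) = 1 := by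
    refine (quadraticChar_one_iff_isSquare (mul_ne_zero (mul_ne_zero (mul_ne_zero hg T.hv) (mul_ne_zero hg T.hw))
      (mul_ne_zero hg T.hu))).mpr ⟨d * γ * γ, ?_⟩
    rw [← hγ] at h
    linear_combination -(γ * γ * γ) * h
  rw [map_mul, map_mul, key T.hv hz, key T.hw hw, key T.hu hu] at h1
  norm_num at h1

variable {t : ℕ} {M : Subgroup (GL (Idx (t + 2) 3) F)}

/-- A good signed reflection of one slot. -/
def Sng (C : Ctx3 f M) (x : GL (Idx (t + 2) 3) F) : Prop :=
  ∃ s v, Good f v ∧ x = slotEl s (eG C.ctx.sym v)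

variable {C : Ctx3 f M}

lemma Sng.mem {x : GL (Idx (t + 2) 3) F} (h : Sng C x) : x ∈ M := by
  obtain ⟨s, v, hv, rfl⟩ := h; exact C.good s v hv

lemma Sng.sq {x : GL (Idx (t + 2) 3) F} (h : Sng C x) : x * x = 1 := by
  obtain ⟨s, v, hv, rfl⟩ := h; rw [slotEl_mul, eG_mul_self, slotEl_one]

lemma Sng.tw {x : GL (Idx (t + 2) 3) F} (h : Sng C x) : IsTW x := by
  obtain ⟨s, v, hv, rfl⟩ := h; exact ⟨_, _, slotEl_data _ _⟩

lemma Sng.ne_one {x : GL (Idx (t + 2) 3) F} (h : Sng C x) : x ≠ 1 := by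
  obtain ⟨s, v, hv, rfl⟩ := h
  obtain ⟨w, u, T⟩ := exists_tri C.ctx.sym C.ctx.two hv
  intro h
  exact eG_nonscalar C.ctx.sym C.ctx.two hv.1 T.vw (fun h0 => T.hw.1 (by rw [h0, sym_zero_left C.ctx.sym]))
    ⟨1, by rw [slotEl_inj s (h.trans (slotEl_one s).symm), one_smul, Units.val_one]⟩

lemma Sng.conj {x h : GL (Idx (t + 2) 3) F} (hx : Sng C x) (hh : h ∈ M) (htw : IsTW h) : Sng C (h * x * h⁻¹) := by
  obtain ⟨s, v, hv, rfl⟩ := hx
  obtain ⟨σ, gs₀, hd₀⟩ := htw
  obtain ⟨gs, hgs, hd⟩ := isoF_of_tw C.ctx.sym (by decide) C.ctx.two le_rfl hd₀ (C.ctx.iso h hh)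
  obtain ⟨i, rfl⟩ := σ.surjective s
  refine ⟨i, (gs i).val *ᵥ v, ⟨by rw [hgs i]; exact hv.1, by rw [hgs i]; exact hv.2⟩, ?_⟩
  rw [hd.conj_slotEl i, eG_conj C.ctx.sym (hgs i)]

/-- Good signed reflections are conjugate under tensor wreath elements. -/
lemma Sng.trans {x y : GL (Idx (t + 2) 3) F} (hx : Sng C x) (hy : Sng C y) :
    ∃ h ∈ M, IsTW h ∧ h * x * h⁻¹ = y := by
  obtain ⟨s, v, hv, rfl⟩ := hx
  obtain ⟨i, z, hz, rfl⟩ := hy
  have hf := C.ctx.sym
  obtain ⟨g, hg, gs, hgs, hd⟩ := C.ctx.perm (Equiv.swap i s) (Or.inl (by decide))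
  obtain ⟨B, hB, c, hc, hBv⟩ := exists_sq_move hf C.ctx.two (a := (gs i).val *ᵥ v) (b := z)
    ⟨by rw [hgs i]; exact hv.1, by rw [hgs i]; exact hv.2⟩ hz
  refine ⟨slotEl i B * g, M.mul_mem (C.ctx.sq i B hB) hg, ⟨_, _, (slotEl_data i B).mul hd⟩, ?_⟩
  have e := hd.conj_slotEl i (eG hf v)
  rw [Equiv.swap_apply_left, eG_conj hf (hgs i)] at e
  have e2 : slotEl i B * g * slotEl s (eG hf v) * (slotEl i B * g)⁻¹ =
      slotEl i B * (g * slotEl s (eG hf v) * g⁻¹) * (slotEl i B)⁻¹ := by group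
  rw [e2, e, slotEl_inv, slotEl_mul, slotEl_mul, eG_conj hf (isoSq_le hB), hBv, eG_smul hf hc]

lemma ctx_nonscalar {z : Fin 3 → F} (hz : f z z ≠ 0) : eG C.ctx.sym z ∉ scG F := by
  obtain ⟨w, u, T⟩ := exists_tri0 C.ctx.sym C.ctx.two hz
  exact eG_nonscalar C.ctx.sym C.ctx.two hz T.vw (fun h0 => T.hw (by rw [h0, sym_zero_left C.ctx.sym]))

variable (p : ℕ) [Fact p.Prime] [CharP F p] (hflag : Flags C.ctx) (hbig : ¬ Big f M)
  (hsub : ∀ N : Subgroup (GL (Idx (t + 1) 3) F), Ctx3 f N → (∀ g ∈ N, IsTW g) ∨ Big f N)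
include hflag hbig hsub p

lemma tw_cent {x g : GL (Idx (t + 2) 3) F} (hx : Sng C x) (hg : g ∈ M) (h : g * x = x * g) : IsTW g := by
  obtain ⟨s, v, hv, rfl⟩ := hx
  exact cent (C := C) hv p hflag hbig hsub hg h

lemma tw_of_sng {x g : GL (Idx (t + 2) 3) F} (hx : Sng C x) (hg : g ∈ M) (hy : Sng C (g * x * g⁻¹)) : IsTW g := by
  obtain ⟨h, hh, htw, he⟩ := hx.trans hy
  have h1 : IsTW (h⁻¹ * g) := tw_cent (C := C) p hflag hbig hsub hx (M.mul_mem (M.inv_mem hh) hg) (by
    calc h⁻¹ * g * x = h⁻¹ * (g * x * g⁻¹) * g := by group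
      _ = x * (h⁻¹ * g) := by rw [← he]; group)
  obtain ⟨σ, hs, hd⟩ := htw
  obtain ⟨τ, ks, hd'⟩ := h1
  rw [show g = h * (h⁻¹ * g) by group]
  exact ⟨_, _, hd.mul hd'⟩

/-- A conjugate commuting with all slot elements of some slot. -/
theorem tw_of_slot_fixed {x g : GL (Idx (t + 2) 3) F} (hx : Sng C x) (hg : g ∈ M) (htw : IsTW (g * x * g⁻¹))
    {l : Fin (t + 2)} (hl : ∀ B, (g * x * g⁻¹) * slotEl l B = slotEl l B * (g * x * g⁻¹)) : IsTW g := by
  classical
  have hf := C.ctx.sym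
  have h2 := C.ctx.two
  by_contra hgn
  obtain ⟨v₀, hv₀⟩ := exists_good hf h2
  obtain ⟨w₀, u₀, T₀⟩ := exists_tri hf h2 hv₀
  obtain ⟨s, vx, hvx, hxe⟩ := hx
  -- images of the triple
  have key : ∀ z, Good f z → IsTW (g⁻¹ * slotEl l (eG hf z) * g) ∧
      ((∃ i w, f w w ≠ 0 ∧ ¬ Good f w ∧ g⁻¹ * slotEl l (eG hf z) * g = slotEl i (eG hf w)) ∨
      ∃ i j gs, i ≠ j ∧ TWData (g⁻¹ * slotEl l (eG hf z) * g) (Equiv.swap i j) gs ∧
        (gs i * gs j = 1 ∨ gs i * gs j = -1) ∧ ∀ k, k ≠ i → k ≠ j → gs k = 1 ∨ gs k = -1) := by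
    intro z hz
    have hb : Sng C (slotEl l (eG hf z)) := ⟨l, z, hz, rfl⟩
    obtain ⟨c, hcdef⟩ : ∃ c, c = g⁻¹ * slotEl l (eG hf z) * g := ⟨_, rfl⟩
    rw [← hcdef]
    have hcM : c ∈ M := hcdef ▸ M.mul_mem (M.mul_mem (M.inv_mem hg) hb.mem) hg
    have hctw : IsTW c := tw_cent (C := C) p hflag hbig hsub ⟨s, vx, hvx, hxe⟩ hcM (by
      rw [hcdef]
      calc g⁻¹ * slotEl l (eG hf z) * g * x = g⁻¹ * (slotEl l (eG hf z) * (g * x * g⁻¹)) * g := by group
        _ = g⁻¹ * ((g * x * g⁻¹) * slotEl l (eG hf z)) * g := by rw [hl]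
        _ = x * (g⁻¹ * slotEl l (eG hf z) * g) := by group)
    refine ⟨hctw, ?_⟩
    have hcc : c * c = 1 := by
      rw [hcdef]
      calc _ = g⁻¹ * (slotEl l (eG hf z) * slotEl l (eG hf z)) * g := by group
        _ = 1 := by rw [hb.sq]; group
    rcases conj_shape hf h2 hctw (C.ctx.iso c hcM) hcc hz.1 (s := l) (by
        rw [hcdef]; nth_rw 2 [← inv_inv g]; exact fx_conj _ _) with ⟨i, w, hw, he⟩ | ⟨i, j, gs, h1, h3, -, h4, h5⟩
    · refine Or.inl ⟨i, w, hw, fun hgood => hgn ?_, he⟩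
      have h1 : IsTW g⁻¹ := tw_of_sng p hflag hbig hsub hb (M.inv_mem hg)
        (by rw [inv_inv, ← hcdef]; exact ⟨i, w, hgood, he⟩)
      obtain ⟨σ, ks, hd⟩ := h1
      exact inv_inv g ▸ ⟨_, _, hd.inv⟩
    · exact Or.inr ⟨i, j, gs, h1, h3, h4, h5⟩
  obtain ⟨-, k1⟩ := key v₀ T₀.hv
  obtain ⟨-, k2⟩ := key w₀ T₀.hw
  obtain ⟨-, k3⟩ := key u₀ T₀.hu
  obtain ⟨c1, e1⟩ : ∃ c, c = g⁻¹ * slotEl l (eG hf v₀) * g := ⟨_, rfl⟩
  obtain ⟨c2, e2⟩ : ∃ c, c = g⁻¹ * slotEl l (eG hf w₀) * g := ⟨_, rfl⟩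
  obtain ⟨c3, e3⟩ : ∃ c, c = g⁻¹ * slotEl l (eG hf u₀) * g := ⟨_, rfl⟩
  rw [← e1] at k1; rw [← e2] at k2; rw [← e3] at k3
  have hprod : eG hf v₀ * eG hf w₀ = eG hf u₀ := by
    refine Units.ext (T₀.ext hf ?_ ?_ ?_) <;>
      simp only [Units.val_mul, ← mulVec_mulVec, eG_self hf T₀.hv.1, eG_self hf T₀.hw.1, eG_self hf T₀.hu.1,
        eG_perp hf T₀.hu.1 T₀.vu, eG_perp hf T₀.hu.1 T₀.wu, eG_perp hf T₀.hw.1 T₀.vw,
        eG_perp hf T₀.hw.1 ((hf.symm _ _).trans T₀.wu), eG_perp hf T₀.hv.1 ((hf.symm _ _).trans T₀.vw),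
        eG_perp hf T₀.hv.1 ((hf.symm _ _).trans T₀.vu), mulVec_neg, neg_neg]
  have h12 : c1 * c2 = c3 := by
    rw [e1, e2, e3, ← hprod, ← slotEl_mul]; group
  have hsq : ∀ z, (g⁻¹ * slotEl l (eG hf z) * g) * (g⁻¹ * slotEl l (eG hf z) * g) = 1 := fun z => by
    calc _ = g⁻¹ * (slotEl l (eG hf z) * slotEl l (eG hf z)) * g := by group
      _ = 1 := by rw [slotEl_mul, eG_mul_self, slotEl_one]; group
  have hc1 : c1 * c1 = 1 := e1 ▸ hsq v₀
  have hc2 : c2 * c2 = 1 := e2 ▸ hsq w₀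
  have hc3 : c3 * c3 = 1 := e3 ▸ hsq u₀
  -- two swaps and a reflection
  have tau : ∀ {a b c : GL (Idx (t + 2) 3) F} {i j i' j' k : Fin (t + 2)} {ga gb : Fin (t + 2) → GL (Fin 3) F}
      {z : Fin 3 → F}, f z z ≠ 0 → i ≠ j → i' ≠ j' → TWData a (Equiv.swap i j) ga →
      TWData b (Equiv.swap i' j') gb → c = slotEl k (eG hf z) →
      (ga i * ga j = 1 ∨ ga i * ga j = -1) → (gb i' * gb j' = 1 ∨ gb i' * gb j' = -1) →
      (∀ m, m ≠ i → m ≠ j → ga m = 1 ∨ ga m = -1) → (∀ m, m ≠ i' → m ≠ j' → gb m = 1 ∨ gb m = -1) →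
      a * b = c → False := by
    intro a b c i j i' j' k ga gb z hz hij hij' ha hb hc hga hgb hfa hfb habc
    have hC := (ha.mul hb).mul (slotEl_data k (eG hf z))
    rw [habc, hc, slotEl_mul, eG_mul_self, slotEl_one, one_mul] at hC
    obtain ⟨hσ, -⟩ := twData_one_unique (by norm_num) hC
    have hsc := scG_of_one hC
    have hsw : Equiv.swap i' j' = Equiv.swap i j := by
      rw [mul_eq_one_iff_eq_inv, Equiv.swap_inv] at hσ
      exact hσ
    have hns := ctx_nonscalar (C := C) hz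
    have sym_i : ∀ {x y : GL (Fin 3) F}, x * y ∈ scG F → y * x ∈ scG F := fun {x y} h => by
      have h1 := scG_comm h y
      have e : y * x = x * y := by
        have h3 := congrArg (fun z => z * y⁻¹) h1
        simp only [mul_inv_cancel_right] at h3
        calc y * x = y * (x * y) * y⁻¹ := by group
          _ = x * y := h3.symm
      rwa [e]
    have hk : ∀ m, Equiv.swap i' j' (Equiv.swap i j m) = m := fun m => by rw [hsw, Equiv.swap_apply_self]
    have hcomp : ∀ m, ga m * gb (Equiv.swap i j m) * Function.update (fun _ => (1 : GL (Fin 3) F)) k (eG hf z) m ∈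
        scG F := fun m => by
      have := hsc m
      simp only [Equiv.Perm.mul_apply, Equiv.Perm.one_apply, hk] at this
      exact this
    have hset : (i' = i ∧ j' = j) ∨ (i' = j ∧ j' = i) := by
      have h1 : Equiv.swap i j i' = j' := by rw [← hsw, Equiv.swap_apply_left]
      rcases eq_or_ne i' i with rfl | h
      · rw [Equiv.swap_apply_left] at h1; exact Or.inl ⟨rfl, h1.symm⟩
      rcases eq_or_ne i' j with rfl | h'
      · rw [Equiv.swap_apply_right] at h1; exact Or.inr ⟨rfl, h1.symm⟩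
      · rw [Equiv.swap_apply_of_ne_of_ne h h'] at h1; exact absurd h1 hij'
    have hgb' : gb i * gb j ∈ scG F := by
      rcases hset with ⟨rfl, rfl⟩ | ⟨rfl, rfl⟩
      · exact scG_pm hgb
      · exact sym_i (scG_pm hgb)
    have hpair : ∀ {x y}, ((x = i ∧ y = j) ∨ (x = j ∧ y = i)) → k = x → False := by
      intro x y hxy hkx
      subst hkx
      have hyk : y ≠ k := by rcases hxy with ⟨rfl, rfl⟩ | ⟨rfl, rfl⟩; exacts [hij.symm, hij]
      have h1 : ga y * gb k ∈ scG F := by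
        have h := hcomp y
        rw [Function.update_of_ne hyk, mul_one] at h
        rcases hxy with ⟨rfl, rfl⟩ | ⟨rfl, rfl⟩
        · rwa [Equiv.swap_apply_right] at h
        · rwa [Equiv.swap_apply_left] at h
      have h3 : ga k * gb y * eG hf z ∈ scG F := by
        have h := hcomp k
        rw [Function.update_self] at h
        rcases hxy with ⟨rfl, rfl⟩ | ⟨rfl, rfl⟩
        · rwa [Equiv.swap_apply_left] at h
        · rwa [Equiv.swap_apply_right] at h
      have h4 : ga k * ga y ∈ scG F ∧ gb k * gb y ∈ scG F := by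
        rcases hxy with ⟨rfl, rfl⟩ | ⟨rfl, rfl⟩
        · exact ⟨scG_pm hga, hgb'⟩
        · exact ⟨sym_i (scG_pm hga), sym_i hgb'⟩
      have h5 : ga k * gb y ∈ scG F := by
        have e : ga k * gb y = ga k * ga y * (gb k * ga y)⁻¹ * (gb k * gb y) := by group
        rw [e]
        exact mul_mem (mul_mem h4.1 (inv_mem (sym_i h1))) h4.2
      exact hns ((Subgroup.mul_mem_cancel_left _ h5).mp h3)
    rcases eq_or_ne k i with hki | hki
    · exact hpair (Or.inl ⟨rfl, rfl⟩) hki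
    rcases eq_or_ne k j with hkj | hkj
    · exact hpair (Or.inr ⟨rfl, rfl⟩) hkj
    have h := hcomp k
    rw [Function.update_self, Equiv.swap_apply_of_ne_of_ne hki hkj] at h
    have hb' : gb k = 1 ∨ gb k = -1 := by
      rcases hset with ⟨rfl, rfl⟩ | ⟨rfl, rfl⟩
      exacts [hfb k hki hkj, hfb k hkj hki]
    exact hns ((Subgroup.mul_mem_cancel_left _ (mul_mem (scG_pm (hfa k hki hkj)) (scG_pm hb'))).mp h)
  rcases k1 with ⟨i1, z1, hz1, hn1, rfl⟩ | ⟨i1, j1, g1, hi1, hd1, hg1, hf1⟩ <;>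
    rcases k2 with ⟨i2, z2, hz2, hn2, rfl⟩ | ⟨i2, j2, g2, hi2, hd2, hg2, hf2⟩ <;>
      rcases k3 with ⟨i3, z3, hz3, hn3, rfl⟩ | ⟨i3, j3, g3, hi3, hd3, hg3, hf3⟩
  · -- three reflections
    have hC := ((slotEl_data i1 (eG hf z1)).mul (slotEl_data i2 (eG hf z2))).mul (slotEl_data i3 (eG hf z3))
    rw [h12, hc3] at hC
    have hsc := scG_of_one hC
    simp only [Equiv.Perm.mul_apply, Equiv.Perm.one_apply] at hsc
    have hns : ∀ {z}, f z z ≠ 0 → eG hf z ∉ scG F := fun hz => ctx_nonscalar (C := C) hz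
    have h123 : i1 = i2 ∧ i3 = i1 := by
      by_contra hne
      rw [not_and_or] at hne
      by_cases h12' : i1 = i2
      · subst h12'
        have h31 : i3 ≠ i1 := hne.resolve_left (fun h => h rfl)
        have h := hsc i3
        rw [Function.update_self, Function.update_of_ne h31, Function.update_of_ne h31, one_mul, one_mul] at h
        exact hns hz3 h
      · by_cases h13 : i3 = i1
        · subst h13
          have h := hsc i2
          rw [Function.update_self, Function.update_of_ne (Ne.symm h12'), Function.update_of_ne (Ne.symm h12'),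
            one_mul, mul_one] at h
          exact hns hz2 h
        · have h := hsc i1
          rw [Function.update_self, Function.update_of_ne h12', Function.update_of_ne (Ne.symm h13), mul_one,
            mul_one] at h
          exact hns hz1 h
    obtain ⟨rfl, rfl⟩ := h123
    rw [slotEl_mul] at h12
    have hA := slotEl_inj _ h12
    have hcom : eG hf z1 * eG hf z2 * (eG hf z1)⁻¹ = eG hf z2 := by
      rw [eG_inv]
      have h3 := eG_mul_self hf z3
      rw [← hA] at h3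
      calc eG hf z1 * eG hf z2 * eG hf z1
          = (eG hf z1 * eG hf z2 * (eG hf z1 * eG hf z2)) * (eG hf z2)⁻¹ := by group
        _ = eG hf z2 := by rw [h3, one_mul, eG_inv]
    rw [eG_conj hf (eG_iso hf z1)] at hcom
    have hq : f ((eG hf z1).val *ᵥ z2) ((eG hf z1).val *ᵥ z2) ≠ 0 := by rw [eG_iso hf z1]; exact hz2
    have hfix := eG_self hf hq
    rw [hcom, eG_apply hf hz2] at hfix
    obtain ⟨β, hβ⟩ : ∃ β : F, (eG hf z1).val *ᵥ z2 = β • z2 := by
      refine ⟨(2 : F)⁻¹ * (2 / f z2 z2 * f ((eG hf z1).val *ᵥ z2) z2), ?_⟩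
      rw [← smul_smul, sub_eq_iff_eq_add.mp hfix, ← two_smul F, inv_smul_smul₀ h2]
    rw [eG_apply hf hz1, sub_eq_iff_eq_add] at hβ
    by_cases hpar : f z2 z1 = 0
    · have hz12 : f z1 z2 = 0 := by rw [hf.symm, hpar]
      obtain ⟨u, h1u, h2u, hu⟩ := exists_third hf h2 hz1 hz2 hz12
      have T : Tri0 f z1 z2 u := ⟨hz1, hz2, hu, hz12, h1u, h2u⟩
      refine good_of_three hf h2 T hn1 hn2 fun hgu => hn3 ?_
      have hu3 : (eG hf z3).val *ᵥ u = u := by
        rw [← hA, Units.val_mul, ← mulVec_mulVec, eG_perp hf hz2 ((hf.symm _ _).trans h2u), mulVec_neg,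
          eG_perp hf hz1 ((hf.symm _ _).trans h1u), neg_neg]
      rw [eG_apply hf hz3, sub_eq_iff_eq_add, ← two_smul F] at hu3
      have hu' : u = ((2 : F)⁻¹ * (2 / f z3 z3 * f u z3)) • z3 := by
        rw [← smul_smul, hu3, inv_smul_smul₀ h2]
      have hc0 : (2 : F)⁻¹ * (2 / f z3 z3 * f u z3) ≠ 0 := fun h0 => hu (by rw [hu', h0, zero_smul, sym_zero_left hf])
      obtain ⟨κ, hκ⟩ : ∃ κ, κ = (2 : F)⁻¹ * (2 / f z3 z3 * f u z3) := ⟨_, rfl⟩
      rw [← hκ] at hu' hc0
      have h9 := good_smul hf (inv_ne_zero hc0) hgu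
      rwa [hu', inv_smul_smul₀ hc0] at h9
    · have hz1' : z1 = ((2 / f z1 z1 * f z2 z1)⁻¹ * (β + 1)) • z2 := by
        rw [← smul_smul, add_smul, one_smul, ← hβ,
          inv_smul_smul₀ (mul_ne_zero (div_ne_zero h2 hz1) hpar)]
      have hc0 : (2 / f z1 z1 * f z2 z1)⁻¹ * (β + 1) ≠ 0 := fun h0 => hz1 (by
        rw [hz1', h0, zero_smul, sym_zero_left hf])
      rw [hz1', eG_smul hf hc0, eG_mul_self] at hA
      exact hns hz3 (hA ▸ one_mem _)
  · exact absurd ((((slotEl_data i1 (eG hf z1)).mul (slotEl_data i2 (eG hf z2)))).perm_eq (by norm_num)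
      (h12 ▸ hd3)) fun h => hi3 (by
        have := congrFun (congrArg DFunLike.coe h) i3
        simpa using this)
  · exact absurd ((((slotEl_data i1 (eG hf z1)).mul hd2)).perm_eq (by norm_num)
      (h12 ▸ slotEl_data i3 (eG hf z3))) fun h => hi2 (by
        have := congrFun (congrArg DFunLike.coe h) i2
        simpa using this.symm)
  · exact tau hz1 hi3 hi2 hd3 hd2 rfl hg3 hg2 hf3 hf2 (by rw [← h12, mul_assoc, hc2, mul_one])
  · exact absurd (((hd1.mul (slotEl_data i2 (eG hf z2)))).perm_eq (by norm_num)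
      (h12 ▸ slotEl_data i3 (eG hf z3))) fun h => hi1 (by
        have := congrFun (congrArg DFunLike.coe h) i1
        simpa using this.symm)
  · exact tau hz2 hi1 hi3 hd1 hd3 rfl hg1 hg3 hf1 hf3 (by rw [← h12, ← mul_assoc, hc1, one_mul])
  · exact tau hz3 hi1 hi2 hd1 hd2 rfl hg1 hg2 hf1 hf2 h12
  · have h := congrArg Equiv.Perm.sign ((hd1.mul hd2).perm_eq (by norm_num) (h12 ▸ hd3))
    rw [map_mul, Equiv.Perm.sign_swap hi1, Equiv.Perm.sign_swap hi2, Equiv.Perm.sign_swap hi3] at h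
    exact absurd h (by decide)

end CfsgLib.Classical22.OPow.Three
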