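/-
The swap of two slots is not conjugate to a good signed reflection; fusion of good signed reflections.
-/
import Cfsg.Agent.Lib.Classical22.OrthPower.Three.Fusion

set_option autoImplicit false
set_option linter.unusedSectionVars false
set_option linter.unusedSimpArgs false

namespace CfsgLib.Classical22.OPow.Three

open Matrix CfsgLib.Transvec CfsgLib.Classical22.TensorMax CfsgLib.Classical22.TensorMax.SympO
open CfsgLib.Classical22.TensorMax.SpO (sym_dot sym_zero_left sym_sub_left sym_neg_left exists_singular_sym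
  sym_gram_mul_inv)
open CfsgLib.Classical22.TensorMax.OO (eA eA_mulVec eA_self sym_neg_right)
open CfsgLib.Classical22.TWMax (Idx pv emb emb_mul emb_comm slotEl slotEl_apply slotEl_val slotEl_mul slotEl_data
  TWData IsTW twData_one_unique)
open scoped MatrixGroups

variable {F : Type*} [Field F] {f : (Fin 3 → F) → (Fin 3 → F) → F}

lemma emb_mulVec_apply {T : ℕ} (i : Fin T) (X : Matrix (Fin 3) (Fin 3) F) (w : Idx T 3 → F) (y : Idx T 3) :
    (emb i X *ᵥ w) y = ∑ a, X (y i) a * w (Function.update y i a) := by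
  classical
  rw [Matrix.mulVec, dotProduct]
  refine (Finset.sum_of_injOn (fun a => Function.update y i a) ?_ ?_ ?_ ?_).symm
  · intro a _ b _ h
    simpa using congrFun h i
  · intro a _; simp
  · intro z _ hz
    simp only [emb]
    rw [if_neg fun h => hz ⟨z i, by simp, h⟩, zero_mul]
  · intro a _
    simp only [emb, Function.update_self, if_true]

lemma gram_conj (hf : Cfsg.Geo.IsSymmetricForm f) {A : GL (Fin 3) F} (hA : A ∈ isoF f) :
    A.val * (gram f)⁻¹ * A.valᵀ = (gram f)⁻¹ := by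
  have e1 : A.valᵀ * gram f * A.val = gram f := by
    ext i j
    rw [gram_cols hf]
    have h := hA (Pi.single i 1) (Pi.single j 1)
    rw [mulVec_single, mulVec_single] at h
    simp only [MulOpposite.op_one, one_smul] at h
    change f (A.val.col i) (A.val.col j) = _
    rw [h, sym_dot hf]
    simp
  have hu : IsUnit (gram f).det := Matrix.isUnit_det_of_right_inverse (sym_gram_mul_inv hf)
  have e2 : ((gram f)⁻¹ * A.valᵀ * gram f) * A.val = 1 := by
    rw [mul_assoc, mul_assoc, ← mul_assoc A.valᵀ, e1, Matrix.nonsing_inv_mul _ hu]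
  have e3 : A.val * ((gram f)⁻¹ * A.valᵀ * gram f) = 1 := mul_eq_one_comm.mp e2
  calc A.val * (gram f)⁻¹ * A.valᵀ
      = A.val * ((gram f)⁻¹ * A.valᵀ * gram f) * (gram f)⁻¹ := by
        simp only [mul_assoc, Matrix.mul_nonsing_inv _ hu, mul_one]
    _ = (gram f)⁻¹ := by rw [e3, one_mul]

variable [Fintype F]

lemma sc_one (hf : Cfsg.Geo.IsSymmetricForm f) (h2 : (2 : F) ≠ 0) {A : GL (Fin 3) F} (hsc : A ∈ scG F)
    (hA : A ∈ isoF f) (hd : A.val.det = 1) : A = 1 := by
  obtain ⟨c, hc⟩ := hsc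
  obtain ⟨v, hv⟩ := exists_good hf h2
  have h := hA v v
  rw [hc, smul_mulVec, one_mulVec, SpO.sym_quad_smul hf] at h
  have hcc : c * c = 1 := mul_right_cancel₀ hv.1 (by rw [one_mul]; exact h)
  rw [hc, det_smul, det_one, Fintype.card_fin, mul_one, pow_succ, pow_two, hcc, one_mul] at hd
  exact Units.ext (by rw [hc, hd, one_smul, Units.val_one])

variable {M : Subgroup (GL (Idx (0 + 2) 3) F)} {C : Ctx3 f M} (p : ℕ) [Fact p.Prime] [CharP F p]
  (hflag : Flags C.ctx) (hbig : ¬ Big f M)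
  (hsub : ∀ N : Subgroup (GL (Idx (0 + 1) 3) F), Ctx3 f N → (∀ g ∈ N, IsTW g) ∨ Big f N)
include hflag hbig hsub p

/-- Two slots: the swap is not a conjugate. -/
theorem swap_not_conj {x g : GL (Idx (0 + 2) 3) F} (hx : Sng C x) (hg : g ∈ M) {i j : Fin (0 + 2)}
    {gs : Fin (0 + 2) → GL (Fin 3) F} (hij : i ≠ j) (hd : TWData (g * x * g⁻¹) (Equiv.swap i j) gs)
    (hgs : ∀ l, gs l ∈ isoF f) (hpm : gs i * gs j = 1 ∨ gs i * gs j = -1) : False := by
  classical
  have hf := C.ctx.sym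
  have h2 := C.ctx.two
  obtain ⟨s, v, hv, hxe⟩ := id hx
  obtain ⟨l, hl⟩ : ∃ l : Fin (0 + 2), l ≠ s := exists_ne s
  have htwo : ∀ m : Fin (0 + 2), m = i ∨ m = j := fun m => by omega
  -- diagonal root elements go to slot elements
  have key : ∀ u w, f u u = 0 → f u w = 0 → ∃ B ∈ isoF f, B.val.det = 1 ∧
      g⁻¹ * (slotEl i (eU hf h2 u w) * slotEl j (gs j * eU hf h2 u w * (gs j)⁻¹)) * g = slotEl l B := by
    intro u w hu hw
    obtain ⟨U, hU⟩ : ∃ U, U = eU hf h2 u w := ⟨_, rfl⟩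
    rw [← hU]
    have hUp : U ^ p = 1 := hU ▸ eU_pow_char hf h2 p hu hw
    obtain ⟨D, hD⟩ : ∃ D, D = slotEl i U * slotEl j (gs j * U * (gs j)⁻¹) := ⟨_, rfl⟩
    rw [← hD]
    have hDM : D ∈ M := hD ▸ M.mul_mem (hU ▸ C.ctx.eich_mem i u w)
      (by rw [hU, conj_eU hf h2 (hgs j) hu hw]; exact C.ctx.eich_mem j _ _)
    have hDy : (g * x * g⁻¹) * D = D * (g * x * g⁻¹) := by
      refine mul_inv_eq_iff_eq_mul.mp ?_
      have e1 := hd.conj_slotEl j U
      rw [Equiv.swap_apply_right] at e1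
      have e3 := hd.conj_slotEl i (gs j * U * (gs j)⁻¹)
      rw [Equiv.swap_apply_left] at e3
      have e4 : gs i * (gs j * U * (gs j)⁻¹) * (gs i)⁻¹ = U := by
        have h := scG_comm (scG_pm hpm) U
        calc gs i * (gs j * U * (gs j)⁻¹) * (gs i)⁻¹ = gs i * gs j * U * (gs i * gs j)⁻¹ := by group
          _ = U := by rw [h, mul_inv_cancel_right]
      rw [e4] at e3
      have e5 : ∀ a b c : GL (Idx (0 + 2) 3) F, a * (b * c) * a⁻¹ = (a * b * a⁻¹) * (a * c * a⁻¹) :=
        fun a b c => by group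
      rw [hD, e5, e1, e3, slotEl_commute hij.symm]
    obtain ⟨E, hE⟩ : ∃ E, E = g⁻¹ * D * g := ⟨_, rfl⟩
    rw [← hE]
    have hEM : E ∈ M := hE ▸ M.mul_mem (M.mul_mem (M.inv_mem hg) hDM) hg
    have hEx : E * x = x * E := by
      rw [hE]
      calc g⁻¹ * D * g * x = g⁻¹ * (D * (g * x * g⁻¹)) * g := by group
        _ = g⁻¹ * ((g * x * g⁻¹) * D) * g := by rw [hDy]
        _ = x * (g⁻¹ * D * g) := by group
    have hEp : E ^ p = 1 := by
      have h1 : D ^ p = 1 := by
        rw [hD, Commute.mul_pow (slotEl_commute hij _ _), slotEl_pow, slotEl_pow, conj_pow, hUp, mul_one,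
          mul_inv_cancel, slotEl_one, slotEl_one, mul_one]
      rw [hE, show g⁻¹ * D * g = g⁻¹ * D * g⁻¹⁻¹ by rw [inv_inv], conj_pow, h1, mul_one, inv_inv, inv_mul_cancel]
    obtain ⟨σ, ks₀, hk₀⟩ := tw_cent (C := C) p hflag hbig hsub hx hEM hEx
    obtain ⟨ks, hks, hk⟩ := isoF_of_tw hf (by decide) h2 le_rfl hk₀ (C.ctx.iso E hEM)
    have hns : ¬ ∃ c : F, (eG hf v).val = c • 1 := ctx_nonscalar (C := C) hv.1
    have hσs : σ s = s := fix_of_comm (by norm_num) hk hns (by
      have h := congrArg Units.val hEx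
      rwa [hxe, Units.val_mul, Units.val_mul, slotEl_val] at h)
    have hσl : σ l = l := by
      have : σ l ≠ s := fun h => hl (σ.injective (h.trans hσs.symm))
      omega
    have hv2 : ∀ m : Fin (0 + 2), m = s ∨ m = l := fun m => by omega
    have hEeq : ∀ δ : GL (Fin 3) F, δ * δ = 1 → δ ∈ scG F →
        E = slotEl s (δ * ks s) * slotEl l (δ * ks l) := by
      intro δ hδ hδs
      obtain ⟨c, hc⟩ := hδs
      have hcc : c * c = 1 := by
        have h := congrArg Units.val hδ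
        rw [Units.val_mul, hc, Matrix.smul_mul, one_mul, smul_smul, Units.val_one] at h
        simpa using congrFun (congrFun h 0) 0
      refine TWMax.ext_pv fun xs => ?_
      rw [hk, Units.val_mul, ← mulVec_mulVec, slotEl_apply, slotEl_apply, Function.update_of_ne hl.symm]
      funext a
      simp only [pv]
      rw [← Finset.mul_prod_erase _ _ (Finset.mem_univ s), ← Finset.mul_prod_erase _ _ (Finset.mem_univ s),
        show (Finset.univ.erase s : Finset (Fin (0 + 2))) = {l} from Finset.ext fun m => by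
          simp only [Finset.mem_erase, Finset.mem_univ, and_true, Finset.mem_singleton]
          exact ⟨fun h => (hv2 m).resolve_left h, fun h => h ▸ hl⟩,
        Finset.prod_singleton, Finset.prod_singleton, hσs, hσl, Function.update_self, Function.update_of_ne hl,
        Function.update_self, Units.val_mul, Units.val_mul, hc, Matrix.smul_mul, one_mul, Matrix.smul_mul, one_mul,
        smul_mulVec, smul_mulVec, Pi.smul_apply, Pi.smul_apply, smul_eq_mul, smul_eq_mul]
      linear_combination -(((ks s).val *ᵥ xs s) (a s) * ((ks l).val *ᵥ xs l) (a l)) * hcc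
    obtain ⟨δ, hδ, hδs, hδi, hδd⟩ : ∃ δ : GL (Fin 3) F, δ * δ = 1 ∧ δ ∈ scG F ∧ δ ∈ isoF f ∧
        (δ * ks s).val.det = 1 := by
      rcases mul_self_eq_one_iff.mp (det_isoF hf (hks s)) with h | h
      · exact ⟨1, one_mul 1, one_mem _, one_mem _, by rw [one_mul, h]⟩
      · exact ⟨-1, by rw [neg_mul_neg, one_mul], scG_pm (Or.inr rfl), fun a b => by
          rw [Units.val_neg, Units.val_one, neg_mulVec, neg_mulVec, one_mulVec, one_mulVec, sym_neg_left hf,
            sym_neg_right hf, neg_neg],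
          by rw [neg_one_mul, neg_det3, h, neg_neg]⟩
    obtain ⟨A, hA⟩ : ∃ A, A = δ * ks s := ⟨_, rfl⟩
    obtain ⟨B, hB⟩ : ∃ B, B = δ * ks l := ⟨_, rfl⟩
    have hEAB : E = slotEl s A * slotEl l B := by rw [hA, hB]; exact hEeq δ hδ hδs
    have hAi : A ∈ isoF f := hA ▸ (isoF f).mul_mem hδi (hks s)
    have hBi : B ∈ isoF f := hB ▸ (isoF f).mul_mem hδi (hks l)
    have hAd : A.val.det = 1 := hA ▸ hδd
    have hBd : B.val.det = 1 := by
      have h := C.det E hEM
      rw [hEAB, Units.val_mul, det_mul, det_slotEl, det_slotEl, hAd, one_pow, one_mul] at h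
      rcases mul_self_eq_one_iff.mp (det_isoF hf hBi) with h1 | h1
      · exact h1
      · exfalso
        rw [h1, (show Odd (3 : ℕ) by decide).pow.neg_one_pow] at h
        exact h2 (by linear_combination -h)
    have hpows : A ^ p = 1 ∧ B ^ p = 1 := by
      have h := hEp
      rw [hEAB, Commute.mul_pow (slotEl_commute hl.symm _ _), slotEl_pow, slotEl_pow] at h
      have hC := (slotEl_data s (A ^ p)).mul (slotEl_data l (B ^ p))
      rw [h] at hC
      have hsc := scG_of_one hC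
      have hdp : ∀ X : GL (Fin 3) F, X.val.det = 1 → (X ^ p).val.det = 1 := fun X hX => by
        rw [Units.val_pow_eq_pow_val, det_pow, hX, one_pow]
      constructor
      · have h1 := hsc s
        simp only [Equiv.Perm.one_apply, Function.update_self, Function.update_of_ne hl.symm, mul_one] at h1
        exact sc_one hf h2 h1 ((isoF f).pow_mem hAi p) (hdp A hAd)
      · have h1 := hsc l
        simp only [Equiv.Perm.one_apply, Function.update_self, Function.update_of_ne hl, one_mul] at h1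
        exact sc_one hf h2 h1 ((isoF f).pow_mem hBi p) (hdp B hBd)
    have hAv : A.val *ᵥ v = v := by
      have h : slotEl s A * slotEl s (eG hf v) * (slotEl s A)⁻¹ = slotEl s (eG hf v) := by
        have h' := hEx
        rw [hEAB, hxe, mul_assoc, slotEl_commute hl, ← mul_assoc, ← mul_assoc] at h'
        exact mul_inv_eq_iff_eq_mul.mpr (mul_right_cancel h')
      rw [slotEl_inv, slotEl_mul, slotEl_mul, eG_conj hf hAi] at h
      have hq : f (A.val *ᵥ v) (A.val *ᵥ v) ≠ 0 := by rw [hAi]; exact hv.1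
      have hfix := eG_self hf hq
      rw [slotEl_inj s h, eG_apply hf hv.1, sub_eq_iff_eq_add, ← two_smul F] at hfix
      obtain ⟨ε, hε⟩ : ∃ ε : F, A.val *ᵥ v = ε • v :=
        ⟨(2 : F)⁻¹ * (2 / f v v * f (A.val *ᵥ v) v), by rw [← smul_smul, hfix, inv_smul_smul₀ h2]⟩
      have hεn : ∀ n : ℕ, (A ^ n).val *ᵥ v = ε ^ n • v := fun n => by
        induction n with
        | zero => simp
        | succ n ih => rw [pow_succ, Transvec.mul_mulVec, hε, mulVec_smul, ih, smul_smul, pow_succ']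
      have hv0 : v ≠ 0 := fun h => hv.1 (by rw [h, sym_zero_left hf])
      have hεp : ε ^ p = 1 := by
        have h1 := hεn p
        rw [hpows.1, Units.val_one, one_mulVec] at h1
        exact (smul_left_injective F hv0 (((one_smul F v).trans h1))).symm
      have : ε = 1 := by
        have := frobenius_inj F p (show frobenius F p ε = frobenius F p 1 by simp [frobenius_def, hεp])
        exact this
      rw [hε, this, one_smul]
    obtain ⟨w', u', T⟩ := exists_tri hf h2 hv
    refine ⟨B, hBi, hBd, ?_⟩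
    rw [hEAB, T.rot_pow_char hf h2 p hAi hAd hAv hpows.1, slotEl_one, one_mul]
  -- the invariant tensor
  obtain ⟨e, he, hee⟩ := exists_singular_sym hf h2 le_rfl
  obtain ⟨e', r, H⟩ := exists_hyp hf h2 he hee
  obtain ⟨B₁, hB₁, hd₁, he₁⟩ := key e r H.ee H.er
  obtain ⟨B₂, hB₂, hd₂, he₂⟩ := key e' r H.ee' H.e'r
  obtain ⟨W, hW⟩ : ∃ W, W = (gram f)⁻¹ * (gs j).valᵀ := ⟨_, rfl⟩
  obtain ⟨ω, hω⟩ : ∃ ω : Idx (0 + 2) 3 → F, ω = fun y => W (y i) (y j) := ⟨_, rfl⟩
  have hfixω : ∀ U ∈ isoF f, (slotEl i U * slotEl j (gs j * U * (gs j)⁻¹)).val *ᵥ ω = ω := by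
    intro U hU
    have hUW : U.val * W * (gs j * U * (gs j)⁻¹).valᵀ = W := by
      rw [hW, Units.val_mul, Units.val_mul, transpose_mul, transpose_mul]
      have e9 : (gs j).valᵀ * (gs j)⁻¹.valᵀ = 1 := by rw [← transpose_mul, Units.inv_mul, transpose_one]
      calc U.val * ((gram f)⁻¹ * (gs j).valᵀ) * ((gs j)⁻¹.valᵀ * (U.valᵀ * (gs j).valᵀ))
          = U.val * (gram f)⁻¹ * ((gs j).valᵀ * (gs j)⁻¹.valᵀ) * U.valᵀ * (gs j).valᵀ := by simp only [mul_assoc]
        _ = _ := by rw [e9, mul_one, gram_conj hf hU]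
    funext y
    rw [Units.val_mul, ← mulVec_mulVec, slotEl_val, slotEl_val, emb_mulVec_apply]
    simp only [emb_mulVec_apply, hω, Function.update_self, Function.update_of_ne hij, Function.update_of_ne hij.symm]
    conv_rhs => rw [← hUW]
    simp only [Matrix.mul_apply, Finset.sum_mul, transpose_apply, Finset.mul_sum]
    rw [Finset.sum_comm]
    exact Finset.sum_congr rfl fun b _ => Finset.sum_congr rfl fun a _ => by ring
  obtain ⟨z, hz⟩ : ∃ z, z = g⁻¹.val *ᵥ ω := ⟨_, rfl⟩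
  have hzfix : ∀ U ∈ isoF f, ∀ B, g⁻¹ * (slotEl i U * slotEl j (gs j * U * (gs j)⁻¹)) * g = slotEl l B →
      (slotEl l B).val *ᵥ z = z := fun U hU B h => by
    rw [← h, Units.val_mul, ← mulVec_mulVec, hz, Transvec.mulVec_inv_cancel, Units.val_mul, ← mulVec_mulVec,
      hfixω U hU]
  have hω0 : ω ≠ 0 := by
    intro h0
    have hW0 : W = 0 := by
      ext a b
      have h := congrFun h0 (Function.update (fun _ => a) j b)
      rw [hω] at h
      simpa [Function.update_of_ne hij] using h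
    have hu : IsUnit (gram f).det := Matrix.isUnit_det_of_right_inverse (sym_gram_mul_inv hf)
    have h3 := congrArg (fun X => gram f * X * (gs j)⁻¹.valᵀ) hW0
    simp only [hW, mul_zero, zero_mul, ← mul_assoc, Matrix.mul_nonsing_inv _ hu, one_mul] at h3
    rw [← transpose_mul, Units.inv_mul, transpose_one] at h3
    exact one_ne_zero h3
  have hz0 : z ≠ 0 := fun h => hω0 (by
    rw [← Transvec.mulVec_inv_cancel g ω, ← hz, h, mulVec_zero])
  obtain ⟨y, hy⟩ := Function.ne_iff.mp hz0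
  obtain ⟨c, hc⟩ : ∃ c : Fin 3 → F, c = fun a => z (Function.update y l a) := ⟨_, rfl⟩
  have hc0 : c ≠ 0 := fun h => hy (by
    have h1 := congrFun h (y l)
    rw [hc] at h1
    simp only at h1
    rwa [Function.update_eq_self] at h1)
  have hBc : ∀ U ∈ isoF f, ∀ B, g⁻¹ * (slotEl i U * slotEl j (gs j * U * (gs j)⁻¹)) * g = slotEl l B →
      B.val *ᵥ c = c := fun U hU B h => by
    funext a
    have h1 := congrFun (hzfix U hU B h) (Function.update y l a)
    rw [slotEl_val, emb_mulVec_apply] at h1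
    simp only [Function.update_self, Function.update_idem] at h1
    simpa [hc, Matrix.mulVec, dotProduct] using h1
  have hcom := commute_of_fixed hf h2 hc0 hB₁ hd₁ (hBc _ (eU_iso hf h2 _ _) _ he₁) hB₂ hd₂
    (hBc _ (eU_iso hf h2 _ _) _ he₂)
  obtain ⟨U₁, hU₁⟩ : ∃ U, U = eU hf h2 e r := ⟨_, rfl⟩
  obtain ⟨U₂, hU₂⟩ : ∃ U, U = eU hf h2 e' r := ⟨_, rfl⟩
  rw [← hU₁] at he₁
  rw [← hU₂] at he₂
  have hE : slotEl l B₁ * slotEl l B₂ = slotEl l B₂ * slotEl l B₁ := by rw [slotEl_mul, slotEl_mul, hcom]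
  rw [← he₁, ← he₂] at hE
  obtain ⟨D₁, hD₁⟩ : ∃ D, D = slotEl i U₁ * slotEl j (gs j * U₁ * (gs j)⁻¹) := ⟨_, rfl⟩
  obtain ⟨D₂, hD₂⟩ : ∃ D, D = slotEl i U₂ * slotEl j (gs j * U₂ * (gs j)⁻¹) := ⟨_, rfl⟩
  rw [← hD₁, ← hD₂] at hE
  have hDD : D₁ * D₂ = D₂ * D₁ := by
    have h := congrArg (fun X => g * X * g⁻¹) hE
    simpa [mul_assoc] using h
  obtain ⟨g1, hg1, hd1⟩ : ∃ ks : Fin (0 + 2) → GL (Fin 3) F, ks i = U₁ ∧ TWData D₁ 1 ks := by
    have h := (slotEl_data i U₁).mul (slotEl_data j (gs j * U₁ * (gs j)⁻¹))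
    rw [mul_one, ← hD₁] at h
    refine ⟨_, ?_, h⟩
    simp [Function.update_of_ne hij]
  obtain ⟨g2, hg2, hd2⟩ : ∃ ks : Fin (0 + 2) → GL (Fin 3) F, ks i = U₂ ∧ TWData D₂ 1 ks := by
    have h := (slotEl_data i U₂).mul (slotEl_data j (gs j * U₂ * (gs j)⁻¹))
    rw [mul_one, ← hD₂] at h
    refine ⟨_, ?_, h⟩
    simp [Function.update_of_ne hij]
  have hC := (hd1.mul hd2).mul (hd2.mul hd1).inv
  rw [hDD, mul_inv_cancel] at hC
  have hsc := scG_of_one hC i
  simp only [Equiv.Perm.coe_mul, Function.comp_apply, inv_one, mul_one, Equiv.Perm.one_apply, hg1, hg2] at hsc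
  have hi1 : U₁ ∈ isoF f := hU₁ ▸ eU_iso hf h2 _ _
  have hi2 : U₂ ∈ isoF f := hU₂ ▸ eU_iso hf h2 _ _
  have hK := sc_one hf h2 hsc ((isoF f).mul_mem ((isoF f).mul_mem hi1 hi2) ((isoF f).inv_mem ((isoF f).mul_mem hi2 hi1)))
    (det_isoSq hf ((isoSq f).mul_mem ((isoSq f).mul_mem (hU₁ ▸ eU_mem hf h2 _ _) (hU₂ ▸ eU_mem hf h2 _ _))
      ((isoSq f).inv_mem ((isoSq f).mul_mem (hU₂ ▸ eU_mem hf h2 _ _) (hU₁ ▸ eU_mem hf h2 _ _)))))
  rw [mul_inv_eq_one] at hK
  have h1 := congrArg (fun X : GL (Fin 3) F => f (X.val *ᵥ e) r) hK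
  simp only [Units.val_mul, ← mulVec_mulVec, hU₁, hU₂, eU_val hf h2 H.ee H.er, eU_val hf h2 H.ee' H.e'r,
    eA_self hf H.ee H.er] at h1
  simp only [eA_mulVec hf, sym_sub_left hf, hf.bilinear.add_left, hf.bilinear.smul_left, hf.symm e' e, H.ee,
    H.ee', H.pair, H.er, H.e'r, hf.symm r e, hf.symm r e'] at h1
  have hr := H.rr
  refine mul_ne_zero hr hr ?_
  field_simp at h1
  exact (mul_eq_zero.mp (show (2 : F) * (f r r * f r r) = 0 by linear_combination -h1)).resolve_left h2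

end CfsgLib.Classical22.OPow.Three

namespace CfsgLib.Classical22.OPow.Three

open Matrix
open CfsgLib.Classical22.TWMax (Idx slotEl TWData IsTW)
open scoped MatrixGroups

variable {F : Type*} [Field F] [Fintype F] {f : (Fin 3 → F) → (Fin 3 → F) → F} {t : ℕ}
  {M : Subgroup (GL (Idx (t + 2) 3) F)} {C : Ctx3 f M} (p : ℕ) [Fact p.Prime] [CharP F p]
  (hflag : Flags C.ctx) (hbig : ¬ Big f M)
  (hsub : ∀ N : Subgroup (GL (Idx (t + 1) 3) F), Ctx3 f N → (∀ g ∈ N, IsTW g) ∨ Big f N)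
include hflag hbig hsub p

/-- An element conjugating a good signed reflection into a tensor wreath element is one. -/
theorem fusion {x g : GL (Idx (t + 2) 3) F} (hx : Sng C x) (hg : g ∈ M) (htw : IsTW (g * x * g⁻¹)) : IsTW g := by
  classical
  have hf := C.ctx.sym
  have h2 := C.ctx.two
  obtain ⟨y, hy⟩ : ∃ y, y = g * x * g⁻¹ := ⟨_, rfl⟩
  have hyM : y ∈ M := hy ▸ M.mul_mem (M.mul_mem hg hx.mem) (M.inv_mem hg)
  have hyy : y * y = 1 := by
    rw [hy]
    calc _ = g * (x * x) * g⁻¹ := by group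
      _ = 1 := by rw [hx.sq]; group
  obtain ⟨s, v, hv, hxe⟩ := id hx
  rcases conj_shape hf h2 (hy ▸ htw) (C.ctx.iso y hyM) hyy hv.1 (s := s) (by rw [hy, hxe, fx_conj]) with
    ⟨i, z, -, he⟩ | ⟨i, j, gs, hij, hd, hgs, hpm, hsc⟩
  · obtain ⟨l, hl⟩ : ∃ l : Fin (t + 2), l ≠ i := exists_ne i
    refine tw_of_slot_fixed (C := C) p hflag hbig hsub hx hg htw (l := l) fun B => ?_
    rw [← hy, he]; exact slotEl_commute hl.symm _ _
  rcases Nat.eq_zero_or_pos t with rfl | ht
  · exact (swap_not_conj (C := C) p hflag hbig hsub hx hg hij (hy ▸ hd) hgs hpm).elim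
  obtain ⟨l, hli, hlj⟩ : ∃ l : Fin (t + 2), l ≠ i ∧ l ≠ j := by
    by_contra hc
    push Not at hc
    have hsub' : (Finset.univ : Finset (Fin (t + 2))) ⊆ {i, j} := fun l _ => by
      by_cases h : l = i
      · simp [h]
      · simp [hc l h]
    have h := (Finset.card_le_card hsub').trans Finset.card_le_two
    rw [Finset.card_univ, Fintype.card_fin] at h
    omega
  refine tw_of_slot_fixed (C := C) p hflag hbig hsub hx hg htw (l := l) fun B => ?_
  rw [← hy]
  have e := hd.conj_slotEl l B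
  rw [Equiv.swap_apply_of_ne_of_ne hli hlj, scG_comm (scG_pm (hsc l hli hlj)), mul_inv_cancel_right] at e
  exact mul_inv_eq_iff_eq_mul.mp e

end CfsgLib.Classical22.OPow.Three
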