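/-
Slot dimension three: a group containing the stabiliser is big or consists of tensor wreath elements.
-/
import Cfsg.Agent.Lib.Classical22.OrthPower.Three.Pair
import Cfsg.Agent.Lib.Classical22.OrthPower.Five
import Cfsg.Agent.Lib.Invol.ZStarFinal
import Cfsg.Agent.Lib.Solvable.Generation

set_option autoImplicit false
set_option linter.unusedSectionVars false
set_option linter.unusedSimpArgs false

namespace CfsgLib.Classical22.OPow.Three

open Matrix CfsgLib.Transvec CfsgLib.Classical22.TensorMax CfsgLib.Classical22.TensorMax.SympO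
open CfsgLib.Classical22.TensorMax.SpO (sym_zero_left)
open CfsgLib.Classical22.TWMax (Idx slotEl slotEl_val slotEl_mul slotEl_data TWData IsTW)
open scoped MatrixGroups

section Dihedral

variable {G : Type*} [Group G] {a y : G}

lemma pow_conj_left (ha : a * a = 1) (hy : y * y = 1) (n : ℕ) : a * (a * y) ^ n * a = ((a * y) ^ n)⁻¹ := by
  have h1 : a * (a * y) * a⁻¹ = (a * y)⁻¹ := by
    rw [_root_.mul_inv_rev, inv_eq_of_mul_eq_one_right ha, inv_eq_of_mul_eq_one_right hy, ← mul_assoc, ha, one_mul]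
  calc a * (a * y) ^ n * a = a * (a * y) ^ n * a⁻¹ := by rw [inv_eq_of_mul_eq_one_right ha]
    _ = (a * (a * y) * a⁻¹) ^ n := conj_pow.symm
    _ = ((a * y) ^ n)⁻¹ := by rw [h1, inv_pow]

/-- Two involutions: conjugate, or centralised by an involution in their group. -/
theorem dihedral_cases [Finite G] (ha : a * a = 1) (hy : y * y = 1) :
    (∃ c : G, c * a * c⁻¹ = y ∧ ∀ z, Commute z a → Commute z y → Commute z c) ∨
    ∃ w : G, w ≠ 1 ∧ w * w = 1 ∧ Commute w a ∧ Commute w y ∧ (∀ z, Commute z a → Commute z y → Commute z w) ∧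
      ∃ c : G, (∀ z, Commute z a → Commute z y → Commute z c) ∧ (a * w = c * a * c⁻¹ ∨ a * w = c * y * c⁻¹) := by
  obtain ⟨n, hn⟩ : ∃ n, n = orderOf (a * y) := ⟨_, rfl⟩
  have hn0 : 0 < n := hn ▸ orderOf_pos _
  have hord : (a * y) ^ n = 1 := hn ▸ pow_orderOf_eq_one _
  have hz : ∀ j, ∀ z, Commute z a → Commute z y → Commute z ((a * y) ^ j) := fun j z h1 h2 =>
    (h1.mul_right h2).pow_right j
  have hflip : ∀ j, a * (a * y) ^ j = ((a * y) ^ j)⁻¹ * a := fun j => by
    rw [← pow_conj_left ha hy j, mul_assoc, ha, mul_one]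
  rcases Nat.even_or_odd n with ⟨m, hm⟩ | ⟨m, hm⟩
  · right
    have hww : (a * y) ^ m * (a * y) ^ m = 1 := by rw [← pow_add, ← hm, hord]
    have hwinv : ((a * y) ^ m)⁻¹ = (a * y) ^ m := inv_eq_of_mul_eq_one_right hww
    have hwa : Commute ((a * y) ^ m) a := by
      have h := hflip m
      rw [hwinv] at h
      exact h.symm
    have hwy : Commute ((a * y) ^ m) y := by
      have h : Commute ((a * y) ^ m) (a * (a * y)) := hwa.mul_right (Commute.pow_self _ _)
      rwa [← mul_assoc, ha, one_mul] at h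
    refine ⟨(a * y) ^ m, fun h => ?_, hww, hwa, hwy, hz m, ?_⟩
    · exact pow_ne_one_of_lt_orderOf (by omega) (by omega) h
    rcases Nat.even_or_odd m with ⟨r, hr⟩ | ⟨r, hr⟩
    · refine ⟨((a * y) ^ r)⁻¹, fun z h1 h2 => (hz r z h1 h2).inv_right, Or.inl ?_⟩
      rw [inv_inv, hr, pow_add, ← mul_assoc, hflip]
    · refine ⟨((a * y) ^ r)⁻¹, fun z h1 h2 => (hz r z h1 h2).inv_right, Or.inr ?_⟩
      rw [inv_inv, hr, show 2 * r + 1 = r + (1 + r) by ring, pow_add, pow_add, pow_one, ← mul_assoc, hflip,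
        mul_assoc ((a * y) ^ r)⁻¹ a, ← mul_assoc a (a * y), ← mul_assoc a a y, ha, one_mul, mul_assoc]
  · left
    refine ⟨((a * y) ^ (m + 1))⁻¹, ?_, fun z h1 h2 => (hz _ z h1 h2).inv_right⟩
    rw [inv_inv, ← hflip, mul_assoc, ← pow_add, show m + 1 + (m + 1) = n + 1 by omega, pow_succ, hord, one_mul,
      ← mul_assoc, ha, one_mul]

end Dihedral

variable {F : Type*} [Field F] [Fintype F] {f : (Fin 3 → F) → (Fin 3 → F) → F} {t : ℕ}
  {M : Subgroup (GL (Idx (t + 2) 3) F)}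

/-- Two good signed reflections in different slots. -/
def Dbl (C : Ctx3 f M) (x : GL (Idx (t + 2) 3) F) : Prop :=
  ∃ s l v z, s ≠ l ∧ Good f v ∧ Good f z ∧ x = slotEl s (eG C.ctx.sym v) * slotEl l (eG C.ctx.sym z)

variable {C : Ctx3 f M}

lemma eG_ne_one {z : Fin 3 → F} (hz : f z z ≠ 0) : eG C.ctx.sym z ≠ 1 := fun h =>
  ctx_nonscalar (C := C) hz (h ▸ one_mem _)

lemma eG_det {z : Fin 3 → F} (hz : f z z ≠ 0) : (eG C.ctx.sym z).val.det = 1 := det_eG C.ctx.sym (by decide) hz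

lemma det_mul_one {A B : GL (Fin 3) F} (hA : A.val.det = 1) (hB : B.val.det = 1) : (A * B).val.det = 1 := by
  rw [Units.val_mul, det_mul, hA, hB, one_mul]

lemma eG_eq_of_sc {v z : Fin 3 → F} (hv : f v v ≠ 0) (hz : f z z ≠ 0)
    (h : eG C.ctx.sym v * eG C.ctx.sym z ∈ scG F) : eG C.ctx.sym v = eG C.ctx.sym z := by
  have h1 := sc_one C.ctx.sym C.ctx.two h ((isoF f).mul_mem (eG_iso _ v) (eG_iso _ z))
    (det_mul_one (eG_det (C := C) hv) (eG_det (C := C) hz))
  have h3 := eq_inv_of_mul_eq_one_left h1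
  rwa [eG_inv] at h3

/-- The product of two commuting good signed reflections of one slot. -/
lemma eG_pair {v z : Fin 3 → F} (hv : Good f v) (hz : Good f z) (hne : eG C.ctx.sym v ≠ eG C.ctx.sym z)
    (hc : eG C.ctx.sym v * eG C.ctx.sym z = eG C.ctx.sym z * eG C.ctx.sym v) :
    ∃ u, Good f u ∧ eG C.ctx.sym v * eG C.ctx.sym z = eG C.ctx.sym u := by
  have hf := C.ctx.sym
  have h2 := C.ctx.two
  have hcom : eG hf ((eG hf v).val *ᵥ z) = eG hf z := by
    rw [← eG_conj hf (eG_iso hf v), hc, mul_inv_cancel_right]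
  have hq : f ((eG hf v).val *ᵥ z) ((eG hf v).val *ᵥ z) ≠ 0 := by rw [eG_iso hf v]; exact hz.1
  have hfix := eG_self hf hq
  rw [hcom, eG_apply hf hz.1] at hfix
  obtain ⟨β, hβ⟩ : ∃ β : F, (eG hf v).val *ᵥ z = β • z := by
    refine ⟨(2 : F)⁻¹ * (2 / f z z * f ((eG hf v).val *ᵥ z) z), ?_⟩
    rw [← smul_smul, sub_eq_iff_eq_add.mp hfix, ← two_smul F, inv_smul_smul₀ h2]
  by_cases hp : f z v = 0
  · have hvz : f v z = 0 := by rw [hf.symm, hp]
    obtain ⟨u, h1, h3, hu⟩ := exists_third hf h2 hv.1 hz.1 hvz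
    have hgu := good_third hf hv hz hvz h1 h3 hu
    refine ⟨u, hgu, Units.ext ((Tri.mk hv hz hgu hvz h1 h3).ext hf ?_ ?_ ?_)⟩ <;>
      simp only [Units.val_mul, ← mulVec_mulVec, eG_self hf hv.1, eG_self hf hz.1, eG_self hf hu,
        eG_perp hf hu h1, eG_perp hf hu h3, eG_perp hf hz.1 hvz, eG_perp hf hz.1 ((hf.symm _ _).trans h3),
        eG_perp hf hv.1 ((hf.symm _ _).trans hvz), eG_perp hf hv.1 ((hf.symm _ _).trans h1), mulVec_neg, neg_neg]
  · exfalso
    rw [eG_apply hf hv.1, sub_eq_iff_eq_add] at hβ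
    have hv' : v = ((2 / f v v * f z v)⁻¹ * (β + 1)) • z := by
      rw [← smul_smul, add_smul, one_smul, ← hβ, inv_smul_smul₀ (mul_ne_zero (div_ne_zero h2 hv.1) hp)]
    have hc0 : (2 / f v v * f z v)⁻¹ * (β + 1) ≠ 0 := fun h0 => hv.1 (by rw [hv', h0, zero_smul, sym_zero_left hf])
    exact hne (by rw [hv', eG_smul hf hc0])

/-- The product of two commuting good signed reflections. -/
lemma pair_cases {a b : GL (Idx (t + 2) 3) F} (ha : Sng C a) (hb : Sng C b) (hne : a ≠ b) (hc : a * b = b * a) :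
    Sng C (a * b) ∨ Dbl C (a * b) := by
  obtain ⟨s, v, hv, rfl⟩ := ha
  obtain ⟨l, z, hz, rfl⟩ := hb
  by_cases hsl : s = l
  · subst hsl
    rw [slotEl_mul, slotEl_mul] at hc
    obtain ⟨u, hu, he⟩ := eG_pair (C := C) hv hz (fun h => hne (by rw [h])) (slotEl_inj s hc)
    exact Or.inl ⟨s, u, hu, by rw [slotEl_mul, he]⟩
  · exact Or.inr ⟨s, l, v, z, hsl, hv, hz, rfl⟩

lemma Dbl.mem {x : GL (Idx (t + 2) 3) F} (h : Dbl C x) : x ∈ M := by
  obtain ⟨s, l, v, z, -, hv, hz, rfl⟩ := h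
  exact M.mul_mem (C.good s v hv) (C.good l z hz)

lemma Dbl.sq {x : GL (Idx (t + 2) 3) F} (h : Dbl C x) : x * x = 1 := by
  obtain ⟨s, l, v, z, hsl, hv, hz, rfl⟩ := h
  calc _ = slotEl s (eG C.ctx.sym v) * (slotEl l (eG C.ctx.sym z) * slotEl s (eG C.ctx.sym v)) *
        slotEl l (eG C.ctx.sym z) := by group
    _ = slotEl s (eG C.ctx.sym v) * (slotEl s (eG C.ctx.sym v) * slotEl l (eG C.ctx.sym z)) *
        slotEl l (eG C.ctx.sym z) := by rw [slotEl_commute (Ne.symm hsl)]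
    _ = (slotEl s (eG C.ctx.sym v) * slotEl s (eG C.ctx.sym v)) *
        (slotEl l (eG C.ctx.sym z) * slotEl l (eG C.ctx.sym z)) := by group
    _ = 1 := by rw [slotEl_mul, slotEl_mul, eG_mul_self, eG_mul_self, slotEl_one, slotEl_one, one_mul]

lemma Dbl.tw {x : GL (Idx (t + 2) 3) F} (h : Dbl C x) : IsTW x := by
  obtain ⟨s, l, v, z, -, -, -, rfl⟩ := h
  exact ⟨_, _, (slotEl_data _ _).mul (slotEl_data _ _)⟩

lemma isTW_inv {g : GL (Idx (t + 2) 3) F} (h : IsTW g) : IsTW g⁻¹ := (twGroup F (t + 2) 3).inv_mem h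

lemma isTW_mul {g h : GL (Idx (t + 2) 3) F} (hg : IsTW g) (hh : IsTW h) : IsTW (g * h) :=
  (twGroup F (t + 2) 3).mul_mem hg hh

/-- The components of a relation between slot elements. -/
lemma comp_four {i j k l : Fin (t + 2)} {A B D E : GL (Fin 3) F}
    (h : slotEl i A * slotEl j B * slotEl k D * slotEl l E = 1) (m : Fin (t + 2)) :
    Function.update (fun _ => (1 : GL (Fin 3) F)) i A m * Function.update (fun _ => (1 : GL (Fin 3) F)) j B m *
      Function.update (fun _ => (1 : GL (Fin 3) F)) k D m * Function.update (fun _ => (1 : GL (Fin 3) F)) l E m ∈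
      scG F := by
  have hC := (((slotEl_data i A).mul (slotEl_data j B)).mul (slotEl_data k D)).mul (slotEl_data l E)
  rw [h] at hC
  exact scG_of_one hC m

lemma Dbl.not_sng {x : GL (Idx (t + 2) 3) F} (h : Dbl C x) : ¬ Sng C x := by
  obtain ⟨s, l, v, z, hsl, hv, hz, rfl⟩ := h
  rintro ⟨i, u, hu, he⟩
  have h1 : slotEl s (eG C.ctx.sym v) * slotEl l (eG C.ctx.sym z) * slotEl i (eG C.ctx.sym u) *
      slotEl i (1 : GL (Fin 3) F) = 1 := by
    rw [he, slotEl_one, mul_one, slotEl_mul, eG_mul_self, slotEl_one]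
  obtain ⟨m, hmi, hm⟩ : ∃ m, m ≠ i ∧ (m = s ∨ m = l) := by
    by_cases hs : s = i
    · exact ⟨l, fun h => hsl (hs.trans h.symm), Or.inr rfl⟩
    · exact ⟨s, hs, Or.inl rfl⟩
  have h3 := comp_four h1 m
  rw [Function.update_of_ne hmi, Function.update_of_ne hmi, mul_one, mul_one] at h3
  rcases hm with rfl | rfl
  · rw [Function.update_self, Function.update_of_ne hsl, mul_one] at h3
    exact ctx_nonscalar (C := C) hv.1 h3
  · rw [Function.update_self, Function.update_of_ne (Ne.symm hsl), one_mul] at h3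
    exact ctx_nonscalar (C := C) hz.1 h3

variable (p : ℕ) [Fact p.Prime] [CharP F p] (hflag : Flags C.ctx) (hbig : ¬ Big f M)
  (hsub : ∀ N : Subgroup (GL (Idx (t + 1) 3) F), Ctx3 f N → (∀ g ∈ N, IsTW g) ∨ Big f N)
include hflag hbig hsub p

/-- A conjugate of a good signed reflection among the tensor wreath elements is one. -/
lemma sng_of_tw {x g : GL (Idx (t + 2) 3) F} (hx : Sng C x) (hg : g ∈ M) (h : IsTW (g * x * g⁻¹)) :
    Sng C (g * x * g⁻¹) := hx.conj hg (fusion (C := C) p hflag hbig hsub hx hg h)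

/-- The centraliser of two good signed reflections in different slots. -/
theorem cent_dbl {x k : GL (Idx (t + 2) 3) F} (hx : Dbl C x) (hk : k ∈ M) (hkx : k * x = x * k) : IsTW k := by
  classical
  haveI : Finite (GL (Idx (t + 2) 3) F) := finite_GL
  have hf := C.ctx.sym
  have h2 := C.ctx.two
  have hxM := hx.mem
  have hxx := hx.sq
  have hxtw := hx.tw
  obtain ⟨s, l, v, z, hsl, hv, hz, hxe⟩ := id hx
  obtain ⟨a, hadef⟩ : ∃ a, a = slotEl s (eG hf v) := ⟨_, rfl⟩
  obtain ⟨b, hbdef⟩ : ∃ b, b = slotEl l (eG hf z) := ⟨_, rfl⟩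
  have ha : Sng C a := ⟨s, v, hv, hadef⟩
  have hb : Sng C b := ⟨l, z, hz, hbdef⟩
  have hab : x = a * b := by rw [hadef, hbdef, hxe]
  have hcab : a * b = b * a := by rw [hadef, hbdef, slotEl_commute hsl]
  have hax : a * x = b := by rw [hab, ← mul_assoc, ha.sq, one_mul]
  have hxa : x * a = b := by rw [hab, hcab, mul_assoc, ha.sq, mul_one]
  -- conjugates of `a` under tensor wreath elements of the centraliser
  have himg : ∀ h ∈ M, h * x = x * h → IsTW h → h * a * h⁻¹ = a ∨ h * a * h⁻¹ = b := by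
    intro h hh hhx htw
    obtain ⟨σ, gs₀, hd₀⟩ := htw
    obtain ⟨gs, hgs, hd⟩ := isoF_of_tw hf (by decide) h2 le_rfl hd₀ (C.ctx.iso h hh)
    obtain ⟨i, hi⟩ := σ.surjective s
    obtain ⟨j, hj⟩ := σ.surjective l
    have hij : i ≠ j := fun e => hsl (by rw [← hi, ← hj, e])
    have e1 : h * a * h⁻¹ = slotEl i (eG hf ((gs i).val *ᵥ v)) := by
      rw [hadef, ← hi, hd.conj_slotEl i, eG_conj hf (hgs i)]
    have e2 : h * b * h⁻¹ = slotEl j (eG hf ((gs j).val *ᵥ z)) := by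
      rw [hbdef, ← hj, hd.conj_slotEl j, eG_conj hf (hgs j)]
    have hqi : f ((gs i).val *ᵥ v) ((gs i).val *ᵥ v) ≠ 0 := by rw [hgs i]; exact hv.1
    have h4 : slotEl i (eG hf ((gs i).val *ᵥ v)) * slotEl j (eG hf ((gs j).val *ᵥ z)) * slotEl s (eG hf v) *
        slotEl l (eG hf z) = 1 := by
      rw [← e1, ← e2, ← hadef, ← hbdef, show h * a * h⁻¹ * (h * b * h⁻¹) = h * (a * b) * h⁻¹ by group, ← hab, hhx,
        mul_inv_cancel_right, mul_assoc, ← hab, hxx]
    have h5 := comp_four h4 i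
    rw [Function.update_self, Function.update_of_ne hij, mul_one] at h5
    by_cases his : i = s
    · left
      rw [his] at h5 hij hqi e1
      rw [Function.update_self, Function.update_of_ne hsl, mul_one] at h5
      rw [e1, hadef, eG_eq_of_sc (C := C) hqi hv.1 h5]
    · rw [Function.update_of_ne his, mul_one] at h5
      by_cases hil : i = l
      · right
        rw [hil] at h5 hqi e1
        rw [Function.update_self] at h5
        rw [e1, hbdef, eG_eq_of_sc (C := C) hqi hz.1 h5]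
      · rw [Function.update_of_ne hil, mul_one] at h5
        exact absurd h5 (ctx_nonscalar (C := C) hqi)
  -- the centraliser and its quotient
  obtain ⟨K, hK⟩ : ∃ K : Subgroup (GL (Idx (t + 2) 3) F), ∀ g, g ∈ K ↔ g ∈ M ∧ g * x = x * g :=
    ⟨M ⊓ Subgroup.centralizer {x}, fun g => by rw [Subgroup.mem_inf, Subgroup.mem_centralizer_singleton_iff]⟩
  have hxK : x ∈ K := (hK x).mpr ⟨hxM, rfl⟩
  have haK : a ∈ K := (hK a).mpr ⟨ha.mem, by rw [hax, hxa]⟩
  obtain ⟨Z, hZ⟩ : ∃ Z : Subgroup K, ∀ g : K, g ∈ Z ↔ g.1 = 1 ∨ g.1 = x := by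
    refine ⟨{ carrier := {g | g.1 = 1 ∨ g.1 = x}, one_mem' := Or.inl rfl, mul_mem' := ?_, inv_mem' := ?_ },
      fun g => Iff.rfl⟩
    · rintro g g' (h | h) (h' | h') <;>
        simp only [Set.mem_setOf_eq, Subgroup.coe_mul, h, h', hxx, one_mul, mul_one, true_or, or_true]
    · rintro g (h | h) <;>
        simp only [Set.mem_setOf_eq, Subgroup.coe_inv, h, inv_one, inv_eq_of_mul_eq_one_right hxx, true_or, or_true]
  haveI : Z.Normal := ⟨fun n hn g => by
    rcases (hZ n).mp hn with h | h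
    · exact (hZ _).mpr (Or.inl (by simp [h]))
    · refine (hZ _).mpr (Or.inr ?_)
      rw [Subgroup.coe_mul, Subgroup.coe_mul, Subgroup.coe_inv, h, ((hK g.1).mp g.2).2, mul_inv_cancel_right]⟩
  have hmk : ∀ g g' : K, (g : K ⧸ Z) = (g' : K ⧸ Z) ↔ g'.1 = g.1 ∨ g'.1 = g.1 * x := fun g g' => by
    rw [QuotientGroup.eq, hZ, Subgroup.coe_mul, Subgroup.coe_inv, inv_mul_eq_one, inv_mul_eq_iff_eq_mul]
    exact or_congr eq_comm Iff.rfl
  have hconj : ∀ g : K, ∀ c : GL (Idx (t + 2) 3) F, Sng C c →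
      (g.1 * c * g.1⁻¹ = c ∨ g.1 * c * g.1⁻¹ = c * x) → IsTW g.1 := by
    intro g c hc h
    refine fusion (C := C) p hflag hbig hsub hc ((hK _).mp g.2).1 ?_
    rcases h with h | h <;> rw [h]
    exacts [hc.tw, isTW_mul hc.tw hxtw]
  -- isolation
  have hiso : Cfsg.IsIsolatedInvolution ((⟨a, haK⟩ : K) : K ⧸ Z) := by
    refine ⟨orderOf_eq_prime ?_ ?_, ?_⟩
    · rw [← QuotientGroup.mk_pow, QuotientGroup.eq_one_iff, hZ]
      exact Or.inl (by rw [SubmonoidClass.coe_pow, pow_two]; exact ha.sq)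
    · rw [Ne, QuotientGroup.eq_one_iff, hZ]
      rintro (h | h)
      · exact ha.ne_one h
      · exact hb.ne_one (by
          simp only at h
          rw [← hax, ← h, ha.sq])
    · intro gq hcomm
      induction gq using QuotientGroup.induction_on with
      | _ g =>
        rw [← QuotientGroup.mk_inv, ← QuotientGroup.mk_mul, ← QuotientGroup.mk_mul] at hcomm ⊢
        rw [commute_iff_eq, ← QuotientGroup.mk_mul, ← QuotientGroup.mk_mul, hmk] at hcomm
        simp only [Subgroup.coe_mul, Subgroup.coe_inv] at hcomm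
        obtain ⟨y, hy⟩ : ∃ y, y = g.1 * a * g.1⁻¹ := ⟨_, rfl⟩
        rw [← hy] at hcomm
        obtain ⟨hgM, hgx⟩ := (hK _).mp g.2
        have hyM : y ∈ M := hy ▸ M.mul_mem (M.mul_mem hgM ha.mem) (M.inv_mem hgM)
        have hyy : y * y = 1 := by
          rw [hy]
          calc _ = g.1 * (a * a) * g.1⁻¹ := by group
            _ = 1 := by rw [ha.sq]; group
        have hyx : x * y = y * x := by
          rw [hy]
          have hgi : g.1⁻¹ * x = x * g.1⁻¹ := by
            rw [inv_mul_eq_iff_eq_mul, ← mul_assoc, hgx, mul_inv_cancel_right]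
          calc x * (g.1 * a * g.1⁻¹) = x * g.1 * a * g.1⁻¹ := by group
            _ = g.1 * (x * a) * g.1⁻¹ := by rw [← hgx]; group
            _ = g.1 * a * (x * g.1⁻¹) := by rw [hxa, ← hax]; group
            _ = g.1 * a * g.1⁻¹ * x := by rw [← hgi]; group
        have hytw : IsTW y := by
          rcases hcomm with h | h
          · exact tw_cent (C := C) p hflag hbig hsub ha hyM h
          · refine fusion (C := C) p hflag hbig hsub ha hyM ?_
            have : y * a * y⁻¹ = b := by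
              rw [h, mul_assoc a y x, ← hyx, ← mul_assoc, hax, mul_inv_cancel_right]
            rw [this]; exact hb.tw
        have hgtw : IsTW g.1 := fusion (C := C) p hflag hbig hsub ha hgM (hy ▸ hytw)
        rw [hmk]
        simp only [Subgroup.coe_mul, Subgroup.coe_inv, ← hy]
        rcases himg g.1 hgM hgx hgtw with h | h <;> rw [← hy] at h <;> rw [h]
        · exact Or.inl rfl
        · exact Or.inr hxa.symm |>.elim (fun e => Or.inl e) (fun e => Or.inr (by rw [hab, hcab, ← mul_assoc, hb.sq, one_mul]))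
  -- tensor wreath elements in the quotient
  obtain ⟨HQ, hHQ⟩ : ∃ HQ : Subgroup (K ⧸ Z), HQ = ((twGroup F (t + 2) 3).subgroupOf K).map (QuotientGroup.mk' Z) :=
    ⟨_, rfl⟩
  have hmemHQ : ∀ g : K, (g : K ⧸ Z) ∈ HQ → IsTW g.1 := by
    intro g hg
    rw [hHQ, Subgroup.mem_map] at hg
    obtain ⟨g', hg', he⟩ := hg
    rcases (hmk g' g).mp he with h | h <;> rw [h]
    exacts [hg', isTW_mul hg' hxtw]
  have hcentQ : ∀ c : GL (Idx (t + 2) 3) F, Sng C c → ∀ hc : c ∈ K, ∀ gq : K ⧸ Z,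
      gq * ((⟨c, hc⟩ : K) : K ⧸ Z) = ((⟨c, hc⟩ : K) : K ⧸ Z) * gq → gq ∈ HQ := by
    intro c hcs hc gq h
    induction gq using QuotientGroup.induction_on with
    | _ g =>
      rw [hHQ]
      refine Subgroup.mem_map.mpr ⟨g, ?_, rfl⟩
      rw [← QuotientGroup.mk_mul, ← QuotientGroup.mk_mul, hmk] at h
      simp only [Subgroup.coe_mul] at h
      obtain ⟨hgM, hgx⟩ := (hK _).mp g.2
      change IsTW g.1
      have hgi : g.1⁻¹ ∈ K := K.inv_mem g.2
      rcases h with h | h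
      · exact tw_cent (C := C) p hflag hbig hsub hcs hgM h.symm
      · have h' : (⟨g.1⁻¹, hgi⟩ : K).1 * c * (⟨g.1⁻¹, hgi⟩ : K).1⁻¹ = c * x := by
          change g.1⁻¹ * c * g.1⁻¹⁻¹ = c * x
          rw [inv_inv, mul_assoc, h]
          group
        exact inv_inv g.1 ▸ isTW_inv (hconj ⟨_, hgi⟩ c hcs (Or.inr h'))
  obtain ⟨O, hO⟩ : ∃ O : Subgroup (K ⧸ Z), O = Cfsg.oddCore (K ⧸ Z) := ⟨_, rfl⟩
  have hOodd : Odd (Nat.card O) := hO ▸ CfsgLib.Cores.odd_card_oddCore
  haveI hOn : O.Normal := hO ▸ Cfsg.pPrimeCore_normal 2 _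
  -- the four group of the slot
  obtain ⟨w, u, T⟩ := exists_tri hf h2 hv
  obtain ⟨c, hcdef⟩ : ∃ c, c = slotEl s (eG hf w) := ⟨_, rfl⟩
  have hcs : Sng C c := ⟨s, w, T.hw, hcdef⟩
  have hprod : eG hf v * eG hf w = eG hf u ∧ eG hf w * eG hf v = eG hf u := by
    constructor <;>
    · refine Units.ext (T.ext hf ?_ ?_ ?_) <;>
        simp only [Units.val_mul, ← mulVec_mulVec, eG_self hf T.hv.1, eG_self hf T.hw.1, eG_self hf T.hu.1,
          eG_perp hf T.hu.1 T.vu, eG_perp hf T.hu.1 T.wu, eG_perp hf T.hw.1 T.vw,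
          eG_perp hf T.hw.1 ((hf.symm _ _).trans T.wu), eG_perp hf T.hv.1 ((hf.symm _ _).trans T.vw),
          eG_perp hf T.hv.1 ((hf.symm _ _).trans T.vu), mulVec_neg, neg_neg]
  have hacc : a * c = c * a := by rw [hadef, hcdef, slotEl_mul, slotEl_mul, hprod.1, hprod.2]
  have hcc : c * b = b * c := by rw [hcdef, hbdef, slotEl_commute hsl]
  have hcK : c ∈ K := (hK c).mpr ⟨hcs.mem, by rw [hab, ← mul_assoc, ← hacc, mul_assoc, hcc, mul_assoc]⟩
  have hacs : Sng C (a * c) := ⟨s, u, T.hu, by rw [hadef, hcdef, slotEl_mul, hprod.1]⟩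
  obtain ⟨A, hA⟩ : ∃ A : Subgroup (K ⧸ Z), A = Subgroup.closure
      {((⟨a, haK⟩ : K) : K ⧸ Z), ((⟨c, hcK⟩ : K) : K ⧸ Z)} := ⟨_, rfl⟩
  obtain ⟨P, hP⟩ : ∃ P, P = ((⟨a, haK⟩ : K) : K ⧸ Z) := ⟨_, rfl⟩
  obtain ⟨R, hR⟩ : ∃ R, R = ((⟨c, hcK⟩ : K) : K ⧸ Z) := ⟨_, rfl⟩
  rw [← hP, ← hR] at hA
  have hPP : P * P = 1 := by
    rw [hP, ← QuotientGroup.mk_mul, QuotientGroup.eq_one_iff, hZ]; exact Or.inl ha.sq
  have hRR : R * R = 1 := by
    rw [hR, ← QuotientGroup.mk_mul, QuotientGroup.eq_one_iff, hZ]; exact Or.inl hcs.sq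
  have hPR : P * R = R * P := by
    rw [hP, hR, ← QuotientGroup.mk_mul, ← QuotientGroup.mk_mul]
    exact congrArg _ (Subtype.ext hacc)
  have hAmem : ∀ e ∈ A, e = 1 ∨ e = P ∨ e = R ∨ e = P * R := by
    intro e he
    rw [hA] at he
    induction he using Subgroup.closure_induction with
    | mem e he => rcases he with rfl | rfl <;> simp
    | one => exact Or.inl rfl
    | mul e e' _ _ he he' =>
      have t1 : P * (P * R) = R := by rw [← mul_assoc, hPP, one_mul]
      have t2 : R * (P * R) = P := by rw [hPR, ← mul_assoc, hRR, one_mul]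
      have t3 : P * R * P = R := by rw [hPR, mul_assoc, hPP, mul_one]
      have t4 : P * R * R = P := by rw [mul_assoc, hRR, mul_one]
      have t5 : P * R * (P * R) = 1 := by rw [mul_assoc, t2, hPP]
      rcases he with rfl | rfl | rfl | rfl <;> rcases he' with rfl | rfl | rfl | rfl <;>
        simp [hPP, hRR, ← hPR, t1, t2, t3, t4, t5]
    | inv e _ he =>
      have hi : (P * R)⁻¹ = P * R := by
        rw [_root_.mul_inv_rev, inv_eq_of_mul_eq_one_right hPP, inv_eq_of_mul_eq_one_right hRR, hPR]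
      rcases he with rfl | rfl | rfl | rfl <;>
        simp [inv_eq_of_mul_eq_one_right hPP, inv_eq_of_mul_eq_one_right hRR, hi]
  have hsq : ∀ e ∈ A, e * e = 1 := by
    intro e he
    rcases hAmem e he with rfl | rfl | rfl | rfl
    · exact one_mul 1
    · exact hPP
    · exact hRR
    · calc P * R * (P * R) = P * (R * P) * R := by group
        _ = 1 := by rw [← hPR, ← mul_assoc P P R, hPP, one_mul, hRR]
  have hAc : ∀ e ∈ A, ∀ e' ∈ A, e * e' = e' * e := fun e he e' he' => by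
    calc e * e' = (e * e')⁻¹ := (inv_eq_of_mul_eq_one_right (hsq _ (A.mul_mem he he'))).symm
      _ = e'⁻¹ * e⁻¹ := _root_.mul_inv_rev e e'
      _ = e' * e := by rw [inv_eq_of_mul_eq_one_right (hsq _ he), inv_eq_of_mul_eq_one_right (hsq _ he')]
  have hPA : P ∈ A := hA ▸ Subgroup.subset_closure (Or.inl rfl)
  have hRA : R ∈ A := hA ▸ Subgroup.subset_closure (Or.inr rfl)
  have hP1 : P ≠ 1 := hP ▸ fun h => by
    have h3 := hiso.1
    rw [h, orderOf_one] at h3
    omega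
  have hR1 : R ≠ 1 := by
    rw [hR, Ne, QuotientGroup.eq_one_iff, hZ]
    rintro (h | h)
    · exact hcs.ne_one h
    · exact Dbl.not_sng hx (h ▸ hcs)
  have hPR1 : P ≠ R := by
    rw [hP, hR, Ne, hmk]
    rintro (h | h)
    · exact hacs.ne_one (by simp only at h; rw [h, ha.sq])
    · refine Dbl.not_sng hx ?_
      simp only at h
      have : a * c = x := by rw [h, ← mul_assoc, ha.sq, one_mul]
      exact this ▸ hacs
  have hnc : ¬ IsCyclic A := by
    rintro ⟨g, hg⟩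
    have hpow : ∀ e : A, e = 1 ∨ e = g := fun e => by
      obtain ⟨n, rfl⟩ := Subgroup.mem_zpowers_iff.mp (hg e)
      rcases Int.even_or_odd n with ⟨m, rfl⟩ | ⟨m, rfl⟩
      · exact Or.inl (by rw [_root_.zpow_add, ← (Commute.refl g).mul_zpow, show g * g = 1 from Subtype.ext (hsq _ g.2), _root_.one_zpow])
      · exact Or.inr (by rw [_root_.zpow_add_one, two_mul, _root_.zpow_add, ← (Commute.refl g).mul_zpow,
          show g * g = 1 from Subtype.ext (hsq _ g.2), _root_.one_zpow, one_mul])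
    rcases hpow ⟨P, hPA⟩ with h | h
    · exact hP1 (congrArg Subtype.val h)
    rcases hpow ⟨R, hRA⟩ with h' | h'
    · exact hR1 (congrArg Subtype.val h')
    exact hPR1 (congrArg Subtype.val (h.trans h'.symm))
  have hcop : (Nat.card A).Coprime (Nat.card O) := by
    haveI : Fact (Nat.Prime 2) := ⟨Nat.prime_two⟩
    have hp2 : IsPGroup 2 A := fun g => ⟨1, by rw [pow_one, pow_two]; exact Subtype.ext (hsq _ g.2)⟩
    obtain ⟨n, hn⟩ := hp2.exists_card_eq
    rw [hn]
    exact (Nat.coprime_two_left.mpr hOodd).pow_left n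
  have hOle : O ≤ HQ := by
    rw [← CfsgLib.Solvable.iSup_centralizer_eq hAc hnc (Subgroup.normalizer_eq_top O ▸ le_top) hcop]
    refine iSup₂_le fun e he q hq => ?_
    have hqe := Subgroup.mem_centralizer_singleton_iff.mp hq.2
    rcases hAmem e he.1 with rfl | rfl | rfl | rfl
    · exact absurd rfl he.2
    · exact hcentQ a ha haK q (hP ▸ hqe)
    · exact hcentQ c hcs hcK q (hR ▸ hqe)
    · refine hcentQ (a * c) hacs (K.mul_mem haK hcK) q ?_
      have : P * R = ((⟨a * c, K.mul_mem haK hcK⟩ : K) : K ⧸ Z) := by rw [hP, hR, ← QuotientGroup.mk_mul]; rfl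
      rwa [← this]
  -- conclusion
  obtain ⟨g, hg⟩ : ∃ g : K ⧸ Z, g = ((⟨k, (hK k).mpr ⟨hk, hkx⟩⟩ : K) : K ⧸ Z) := ⟨_, rfl⟩
  refine hmemHQ ⟨k, (hK k).mpr ⟨hk, hkx⟩⟩ (hg ▸ ?_)
  have hzs := CfsgLib.Invol.zstar hiso g
  rw [← hP, ← hO] at hzs
  obtain ⟨o, ho⟩ : ∃ o, o = P * g * P⁻¹ * g⁻¹ := ⟨_, rfl⟩
  rw [← ho] at hzs
  have hPinv : P⁻¹ = P := inv_eq_of_mul_eq_one_right hPP
  have hgP : g * P * g⁻¹ = P * o := by
    rw [ho, hPinv]
    calc g * P * g⁻¹ = (P * P) * (g * P * g⁻¹) := by rw [hPP, one_mul]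
      _ = P * (P * g * P * g⁻¹) := by group
  have hoP : P * o * P = o⁻¹ := by
    refine eq_inv_of_mul_eq_one_left ?_
    calc P * o * P * o = (g * P * g⁻¹) * (g * P * g⁻¹) := by rw [hgP]; group
      _ = g * (P * P) * g⁻¹ := by group
      _ = 1 := by rw [hPP]; group
  obtain ⟨m, hm⟩ := hOodd
  have hon : o ^ (2 * m + 1) = 1 := by
    rw [← hm]
    exact congrArg Subtype.val (pow_card_eq_one' (x := (⟨o, hzs⟩ : O)))
  obtain ⟨d, hd⟩ : ∃ d, d = (o ^ (m + 1))⁻¹ := ⟨_, rfl⟩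
  have hdO : d ∈ O := hd ▸ O.inv_mem (O.pow_mem hzs _)
  have hPd : P * o ^ (m + 1) * P = (o ^ (m + 1))⁻¹ := by
    calc P * o ^ (m + 1) * P = P * o ^ (m + 1) * P⁻¹ := by rw [hPinv]
      _ = (P * o * P⁻¹) ^ (m + 1) := conj_pow.symm
      _ = _ := by rw [hPinv, hoP, inv_pow]
  have hdP : d * P * d⁻¹ = g * P * g⁻¹ := by
    rw [hd, inv_inv, ← hPd, hgP]
    calc P * o ^ (m + 1) * P * P * o ^ (m + 1) = P * o ^ (m + 1) * (P * P) * o ^ (m + 1) := by group
      _ = P * (o ^ (m + 1) * o ^ (m + 1)) := by rw [hPP, mul_one, mul_assoc]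
      _ = P * o := by rw [← pow_add, show m + 1 + (m + 1) = 2 * m + 1 + 1 by ring, pow_succ, hon, one_mul]
  have hc : d⁻¹ * g ∈ HQ := by
    refine hcentQ a ha haK _ ?_
    rw [← hP]
    calc d⁻¹ * g * P = d⁻¹ * (g * P * g⁻¹) * g := by group
      _ = d⁻¹ * (d * P * d⁻¹) * g := by rw [hdP]
      _ = P * (d⁻¹ * g) := by group
  rw [show g = d * (d⁻¹ * g) by group]
  exact mul_mem (hOle hdO) hc

/-- The centraliser of three good signed reflections in different slots. -/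
theorem cent_triple {s i j : Fin (t + 2)} {v z z' : Fin 3 → F} (hv : Good f v) (hz : Good f z) (hz' : Good f z')
    (hsi : s ≠ i) (hsj : s ≠ j) (hij : i ≠ j) {k : GL (Idx (t + 2) 3) F} (hk : k ∈ M)
    (hkx : Commute k (slotEl s (eG C.ctx.sym v) * slotEl i (eG C.ctx.sym z) * slotEl j (eG C.ctx.sym z'))) :
    IsTW k := by
  classical
  haveI : Finite (GL (Idx (t + 2) 3) F) := finite_GL
  have hf := C.ctx.sym
  have h2 := C.ctx.two
  obtain ⟨w, u₀, T⟩ := exists_tri hf h2 hv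
  obtain ⟨a, hadef⟩ : ∃ a, a = slotEl s (eG hf v) := ⟨_, rfl⟩
  obtain ⟨a2, ha2def⟩ : ∃ a, a = slotEl s (eG hf w) := ⟨_, rfl⟩
  obtain ⟨b, hbdef⟩ : ∃ b, b = slotEl i (eG hf z) := ⟨_, rfl⟩
  obtain ⟨c, hcdef⟩ : ∃ c, c = slotEl j (eG hf z') := ⟨_, rfl⟩
  obtain ⟨Z, hZ⟩ : ∃ Z, Z = a * b * c := ⟨_, rfl⟩
  have hkZ : Commute k Z := by rw [hZ, hadef, hbdef, hcdef]; exact hkx
  have ha : Sng C a := ⟨s, v, hv, hadef⟩
  have ha2 : Sng C a2 := ⟨s, w, T.hw, ha2def⟩
  have hac : a * a2 = a2 * a := by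
    rw [hadef, ha2def, slotEl_mul, slotEl_mul]
    congr 1
    refine Units.ext (T.ext hf ?_ ?_ ?_) <;>
      simp only [Units.val_mul, ← mulVec_mulVec, eG_self hf T.hv.1, eG_self hf T.hw.1, eG_perp hf T.hw.1 T.vw,
        eG_perp hf T.hw.1 ((hf.symm _ _).trans T.wu), eG_perp hf T.hv.1 ((hf.symm _ _).trans T.vw),
        eG_perp hf T.hv.1 ((hf.symm _ _).trans T.vu), mulVec_neg, neg_neg]
  have cZa : Commute Z a := by
    rw [hZ, hbdef, hcdef, hadef]
    exact ((Commute.refl _).mul_left (slotEl_commute (Ne.symm hsi) _ _)).mul_left (slotEl_commute (Ne.symm hsj) _ _)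
  have cZa2 : Commute Z a2 := by
    rw [hZ, hbdef, hcdef, ha2def]
    exact ((show Commute a (slotEl s (eG hf w)) from ha2def ▸ hac).mul_left
      (slotEl_commute (Ne.symm hsi) _ _)).mul_left (slotEl_commute (Ne.symm hsj) _ _)
  obtain ⟨u, hu⟩ : ∃ u, u = k * a2 * k⁻¹ := ⟨_, rfl⟩
  have huM : u ∈ M := hu ▸ M.mul_mem (M.mul_mem hk ha2.mem) (M.inv_mem hk)
  have huu : u * u = 1 := by
    rw [hu]
    calc _ = k * (a2 * a2) * k⁻¹ := by group
      _ = 1 := by rw [ha2.sq]; group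
  have cZu : Commute Z u := hu ▸ (hkZ.symm.mul_right cZa2).mul_right hkZ.symm.inv_right
  suffices hutw : IsTW u from fusion (C := C) p hflag hbig hsub ha2 hk (hu ▸ hutw)
  -- work inside the group
  haveI : Finite M := inferInstance
  rcases dihedral_cases (a := (⟨a, ha.mem⟩ : M)) (y := ⟨u, huM⟩) (Subtype.ext ha.sq) (Subtype.ext huu) with
    ⟨d, hd, hdz⟩ | ⟨w0, hw1, hww, hwa, hwu, -, d, -, hd⟩
  · -- `a` and `a2` are not conjugate in the centraliser
    exfalso
    have hd' : d.1 * a * d.1⁻¹ = u := congrArg Subtype.val hd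
    have hdZ : Commute d.1 Z := by
      have hZM : Z ∈ M := hZ ▸ M.mul_mem (M.mul_mem ha.mem (hbdef ▸ C.good i z hz)) (hcdef ▸ C.good j z' hz')
      have h1 := hdz ⟨Z, hZM⟩ (Subtype.ext cZa.eq) (Subtype.ext cZu.eq)
      exact (congrArg Subtype.val h1.eq).symm
    obtain ⟨h, hh⟩ : ∃ h, h = k⁻¹ * d.1 := ⟨_, rfl⟩
    have hhM : h ∈ M := hh ▸ M.mul_mem (M.inv_mem hk) d.2
    have hha : h * a * h⁻¹ = a2 := by
      rw [hh, show k⁻¹ * d.1 * a * (k⁻¹ * d.1)⁻¹ = k⁻¹ * (d.1 * a * d.1⁻¹) * k by group, hd', hu]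
      group
    have hhtw : IsTW h := fusion (C := C) p hflag hbig hsub ha hhM (hha.symm ▸ ha2.tw)
    have hhZ : Commute h Z := hh ▸ hkZ.inv_left.mul_left hdZ
    obtain ⟨σ, gs₀, hd₀⟩ := hhtw
    obtain ⟨gs, hgs, hdg⟩ := isoF_of_tw hf (by decide) h2 le_rfl hd₀ (C.ctx.iso h hhM)
    obtain ⟨i', hi'⟩ := σ.surjective i
    obtain ⟨j', hj'⟩ := σ.surjective j
    obtain ⟨s', hs'⟩ := σ.surjective s
    have hs's : s' = s := by
      by_contra hne
      have e : h * a * h⁻¹ = slotEl s' (eG hf ((gs s').val *ᵥ v)) := by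
        rw [hadef, ← hs', hdg.conj_slotEl s', eG_conj hf (hgs s')]
      rw [hha, ha2def] at e
      have h4 : slotEl s (eG hf w) * slotEl s' (eG hf ((gs s').val *ᵥ v)) * slotEl s (1 : GL (Fin 3) F) *
          slotEl s (1 : GL (Fin 3) F) = 1 := by
        rw [slotEl_one, mul_one, mul_one, ← e, slotEl_mul, eG_mul_self, slotEl_one]
      have h5 := comp_four h4 s
      rw [Function.update_self, Function.update_of_ne (Ne.symm hne), Function.update_self, mul_one, mul_one,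
        mul_one] at h5
      exact ctx_nonscalar (C := C) T.hw.1 h5
    have hi's : i' ≠ s := fun e => hsi (by rw [← hs', hs's, ← hi', e])
    have hj's : j' ≠ s := fun e => hsj (by rw [← hs', hs's, ← hj', e])
    have eb : h * b * h⁻¹ = slotEl i' (eG hf ((gs i').val *ᵥ z)) := by
      rw [hbdef, ← hi', hdg.conj_slotEl i', eG_conj hf (hgs i')]
    have ec : h * c * h⁻¹ = slotEl j' (eG hf ((gs j').val *ᵥ z')) := by
      rw [hcdef, ← hj', hdg.conj_slotEl j', eG_conj hf (hgs j')]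
    have h6 : a2 * slotEl i' (eG hf ((gs i').val *ᵥ z)) * slotEl j' (eG hf ((gs j').val *ᵥ z')) = a * b * c := by
      rw [← hha, ← eb, ← ec, ← hZ]
      calc h * a * h⁻¹ * (h * b * h⁻¹) * (h * c * h⁻¹) = h * (a * b * c) * h⁻¹ := by group
        _ = Z := by rw [← hZ, hhZ.eq, mul_inv_cancel_right]
    have hC := (((slotEl_data s (eG hf w)).mul (slotEl_data i' (eG hf ((gs i').val *ᵥ z)))).mul
      (slotEl_data j' (eG hf ((gs j').val *ᵥ z')))).mul
      (((slotEl_data s (eG hf v)).mul (slotEl_data i (eG hf z))).mul (slotEl_data j (eG hf z')))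
    rw [← ha2def, h6, ← hadef, ← hbdef, ← hcdef, ← hZ] at hC
    have cab : Commute a b := hadef ▸ hbdef ▸ slotEl_commute hsi _ _
    have cabc : Commute (a * b) c := Commute.mul_left (hadef ▸ hcdef ▸ slotEl_commute hsj _ _)
      (hbdef ▸ hcdef ▸ slotEl_commute hij _ _)
    have hb2 : b * b = 1 := by rw [hbdef, slotEl_mul, eG_mul_self, slotEl_one]
    have hc2 : c * c = 1 := by rw [hcdef, slotEl_mul, eG_mul_self, slotEl_one]
    have hZZ : Z * Z = 1 := by
      rw [hZ, ← pow_two, cabc.mul_pow, cab.mul_pow, pow_two, pow_two, pow_two, ha.sq, hb2, hc2, one_mul, one_mul]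
    rw [hZZ] at hC
    have h5 := scG_of_one hC s
    simp only [one_mul, inv_one, Equiv.Perm.coe_mul, Function.comp_apply, Equiv.Perm.one_apply, Function.update_self,
      Function.update_of_ne hi's.symm, Function.update_of_ne hj's.symm, Function.update_of_ne hsi,
      Function.update_of_ne hsj, mul_one, eG_inv] at h5
    have he := eG_eq_of_sc (C := C) T.hw.1 hv.1 h5
    have h7 := congrArg (fun A : GL (Fin 3) F => A.val *ᵥ v) he
    simp only [eG_perp hf T.hw.1 T.vw, eG_self hf hv.1] at h7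
    have h8 : (2 : F) • v = 0 := by rw [two_smul]; nth_rw 1 [← h7]; exact neg_add_cancel v
    rcases smul_eq_zero.mp h8 with h9 | h9
    · exact h2 h9
    · exact hv.1 (by rw [h9, sym_zero_left hf])
  · obtain ⟨b0, hb0⟩ : ∃ b0, b0 = a * w0.1 := ⟨_, rfl⟩
    have hb0M : b0 ∈ M := hb0 ▸ M.mul_mem ha.mem w0.2
    have hb0c : b0 * a = a * b0 := by
      have : w0.1 * a = a * w0.1 := congrArg Subtype.val hwa.eq
      rw [hb0, mul_assoc, this]
    have hb0tw : IsTW b0 := tw_cent (C := C) p hflag hbig hsub ha hb0M hb0c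
    have hb0s : Sng C b0 := by
      rcases hd with hd | hd <;> have hd' := congrArg Subtype.val hd <;>
        simp only [Subgroup.coe_mul, Subgroup.coe_inv, ← hb0] at hd'
      · rw [hd'] at hb0tw ⊢
        exact sng_of_tw (C := C) p hflag hbig hsub ha d.2 hb0tw
      · have e : b0 = d.1 * k * a2 * (d.1 * k)⁻¹ := by rw [hd', hu]; group
        rw [e] at hb0tw ⊢
        exact sng_of_tw (C := C) p hflag hbig hsub ha2 (M.mul_mem d.2 hk) hb0tw
    have hw0 : w0.1 = a * b0 := by rw [hb0, ← mul_assoc, ha.sq, one_mul]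
    have hne : a ≠ b0 := fun h => hw1 (Subtype.ext (by
      change w0.1 = 1; rw [hw0, ← h, ha.sq]))
    have huw : u * w0.1 = w0.1 * u := (congrArg Subtype.val hwu.eq).symm
    rw [hw0] at huw
    rcases pair_cases ha hb0s hne hb0c.symm with h | h
    · exact tw_cent (C := C) p hflag hbig hsub h huM huw
    · exact cent_dbl p hflag hbig hsub h huM huw

/-- Everything is a tensor wreath element. -/
theorem main {g : GL (Idx (t + 2) 3) F} (hg : g ∈ M) : IsTW g := by
  classical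
  haveI : Finite (GL (Idx (t + 2) 3) F) := finite_GL
  haveI : Finite M := inferInstance
  have hf := C.ctx.sym
  have h2 := C.ctx.two
  obtain ⟨v, hv⟩ := exists_good hf h2
  obtain ⟨w, u, T⟩ := exists_tri hf h2 hv
  obtain ⟨l, hl⟩ : ∃ l : Fin (t + 2), l ≠ 0 := exists_ne 0
  suffices hconj : ∀ x, Dbl C x → IsTW (g * x * g⁻¹) by
    have h1 := hconj _ ⟨0, l, v, v, hl.symm, hv, hv, rfl⟩
    have h3 := hconj _ ⟨0, l, w, v, hl.symm, T.hw, hv, rfl⟩
    refine fusion (C := C) p hflag hbig hsub (x := slotEl 0 (eG hf u)) ⟨0, u, T.hu, rfl⟩ hg ?_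
    have e : slotEl (0 : Fin (t + 2)) (eG hf u) = (slotEl 0 (eG hf v) * slotEl l (eG hf v)) *
        (slotEl 0 (eG hf w) * slotEl l (eG hf v)) := by
      rw [mul_assoc, ← mul_assoc (slotEl l _), slotEl_commute hl, mul_assoc (slotEl 0 (eG hf w)), slotEl_mul l,
        eG_mul_self, slotEl_one, mul_one, slotEl_mul]
      congr 1
      refine Units.ext (T.ext hf ?_ ?_ ?_) <;>
        simp only [Units.val_mul, ← mulVec_mulVec, eG_self hf T.hv.1, eG_self hf T.hw.1, eG_self hf T.hu.1,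
          eG_perp hf T.hu.1 T.vu, eG_perp hf T.hu.1 T.wu, eG_perp hf T.hw.1 T.vw,
          eG_perp hf T.hw.1 ((hf.symm _ _).trans T.wu), eG_perp hf T.hv.1 ((hf.symm _ _).trans T.vw),
          eG_perp hf T.hv.1 ((hf.symm _ _).trans T.vu), mulVec_neg, neg_neg]
    rw [e]
    have e2 : ∀ A B : GL (Idx (t + 2) 3) F, g * (A * B) * g⁻¹ = (g * A * g⁻¹) * (g * B * g⁻¹) := fun A B => by group
    rw [e2]
    exact isTW_mul h1 h3
  intro x hx
  obtain ⟨y, hy⟩ : ∃ y, y = g * x * g⁻¹ := ⟨_, rfl⟩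
  rw [← hy]
  have hyM : y ∈ M := hy ▸ M.mul_mem (M.mul_mem hg hx.mem) (M.inv_mem hg)
  have hyy : y * y = 1 := by
    rw [hy]
    calc _ = g * (x * x) * g⁻¹ := by group
      _ = 1 := by rw [hx.sq]; group
  obtain ⟨a, hadef⟩ : ∃ a, a = slotEl (0 : Fin (t + 2)) (eG hf v) := ⟨_, rfl⟩
  have ha : Sng C a := ⟨0, v, hv, hadef⟩
  rcases dihedral_cases (a := (⟨a, ha.mem⟩ : M)) (y := ⟨y, hyM⟩) (Subtype.ext ha.sq) (Subtype.ext hyy) with
    ⟨d, hd, -⟩ | ⟨z0, hz1, -, hza, hzy, -, d, -, hd⟩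
  · exfalso
    have hd' : d.1 * a * d.1⁻¹ = y := congrArg Subtype.val hd
    have e : x = (g⁻¹ * d.1) * a * (g⁻¹ * d.1)⁻¹ := by
      rw [show (g⁻¹ * d.1) * a * (g⁻¹ * d.1)⁻¹ = g⁻¹ * (d.1 * a * d.1⁻¹) * g by group, hd', hy]; group
    have h1 := sng_of_tw (C := C) p hflag hbig hsub ha (M.mul_mem (M.inv_mem hg) d.2) (e ▸ hx.tw)
    rw [← e] at h1
    exact hx.not_sng h1
  obtain ⟨b0, hb0⟩ : ∃ b0, b0 = a * z0.1 := ⟨_, rfl⟩
  have hb0M : b0 ∈ M := hb0 ▸ M.mul_mem ha.mem z0.2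
  have hb0c : b0 * a = a * b0 := by
    have : z0.1 * a = a * z0.1 := congrArg Subtype.val hza.eq
    rw [hb0, mul_assoc, this]
  have hb0tw : IsTW b0 := tw_cent (C := C) p hflag hbig hsub ha hb0M hb0c
  have hz0 : z0.1 = a * b0 := by rw [hb0, ← mul_assoc, ha.sq, one_mul]
  have hyz : y * z0.1 = z0.1 * y := (congrArg Subtype.val hzy.eq).symm
  rw [hz0] at hyz
  rcases hd with hd | hd <;> have hd' := congrArg Subtype.val hd <;>
    simp only [Subgroup.coe_mul, Subgroup.coe_inv, ← hb0] at hd'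
  · have hb0s : Sng C b0 := by
      rw [hd'] at hb0tw ⊢
      exact sng_of_tw (C := C) p hflag hbig hsub ha d.2 hb0tw
    have hne : a ≠ b0 := fun h => hz1 (Subtype.ext (by change z0.1 = 1; rw [hz0, ← h, ha.sq]))
    rcases pair_cases ha hb0s hne hb0c.symm with h | h
    · exact tw_cent (C := C) p hflag hbig hsub h hyM hyz
    · exact cent_dbl p hflag hbig hsub h hyM hyz
  obtain ⟨e, he⟩ : ∃ e, e = d.1 * g := ⟨_, rfl⟩
  have heM : e ∈ M := he ▸ M.mul_mem d.2 hg
  have hb0e : b0 = e * x * e⁻¹ := by rw [hd', hy, he]; group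
  have hetw : IsTW e := by
    have hc : (e⁻¹ * a * e) * x = x * (e⁻¹ * a * e) := by
      calc e⁻¹ * a * e * x = e⁻¹ * (a * (e * x * e⁻¹)) * e := by group
        _ = e⁻¹ * ((e * x * e⁻¹) * a) * e := by rw [← hb0e, hb0c]
        _ = x * (e⁻¹ * a * e) := by group
    have h1 := cent_dbl p hflag hbig hsub hx (M.mul_mem (M.mul_mem (M.inv_mem heM) ha.mem) heM) hc
    exact inv_inv e ▸ isTW_inv (fusion (C := C) p hflag hbig hsub ha (M.inv_mem heM) (by rwa [inv_inv]))
  obtain ⟨s, r, z, z', hsr, hz, hz', hxe⟩ := id hx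
  obtain ⟨i, z₁, hz₁, hbe⟩ := (Sng.conj (C := C) (x := slotEl s (eG hf z)) ⟨s, z, hz, rfl⟩ heM hetw)
  obtain ⟨j, z₂, hz₂, hce⟩ := (Sng.conj (C := C) (x := slotEl r (eG hf z')) ⟨r, z', hz', rfl⟩ heM hetw)
  have hij : i ≠ j := by
    obtain ⟨σ, gs₀, hd₀⟩ := hetw
    obtain ⟨gs, hgs, hdg⟩ := isoF_of_tw hf (by decide) h2 le_rfl hd₀ (C.ctx.iso e heM)
    obtain ⟨i', hi'⟩ := σ.surjective s
    obtain ⟨j', hj'⟩ := σ.surjective r
    intro hij
    have hns : ∀ {m n : Fin (t + 2)} {q q' : Fin 3 → F}, f q q ≠ 0 →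
        slotEl m (eG hf q) = slotEl n (eG hf q') → m = n := fun {m n q q'} hq hmn => by
      by_contra hne
      have h4 : slotEl m (eG hf q) * slotEl n (eG hf q') * slotEl m (1 : GL (Fin 3) F) *
          slotEl m (1 : GL (Fin 3) F) = 1 := by
        rw [slotEl_one, mul_one, mul_one, ← hmn, slotEl_mul, eG_mul_self, slotEl_one]
      have h5 := comp_four h4 m
      rw [Function.update_self, Function.update_of_ne hne, Function.update_self, mul_one, mul_one, mul_one] at h5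
      exact ctx_nonscalar (C := C) hq h5
    have e1 : e * slotEl s (eG hf z) * e⁻¹ = slotEl i' (eG hf ((gs i').val *ᵥ z)) := by
      rw [← hi', hdg.conj_slotEl i', eG_conj hf (hgs i')]
    have e3 : e * slotEl r (eG hf z') * e⁻¹ = slotEl j' (eG hf ((gs j').val *ᵥ z')) := by
      rw [← hj', hdg.conj_slotEl j', eG_conj hf (hgs j')]
    have a1 := hns hz₁.1 (hbe.symm.trans e1)
    have a2 := hns hz₂.1 (hce.symm.trans e3)
    exact hsr (by rw [← hi', ← hj', ← a1, ← a2, hij])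
  have hb0' : b0 = slotEl i (eG hf z₁) * slotEl j (eG hf z₂) := by
    rw [← hbe, ← hce, hb0e, hxe]; group
  by_cases h0i : (0 : Fin (t + 2)) = i ∨ (0 : Fin (t + 2)) = j
  · have hsame : ∀ {m n : Fin (t + 2)} {q q' : Fin 3 → F}, m ≠ n → Good f q → Good f q' → (0 : Fin (t + 2)) = m →
        b0 = slotEl m (eG hf q) * slotEl n (eG hf q') → Sng C (a * b0) ∨ Dbl C (a * b0) := by
      intro m n q q' hmn hq hq' hm hb
      subst hm
      have hsn : Sng C (slotEl n (eG hf q')) := ⟨n, q', hq', rfl⟩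
      have hac : a * slotEl 0 (eG hf q) = slotEl 0 (eG hf q) * a := by
        have h9 := hb0c
        rw [hb, hadef, mul_assoc, ← slotEl_commute hmn, ← mul_assoc, ← mul_assoc] at h9
        rw [hadef]
        exact (mul_right_cancel h9).symm
      rw [hb, ← mul_assoc]
      by_cases he' : a = slotEl 0 (eG hf q)
      · rw [← he', ha.sq, one_mul]; exact Or.inl hsn
      · rw [hadef, slotEl_mul, slotEl_mul] at hac
        obtain ⟨u', hu', he''⟩ := eG_pair (C := C) hv hq (fun h => he' (by rw [hadef, h])) (slotEl_inj _ hac)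
        exact Or.inr ⟨0, n, u', q', hmn, hu', hq', by rw [hadef, slotEl_mul, he'']⟩
    have hcase : Sng C (a * b0) ∨ Dbl C (a * b0) := by
      rcases h0i with h | h
      · exact hsame hij hz₁ hz₂ h hb0'
      · exact hsame hij.symm hz₂ hz₁ h (by rw [hb0', slotEl_commute hij])
    rcases hcase with h | h
    · exact tw_cent (C := C) p hflag hbig hsub h hyM hyz
    · exact cent_dbl p hflag hbig hsub h hyM hyz
  · push Not at h0i
    refine cent_triple (C := C) p hflag hbig hsub hv hz₁ hz₂ h0i.1 h0i.2 hij hyM ?_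
    rw [mul_assoc, ← hadef, ← hb0']
    exact hyz

end CfsgLib.Classical22.OPow.Three
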